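import Cfsg.Agent.Lib.Block.Zas.Moebius
import Cfsg.Agent.Lib.Fus.PSLTwo

/-!
# Zassenhaus groups with half-size two-point stabilizer are `PSL(2, q)`
-/

set_option autoImplicit false

namespace Cfsg.Agent.Block.Zas

open MulAction OnePoint

universe u v

variable {G : Type u} {Ω : Type v} [Group G] [MulAction G Ω] [Finite G]

theorem isSquare_mul_of_not {K : Type*} [Field K] [Fintype K] (hK : ringChar K ≠ 2) {x y : K}
    (hx : ¬ IsSquare x) (hy : ¬ IsSquare y) : IsSquare (x * y) := by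
  have hx0 : x ≠ 0 := fun h => hx (h ▸ IsSquare.zero)
  have hy0 : y ≠ 0 := fun h => hy (h ▸ IsSquare.zero)
  have ex := (FiniteField.pow_dichotomy hK hx0).resolve_left fun h =>
    hx ((FiniteField.isSquare_iff hK hx0).mpr h)
  have ey := (FiniteField.pow_dichotomy hK hy0).resolve_left fun h =>
    hy ((FiniteField.isSquare_iff hK hy0).mpr h)
  rw [FiniteField.isSquare_iff hK (mul_ne_zero hx0 hy0), mul_pow, ex, ey, neg_one_mul, neg_neg]

/-- Some square differs by one from a non-square. -/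
theorem exists_square_sub_one {K : Type*} [Field K] [Fintype K]
    {d : ℕ} (hd : Fintype.card K = 2 * d + 1) (hm1 : IsSquare (-1 : K)) :
    ∃ x : K, x ≠ 0 ∧ IsSquare x ∧ ¬ IsSquare (x - 1) := by
  classical
  by_contra hcon
  push Not at hcon
  set Q : Finset K := Finset.univ.filter IsSquare with hQ
  have hmaps : ∀ x ∈ Q, x - 1 ∈ Q := by
    intro x hx
    simp only [hQ, Finset.mem_filter, Finset.mem_univ, true_and] at hx ⊢
    by_cases h0 : x = 0
    · simpa [h0] using hm1
    · exact hcon x h0 hx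
  have himg : Q.image (fun x => x - 1) = Q :=
    Finset.eq_of_subset_of_card_le (Finset.image_subset_iff.mpr hmaps)
      (by rw [Finset.card_image_of_injective _ fun a b h => sub_left_inj.mp h])
  have hsum : ∑ x ∈ Q, x = ∑ x ∈ Q, (x - 1) := by
    conv_lhs => rw [← himg]
    rw [Finset.sum_image fun a _ b _ h => sub_left_inj.mp h]
  rw [Finset.sum_sub_distrib, Finset.sum_const, nsmul_eq_mul, mul_one] at hsum
  have hQ0 : ((Q.card : ℕ) : K) = 0 := by linear_combination hsum
  have hsq : (Q.erase 0).card = d := by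
    let S : Finset Kˣ := Finset.univ.filter fun u => IsSquare u
    have h1 : (Q.erase 0).card = S.card := by
      refine (Finset.card_bij (s := S) (t := Q.erase 0) (fun u _ => (u : K)) (fun u hu => ?_)
        (fun a _ b _ h => Units.ext h) fun x hx => ?_).symm
      · simp only [S, Finset.mem_filter, Finset.mem_univ, true_and] at hu
        simp only [hQ, Finset.mem_erase, Finset.mem_filter, Finset.mem_univ, true_and]
        exact ⟨u.ne_zero, hu.map (Units.coeHom K)⟩
      · simp only [hQ, Finset.mem_erase, Finset.mem_filter, Finset.mem_univ, true_and] at hx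
        obtain ⟨r, hr⟩ := hx.2
        have hr0 : r ≠ 0 := fun h => hx.1 (by rw [hr, h, mul_zero])
        exact ⟨Units.mk0 x hx.1, by simpa [S] using ⟨Units.mk0 r hr0, Units.ext hr⟩, rfl⟩
    have h2 : S.card = Nat.card (powMonoidHom 2 : Kˣ →* Kˣ).range := by
      rw [Nat.card_eq_fintype_card, ← Fintype.card_coe]
      refine Fintype.card_congr (Equiv.subtypeEquivRight fun u => ?_)
      simp [S, isSquare_iff_exists_sq, eq_comm]
    rw [h1, h2, IsCyclic.card_powMonoidHom_range, Classical.natCard_units_field, hd,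
      show 2 * d + 1 - 1 = 2 * d by omega, Nat.gcd_mul_right_left]
    omega
  have hQc : Q.card = d + 1 := by
    rw [← hsq, Finset.card_erase_add_one (by simp [hQ])]
  rw [hQc, Nat.cast_add, Nat.cast_one] at hQ0
  have hK0 : ((2 * d + 1 : ℕ) : K) = 0 := by rw [← hd, Nat.cast_card_eq_zero]
  push_cast at hK0
  exact one_ne_zero (show (1 : K) = 0 by linear_combination 2 * hQ0 - hK0)

set_option maxHeartbeats 1000000 in
/-- Coordinates when the inverted two-point stabilizer has order `(n-1)/2`. -/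
theorem Frame.half_coord (D : Frame G Ω) (hn : 2 ≤ Nat.card D.F) (hH : D.H ≠ ⊥)
    (hhalf : 2 * Nat.card D.H = Nat.card D.F - 1)
    (hinv : ∀ s : G, s • D.a = D.b → s • D.b = D.a → ∀ h ∈ D.H, s * h * s⁻¹ = h⁻¹) :
    ∃ (K : Type) (_ : Field K) (_ : Fintype K) (_ : DecidableEq K) (e : OnePoint K ≃ Ω) (C : K)
      (χ : D.H →* Kˣ),
      ringChar K ≠ 2 ∧ Fintype.card K = Nat.card D.F ∧ e ∞ = D.a ∧ e ((0 : K) : OnePoint K) = D.b ∧
      C ≠ 0 ∧ IsSquare (-C) ∧ Function.Injective χ ∧
      (∀ h : D.H, IsSquare (χ h : K)) ∧ (∀ c : K, c ≠ 0 → IsSquare c → ∃ h : D.H, (χ h : K) = c) ∧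
      (∀ x : K, ∃ t ∈ D.F, ∀ y : OnePoint K, t • e y = e (y.map (· + x))) ∧
      (∀ (h : D.H) (y : OnePoint K), (h : G) • e y = e (y.map ((χ h : K) * ·))) ∧
      ∃ g : G, ∀ y : OnePoint K, g • e y = e (invMap C y) := by
  classical
  obtain ⟨pc, s, hpa, hpb, hs2, hsa, hsb, hspc⟩ : ∃ (pc : Ω) (s : G), pc ≠ D.a ∧ pc ≠ D.b ∧
      s * s = 1 ∧ s • D.a = D.b ∧ s • D.b = D.a ∧ (Even (Nat.card D.H) → s • pc = pc) := by
    obtain ⟨pc, hpa, hpb⟩ := D.exists_third hn (x := D.a) (y := D.b)
    rcases Nat.even_or_odd (Nat.card D.H) with he | ho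
    · obtain ⟨j, hj2, hja, hjb, hjc⟩ := D.exists_swap_fixing hn he hpa hpb
      exact ⟨pc, j, hpa, hpb, hj2, hja, hjb, fun _ => hjc⟩
    · obtain ⟨s, hsa, hsb⟩ := D.two D.hab D.b_ne
      refine ⟨pc, s, hpa, hpb, ?_, hsa, hsb, fun he => absurd he (Nat.not_even_iff_odd.mpr ho)⟩
      have hmem : s * s ∈ D.H := ⟨by
          show (s * s) • D.a = D.a
          rw [mul_smul, hsa, hsb], by
          show (s * s) • D.b = D.b
          rw [mul_smul, hsb, hsa]⟩
      have h4 : (s * s) ^ 2 = 1 := by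
        have h := hinv s hsa hsb _ hmem
        rw [show s * (s * s) * s⁻¹ = s * s by group] at h
        rw [sq]
        nth_rewrite 1 [h]
        exact inv_mul_cancel _
      have h5 := Nat.dvd_gcd (Subgroup.orderOf_dvd_natCard D.H hmem) (orderOf_dvd_of_pow_eq_one h4)
      rw [(Nat.coprime_two_right.mpr ho : Nat.gcd (Nat.card D.H) 2 = 1), Nat.dvd_one,
        orderOf_eq_one_iff] at h5
      exact h5
  have hHc : ∀ x ∈ D.H, ∀ y ∈ D.H, x * y = y * x := by
    intro x hx y hy
    have h := hinv s hsa hsb (x⁻¹ * y⁻¹) (mul_mem (inv_mem hx) (inv_mem hy))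
    have e : s * (x⁻¹ * y⁻¹) * s⁻¹ = (s * x * s⁻¹)⁻¹ * (s * y * s⁻¹)⁻¹ := by group
    rw [e, hinv s hsa hsb x hx, hinv s hsa hsb y hy, inv_inv, inv_inv, mul_inv_rev, inv_inv,
      inv_inv] at h
    exact h
  obtain ⟨K, _, _, e, χ, hcard, ha, hb, hpc, hχ, htr, hH'⟩ :=
    D.exists_coord hn hH (by omega) hHc hpa hpb
  have hd : Fintype.card K = 2 * Nat.card D.H + 1 := by omega
  have hd2 : Fintype.card K / 2 = Nat.card D.H := by omega
  have hK : ringChar K ≠ 2 := fun h => by
    have := FiniteField.even_card_iff_char_two.mp h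
    omega
  -- homotheties
  have hsqχ : ∀ h : D.H, IsSquare (χ h : K) := fun h => by
    rw [FiniteField.isSquare_iff hK (Units.ne_zero _), hd2, ← Units.val_pow_eq_pow_val, ← map_pow,
      pow_card_eq_one', map_one, Units.val_one]
  have hidx : χ.range.index = 2 := by
    have h1 := χ.range.card_mul_index
    rw [← Nat.card_congr (MonoidHom.ofInjective hχ).toEquiv, Classical.natCard_units_field, hd] at h1
    have : 0 < Nat.card D.H := Nat.card_pos
    exact Nat.eq_of_mul_eq_mul_left this (by omega)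
  have hsqrange : ∀ c : K, c ≠ 0 → IsSquare c → ∃ h : D.H, (χ h : K) = c := by
    intro c hc hcs
    obtain ⟨r, hr⟩ := hcs
    have hr0 : r ≠ 0 := fun h => hc (by rw [hr, h, mul_zero])
    obtain ⟨h, hh⟩ := Subgroup.mul_self_mem_of_index_two hidx (Units.mk0 r hr0)
    exact ⟨h, by rw [hh, Units.val_mul, Units.val_mk0, hr]⟩
  have hmul : ∀ c : K, c ≠ 0 → IsSquare c →
      ∃ g : G, ∀ y : OnePoint K, g • e y = e (y.map (c * ·)) := fun c hc hcs => by
    obtain ⟨h, rfl⟩ := hsqrange c hc hcs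
    exact ⟨h, hH' h⟩
  -- the map induced by the involution
  let σ : OnePoint K → OnePoint K := fun y => e.symm (s • e y)
  have hσ : ∀ y, s • e y = e (σ y) := fun y => (e.apply_symm_apply _).symm
  have hσσ : ∀ y, σ (σ y) = y := fun y =>
    e.injective (by rw [← hσ, ← hσ, ← mul_smul, hs2, one_smul])
  have hσi : σ ∞ = ((0 : K) : OnePoint K) := e.injective (by rw [← hσ, ha, hb, hsa])
  have hσ0 : σ ((0 : K) : OnePoint K) = ∞ := by rw [← hσi, hσσ]
  have hσm : ∀ c : K, c ≠ 0 → IsSquare c → ∀ y : OnePoint K,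
      σ (y.map (c * ·)) = (σ y).map (c⁻¹ * ·) := by
    intro c hc hcs y
    obtain ⟨h, rfl⟩ := hsqrange c hc hcs
    refine e.injective ?_
    rw [← hσ, ← hH' h y, ← Units.val_inv_eq_inv_val, ← map_inv, ← hH' h⁻¹ (σ y), ← hσ, ← mul_smul,
      ← mul_smul, Subgroup.coe_inv, ← hinv s hsa hsb h h.2]
    group
  let φ : K → K := fun x => (σ x).elim 0 id
  have hφ : ∀ x : K, x ≠ 0 → σ x = ((φ x : K) : OnePoint K) ∧ φ x ≠ 0 := by
    intro x hx
    have h1 : σ (x : OnePoint K) ≠ ∞ := fun h => hx (coe_injective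
      ((hσσ x).symm.trans ((congrArg σ h).trans hσi)))
    have h2 : σ (x : OnePoint K) ≠ ((0 : K) : OnePoint K) := fun h => coe_ne_infty x
      ((hσσ x).symm.trans ((congrArg σ h).trans hσ0))
    show _ = (((σ (x : OnePoint K)).elim 0 id : K) : OnePoint K) ∧ (σ (x : OnePoint K)).elim 0 id ≠ 0
    cases hy : σ (x : OnePoint K) with
    | infty => exact absurd hy h1
    | coe y => exact ⟨rfl, fun h => h2 (by rw [hy]; exact congrArg _ h)⟩
  have hφφ : ∀ x : K, x ≠ 0 → φ (φ x) = x := by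
    intro x hx
    have h := hσσ (x : OnePoint K)
    rw [(hφ x hx).1, (hφ _ (hφ x hx).2).1] at h
    exact coe_injective h
  have hφm : ∀ c x : K, c ≠ 0 → IsSquare c → x ≠ 0 → φ (c * x) = c⁻¹ * φ x := by
    intro c x hc hcs hx
    have h := hσm c hc hcs (x : OnePoint K)
    rw [OnePoint.map_some, (hφ _ (mul_ne_zero hc hx)).1, (hφ x hx).1, OnePoint.map_some] at h
    exact coe_injective h
  obtain ⟨ν, hν⟩ := FiniteField.exists_nonsquare hK
  have hν0 : ν ≠ 0 := fun h => hν (h ▸ IsSquare.zero)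
  have hc1 : φ 1 ≠ 0 := (hφ 1 one_ne_zero).2
  have hc2 : φ ν * ν ≠ 0 := mul_ne_zero (hφ ν hν0).2 hν0
  have hsq1 : ∀ x : K, x ≠ 0 → IsSquare x → φ x = φ 1 / x := fun x hx hxs => by
    rw [div_eq_inv_mul, ← hφm x 1 hx hxs one_ne_zero, mul_one]
  have hns : ∀ x : K, ¬ IsSquare x → φ x = φ ν * ν / x := fun x hxs => by
    have hx : x ≠ 0 := fun h => hxs (h ▸ IsSquare.zero)
    have h1 : IsSquare (x * ν⁻¹) := isSquare_mul_of_not hK hxs fun h => hν (by simpa using h.inv)
    calc φ x = φ (x * ν⁻¹ * ν) := by rw [inv_mul_cancel_right₀ hν0]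
      _ = (x * ν⁻¹)⁻¹ * φ ν := hφm _ _ (mul_ne_zero hx (inv_ne_zero hν0)) h1 hν0
      _ = φ ν * ν / x := by rw [mul_inv, inv_inv]; ring
  -- a product of three conjugate involutions and translations lies in the two-point stabilizer
  have key : ∀ u : K, u ≠ 0 → ∃ c : K, c ≠ 0 ∧ IsSquare c ∧ ∀ y : OnePoint K,
      (σ ((σ ((σ y).map (· + φ (-u)))).map (· + u))).map (· + -φ u) = y.map (c * ·) := by
    intro u hu
    obtain ⟨t1, -, ht1⟩ := htr (φ (-u))
    obtain ⟨t2, -, ht2⟩ := htr u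
    obtain ⟨t3, -, ht3⟩ := htr (-φ u)
    have hg : ∀ y, (t3 * s * t2 * s * t1 * s) • e y =
        e ((σ ((σ ((σ y).map (· + φ (-u)))).map (· + u))).map (· + -φ u)) := fun y => by
      rw [mul_smul, mul_smul, mul_smul, mul_smul, mul_smul, hσ, ht1, hσ, ht2, hσ, ht3]
    have hu' : -u ≠ 0 := neg_ne_zero.mpr hu
    have hmem : t3 * s * t2 * s * t1 * s ∈ D.H := by
      constructor
      · show _ • D.a = D.a
        rw [← ha, hg]
        simp [hσi, (hφ _ (hφ _ hu').2).1, hφφ _ hu', hσ0]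
      · show _ • D.b = D.b
        rw [← hb, hg]
        simp [hσ0, hσi, (hφ u hu).1]
    refine ⟨χ ⟨_, hmem⟩, Units.ne_zero _, hsqχ _, fun y => e.injective ?_⟩
    rw [← hg, ← hH' ⟨_, hmem⟩ y]
  -- all values of `φ`
  obtain ⟨C, hC, hC2, hval⟩ : ∃ C : K, C ≠ 0 ∧ IsSquare (-C) ∧ ∀ x : K, x ≠ 0 → φ x = C / x := by
    suffices h : φ ν * ν = φ 1 ∧ IsSquare (-φ 1) from ⟨φ 1, hc1, h.2, fun x hx => by
      by_cases hxs : IsSquare x
      · exact hsq1 x hx hxs
      · rw [hns x hxs, h.1]⟩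
    obtain ⟨c, hc0, hcs, hc⟩ := key 1 one_ne_zero
    rcases Nat.even_or_odd (Nat.card D.H) with he | ho
    · have hm1 : IsSquare (-1 : K) := by
        rw [FiniteField.isSquare_iff hK (neg_ne_zero.mpr one_ne_zero), hd2, he.neg_one_pow]
      have h11 : φ 1 = 1 := by
        have h : σ ((1 : K) : OnePoint K) = ((1 : K) : OnePoint K) :=
          e.injective (by rw [← hσ, hpc, hspc he])
        rw [(hφ 1 one_ne_zero).1] at h
        exact coe_injective h
      have hφm1 : φ (-1) = -1 := by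
        rw [hsq1 _ (neg_ne_zero.mpr one_ne_zero) hm1, h11, div_neg, div_one]
      have hc2s : IsSquare (φ ν * ν) := by
        by_contra hs
        have h1 : IsSquare (φ ν) := by
          have := isSquare_mul_of_not hK hs (show ¬ IsSquare ν⁻¹ from fun h => hν (by simpa using h.inv))
          rwa [mul_inv_cancel_right₀ hν0] at this
        have h2 := hφφ ν hν0
        rw [hsq1 _ (hφ ν hν0).2 h1, h11, div_eq_iff (hφ ν hν0).2, mul_comm] at h2
        exact hs (h2 ▸ IsSquare.one)
      refine ⟨?_, by rwa [h11]⟩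
      rw [h11]
      obtain rfl : c = -1 := by
        have h := hc ((1 : K) : OnePoint K)
        rw [(hφ 1 one_ne_zero).1, h11, hφm1] at h
        simp only [OnePoint.map_some, add_neg_cancel, hσ0, OnePoint.map_infty, hσi, h11, zero_add,
          mul_one, coe_eq_coe] at h
        exact h.symm
      obtain ⟨x, hx0, hxs, hx1⟩ := exists_square_sub_one hd hm1
      have hw0 : x - 1 ≠ 0 := fun h => hx1 (h ▸ IsSquare.zero)
      have h := hc ((x⁻¹ : K) : OnePoint K)
      rw [(hφ _ (inv_ne_zero hx0)).1, hsq1 _ (inv_ne_zero hx0) hxs.inv, h11, one_div, inv_inv,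
        hφm1] at h
      simp only [OnePoint.map_some, ← sub_eq_add_neg] at h
      rw [(hφ _ hw0).1, hns _ hx1] at h
      simp only [OnePoint.map_some] at h
      set κ := φ ν * ν with hκ
      by_cases hz : κ / (x - 1) + 1 = 0
      · rw [hz, hσ0] at h
        simp at h
      rw [(hφ _ hz).1] at h
      simp only [OnePoint.map_some, h11, coe_eq_coe] at h
      have hz' : κ + (x - 1) ≠ 0 := fun h0 => hz (by
        rw [div_add_one hw0, h0, zero_div])
      by_cases hzs : IsSquare (κ / (x - 1) + 1)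
      · rw [hsq1 _ hz hzs, h11, div_add_one hw0] at h
        field_simp at h
        have h3 : (κ - 1) * (x - 1) = 0 := by linear_combination -h
        exact sub_eq_zero.mp ((mul_eq_zero.mp h3).resolve_right hw0)
      · rw [hns _ hzs, div_add_one hw0] at h
        field_simp at h
        have h3 : (κ - 1) * ((x - 1) * (x - 1)) = 0 := by linear_combination h
        exact sub_eq_zero.mp ((mul_eq_zero.mp h3).resolve_right (mul_ne_zero hw0 hw0))
    · have hm1 : ¬ IsSquare (-1 : K) := by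
        rw [FiniteField.isSquare_iff hK (neg_ne_zero.mpr one_ne_zero), hd2, ho.neg_one_pow]
        exact Ring.neg_one_ne_one_of_char_ne_two hK
      have hc1n : ¬ IsSquare (φ 1) := by
        intro hc1s
        have hc2s : IsSquare (φ ν * ν) := by
          by_contra hs
          have h1 : IsSquare (φ ν) := by
            have := isSquare_mul_of_not hK hs (show ¬ IsSquare ν⁻¹ from fun h => hν (by simpa using h.inv))
            rwa [mul_inv_cancel_right₀ hν0] at this
          have h2 := hφφ ν hν0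
          rw [hsq1 _ (hφ ν hν0).2 h1, div_eq_iff (hφ ν hν0).2, mul_comm] at h2
          exact hs (h2 ▸ hc1s)
        have hm : φ (-1) = -(φ ν * ν) := by rw [hns _ hm1, div_neg, div_one]
        have hb2 : φ (φ ν * ν) = φ 1 / (φ ν * ν) := hsq1 _ hc2 hc2s
        have h := hc ((φ (φ ν * ν) : K) : OnePoint K)
        rw [(hφ _ (hφ _ hc2).2).1, hφφ _ hc2, hm] at h
        simp only [OnePoint.map_some, add_neg_cancel, hσ0, OnePoint.map_infty, hσi, zero_add,
          coe_eq_coe, hb2] at h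
        have h3 : c = -(φ ν * ν) := by
          rw [mul_div_assoc', eq_div_iff hc2] at h
          exact mul_right_cancel₀ hc1 (by linear_combination -h)
        refine hm1 ?_
        have h4 := (hcs.mul hc2s.inv)
        rwa [h3, neg_mul, mul_inv_cancel₀ hc2] at h4
      refine ⟨?_, by simpa using isSquare_mul_of_not hK hm1 hc1n⟩
      have h2 := hφφ 1 one_ne_zero
      rw [hns _ hc1n, div_eq_iff hc1, one_mul] at h2
      exact h2
  have hinvC : ∃ g : G, ∀ y : OnePoint K, g • e y = e (invMap C y) := by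
    refine ⟨s, fun y => ?_⟩
    rw [hσ]
    congr 1
    cases y with
    | infty => simpa [invMap] using hσi
    | coe x =>
      simp only [invMap, OnePoint.elim_some]
      by_cases hx : x = 0
      · rw [if_pos hx, hx, hσ0]
      · rw [if_neg hx, (hφ x hx).1, hval x hx]
  exact ⟨K, inferInstance, inferInstance, inferInstance, e, C, χ, hK, hcard, ha, hb, hC, hC2, hχ, hsqχ,
    hsqrange, htr, hH', hinvC⟩

/-- A Zassenhaus group whose inverted two-point stabilizer has order `(n-1)/2` is `PSL(2, n)`. -/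
theorem Frame.iso_psl_of_half (D : Frame G Ω) (hn : 2 ≤ Nat.card D.F) (hH : D.H ≠ ⊥)
    (hhalf : 2 * Nat.card D.H = Nat.card D.F - 1)
    (hinv : ∀ s : G, s • D.a = D.b → s • D.b = D.a → ∀ h ∈ D.H, s * h * s⁻¹ = h⁻¹) :
    ∃ (K : Type) (_ : Field K) (_ : Fintype K), ringChar K ≠ 2 ∧ Fintype.card K = Nat.card D.F ∧
      Nonempty (G ≃* Matrix.ProjectiveSpecialLinearGroup (Fin 2) K) := by
  obtain ⟨K, _, _, _, e, C, χ, hK, hcard, -, -, hC, hC2, -, -, hsqrange, htr, hH', hinvC⟩ :=
    D.half_coord hn hH hhalf hinv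
  have hd : Fintype.card K = 2 * Nat.card D.H + 1 := by omega
  refine ⟨K, inferInstance, inferInstance, hK, hcard, ?_⟩
  refine iso_psl e (fun g hg => D.faithful hn hg) hC hC2 (fun x => ?_) (fun c hc hcs => ?_) hinvC ?_
  · obtain ⟨t, -, ht⟩ := htr x
    exact ⟨t, ht⟩
  · obtain ⟨h, rfl⟩ := hsqrange c hc hcs
    exact ⟨h, hH' h⟩
  · have h1 := Classical.natCard_PSL_mul (F := K) 2 (by norm_num)
    rw [Fus.PSLTwo.natCard_SL_two, Classical.natCard_units_field, hd,
      show 2 * Nat.card D.H + 1 - 1 = 2 * Nat.card D.H by omega, Nat.gcd_mul_right_right] at h1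
    rw [D.card_group, ← hcard, hd]
    rw [show (2 * Nat.card D.H + 1) * (2 * Nat.card D.H * (2 * Nat.card D.H + 1 + 1)) =
      2 * ((2 * Nat.card D.H + 1 + 1) * ((2 * Nat.card D.H + 1) * Nat.card D.H)) by ring] at h1
    exact Nat.eq_of_mul_eq_mul_left (show 0 < 2 by norm_num) h1

end Cfsg.Agent.Block.Zas
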