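import Cfsg.Agent.Lib.Block.Zas.Involution

/-!
# Zassenhaus groups: two-point stabilizers of odd order without normal complements
-/

set_option autoImplicit false

namespace Cfsg.Agent.Block.Zas

open MulAction
open scoped commutatorElement

universe u v

/-- Endomorphisms of a finite cyclic group commute. -/
theorem cyclic_end_comm {C : Type*} [Group C] [IsCyclic C] (f g : C →* C) (x : C) :
    f (g x) = g (f x) := by
  obtain ⟨m, hm⟩ := f.map_cyclic
  rw [hm, hm, map_zpow]

variable {G : Type u} {Ω : Type v} [Group G] [MulAction G Ω] [Finite G]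

theorem Frame.fix_only (D : Frame G Ω) {x : G} (hx : x ∈ D.H) (hx1 : x ≠ 1) {y : Ω}
    (hy : x • y = y) : y = D.a ∨ y = D.b := by
  by_contra h
  push Not at h
  exact hx1 (D.free3 x D.a D.b y D.hab h.2.symm h.1.symm hx.1 hx.2 hy)

theorem Frame.factorization_eq (D : Frame G Ω) (hn : 2 ≤ Nat.card D.F) (hodd : Odd (Nat.card D.H))
    {q : ℕ} (hq : q.Prime) (hqd : q ∣ Nat.card D.H) :
    (Nat.card G).factorization q = (Nat.card D.H).factorization q := by
  have hF0 : Nat.card D.F ≠ 0 := Nat.card_pos.ne'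
  have hH0 : Nat.card D.H ≠ 0 := Nat.card_pos.ne'
  have h1 : q ∣ Nat.card D.F - 1 := hqd.trans D.card_H_dvd
  have hn1 : ¬ q ∣ Nat.card D.F := fun h => by
    have := Nat.dvd_sub h h1
    rw [show Nat.card D.F - (Nat.card D.F - 1) = 1 by omega] at this
    exact hq.one_lt.ne' (Nat.dvd_one.mp this)
  have hn2 : ¬ q ∣ Nat.card D.F + 1 := fun h => by
    have := Nat.dvd_sub h h1
    rw [show Nat.card D.F + 1 - (Nat.card D.F - 1) = 2 by omega] at this
    have h2 := (Nat.prime_dvd_prime_iff_eq hq Nat.prime_two).mp this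
    subst h2
    exact (Nat.not_even_iff_odd.mpr hodd) (even_iff_two_dvd.mpr hqd)
  rw [D.card_group, Nat.factorization_mul (by omega) (Nat.mul_ne_zero hF0 hH0),
    Nat.factorization_mul hF0 hH0]
  simp [Nat.factorization_eq_zero_of_not_dvd hn1, Nat.factorization_eq_zero_of_not_dvd hn2]

theorem Frame.isZGroup (D : Frame G Ω) (hn : 2 ≤ Nat.card D.F) (hodd : Odd (Nat.card D.H))
    (hH : D.H ≠ ⊥) : IsZGroup D.H := by
  haveI : Nontrivial D.F := Finite.one_lt_card_iff_nontrivial.mp (by omega)
  haveI : Nontrivial D.H := (Subgroup.nontrivial_iff_ne_bot _).mpr hH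
  let φ : D.H →* MulAut D.F :=
    { toFun := fun h =>
        { toFun := fun u => ⟨(h : G) * u * (h : G)⁻¹, D.H_conj h.2 u.2⟩
          invFun := fun u => ⟨(h : G)⁻¹ * u * h, by simpa using D.H_conj (inv_mem h.2) u.2⟩
          left_inv := fun u => Subtype.ext (by simp [mul_assoc])
          right_inv := fun u => Subtype.ext (by simp [mul_assoc])
          map_mul' := fun u w => Subtype.ext (by simp [mul_assoc]) }
      map_one' := MulEquiv.ext fun u => Subtype.ext (by simp)
      map_mul' := fun g h => MulEquiv.ext fun u => Subtype.ext (by simp [mul_assoc]) }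
  have hfpf := Cfsg.Agent.Grp.Zas.hasFpf_of_fpf_aut φ fun h hh1 u hu => by
    rcases D.fpf h.2 u.2 (congrArg Subtype.val hu) with e | e
    · exact Subtype.ext e
    · exact absurd (Subtype.ext e) hh1
  refine ⟨fun p hp P => ?_⟩
  haveI := Fact.mk hp
  by_cases h2 : p = 2
  · have h1 : Nat.card (P : Subgroup D.H) = 1 := by
      rw [P.card_eq_multiplicity, Nat.factorization_eq_zero_of_not_dvd, pow_zero]
      rw [h2]
      exact fun h => (Nat.not_even_iff_odd.mpr hodd) (even_iff_two_dvd.mpr h)
    haveI := (Nat.card_eq_one_iff_unique.mp h1).1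
    exact isCyclic_of_subsingleton
  · exact hfpf.sylow_cyclic h2 P

theorem Frame.swap_conj_mem (D : Frame G Ω) {s : G} (hsa : s • D.a = D.b) (hsb : s • D.b = D.a)
    (h : D.H) : s * (h : G) * s⁻¹ ∈ D.H := by
  have hai : s⁻¹ • D.a = D.b := by rw [inv_smul_eq_iff, hsb]
  have hbi : s⁻¹ • D.b = D.a := by rw [inv_smul_eq_iff, hsa]
  constructor
  · show (s * h * s⁻¹) • D.a = D.a
    rw [mul_smul, mul_smul, hai, h.2.2, hsb]
  · show (s * h * s⁻¹) • D.b = D.b
    rw [mul_smul, mul_smul, hbi, h.2.1, hsa]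

/-- Conjugation of the two-point stabilizer by an exchanging element. -/
def Frame.swapConj (D : Frame G Ω) {s : G} (hsa : s • D.a = D.b) (hsb : s • D.b = D.a) :
    D.H →* D.H where
  toFun h := ⟨s * h * s⁻¹, D.swap_conj_mem hsa hsb h⟩
  map_one' := Subtype.ext (by simp)
  map_mul' g h := Subtype.ext (by simp [mul_assoc])

/-- Without normal complements the two-point stabilizer is cyclic and inverted by every exchange. -/
theorem Frame.inversion_of_no_complement (D : Frame G Ω) (hn : 2 ≤ Nat.card D.F) (hH : D.H ≠ ⊥)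
    (hodd : Odd (Nat.card D.H))
    (hnil : ∀ q : ℕ, q.Prime → q ∣ Nat.card D.H →
      ¬ ∃ N : Subgroup G, N.Normal ∧ N.index = q ^ (Nat.card G).factorization q) :
    IsCyclic D.H ∧ (∀ s : G, s • D.a = D.b → s • D.b = D.a → ∀ h ∈ D.H, s * h * s⁻¹ = h⁻¹) ∧
      Subgroup.centralizer (D.H : Set G) = D.H := by
  classical
  haveI := D.isZGroup hn hodd hH
  set C := commutator D.H with hCdef
  haveI hCc : IsCyclic C := IsZGroup.isCyclic_commutator _
  have hcop := IsZGroup.coprime_commutator_index (G := D.H)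
  have key : ∀ s : G, s • D.a = D.b → s • D.b = D.a → ∀ h : D.H, ∃ c ∈ C,
      s * h * s⁻¹ = (h : G)⁻¹ * (c : G) := by
    intro s hsa hsb
    let σ := D.swapConj hsa hsb
    let η : D.H →* Abelianization D.H := Abelianization.of
    let T : Subgroup D.H := (η.comp σ * η).ker
    have hker : ∀ x : D.H, η x = 1 ↔ x ∈ C := fun x => QuotientGroup.eq_one_iff x
    have hT : T = ⊤ := by
      refine Subgroup.eq_top_of_card_eq T (Nat.dvd_antisymm (Subgroup.card_subgroup_dvd_card T) ?_)
      rw [Nat.dvd_iff_prime_pow_dvd_dvd]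
      intro q k hq hqk
      haveI := Fact.mk hq
      rcases Nat.eq_zero_or_pos k with rfl | hk
      · simp
      obtain ⟨Q⟩ : Nonempty (Sylow q D.H) := inferInstance
      refine dvd_trans ?_ (Subgroup.card_dvd_of_le (show (Q : Subgroup D.H) ≤ T from ?_))
      · rw [Q.card_eq_multiplicity]
        exact Nat.pow_dvd_pow q ((hq.pow_dvd_iff_le_factorization Nat.card_pos.ne').mp hqk)
      have hqd : q ∣ Nat.card D.H := (dvd_pow_self q hk.ne').trans hqk
      intro x hx
      show η (σ x) * η x = 1
      by_cases hqC : q ∣ Nat.card C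
      · have hxC : x ∈ C := by
          rw [← hker]
          obtain ⟨j, hj⟩ := Q.isPGroup' ⟨x, hx⟩
          have hj' : x ^ q ^ j = 1 := congrArg Subtype.val hj
          have hA : Nat.card (Abelianization D.H) = C.index := rfl
          have h1 : orderOf (η x) ∣ Nat.gcd (q ^ j) C.index := Nat.dvd_gcd
            (orderOf_dvd_of_pow_eq_one (by rw [← map_pow, hj', map_one]))
            (hA ▸ orderOf_dvd_natCard _)
          have h2 : Nat.gcd (q ^ j) C.index = 1 :=
            (Nat.Coprime.coprime_dvd_left hqC hcop).pow_left j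
          rw [h2, Nat.dvd_one, orderOf_eq_one_iff] at h1
          exact h1
        have : σ x ∈ C := by
          have hle : C.map σ ≤ C := by
            rw [hCdef, map_commutator_eq]
            exact Subgroup.commutator_mono le_top le_top
          exact hle ⟨x, hxC, rfl⟩
        rw [(hker _).mpr hxC, (hker _).mpr this, mul_one]
      set QG : Subgroup G := (Q : Subgroup D.H).map D.H.subtype with hQG
      have hQcard : Nat.card QG = Nat.card (Q : Subgroup D.H) :=
        Subgroup.card_map_of_injective D.H.subtype_injective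
      have hQcard' : Nat.card QG = q ^ (Nat.card G).factorization q := by
        rw [hQcard, Q.card_eq_multiplicity, D.factorization_eq hn hodd hq hqd]
      let P : Sylow q G := Sylow.ofCard QG hQcard'
      have hP : (P : Subgroup G) = QG := rfl
      have hncent : ¬ Subgroup.normalizer (QG : Set G) ≤ Subgroup.centralizer (QG : Set G) := by
        intro hle
        refine hnil q hq hqd ⟨_, MonoidHom.normal_ker (MonoidHom.transferSylow P hle), ?_⟩
        rw [(MonoidHom.ker_transferSylow_isComplement' P hle).symm.index_eq_card, hP, hQcard']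
      obtain ⟨g, hgN, hgC⟩ := SetLike.not_le_iff_exists.mp hncent
      have hcent : ∀ k ∈ D.H, k ∈ Subgroup.normalizer (QG : Set G) → ∀ y ∈ QG, k * y * k⁻¹ = y := by
        rintro k hk hkN _ ⟨y, hy, rfl⟩
        obtain ⟨z, hz, hzy⟩ := (Subgroup.mem_normalizer_iff.mp hkN _).mp
          (show (y : G) ∈ QG from ⟨y, hy, rfl⟩)
        have hzy' : (z : G) = k * y * k⁻¹ := hzy
        have hc : z * y⁻¹ ∈ C := by
          have e : z * y⁻¹ = ⁅(⟨k, hk⟩ : D.H), y⁆ :=
            Subtype.ext (by simp [hzy', commutatorElement_def])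
          rw [e]
          exact Subgroup.commutator_mem_commutator (Subgroup.mem_top _) (Subgroup.mem_top _)
        have h1 : z * y⁻¹ = 1 := by
          obtain ⟨j, hj⟩ := Q.isPGroup' ⟨z * y⁻¹, mul_mem hz (inv_mem hy)⟩
          have hj' : (z * y⁻¹) ^ q ^ j = 1 := congrArg Subtype.val hj
          have h2 : orderOf (z * y⁻¹) ∣ Nat.gcd (q ^ j) (Nat.card C) :=
            Nat.dvd_gcd (orderOf_dvd_of_pow_eq_one hj') (Subgroup.orderOf_dvd_natCard C hc)
          have h3 : Nat.gcd (q ^ j) (Nat.card C) = 1 := ((hq.coprime_iff_not_dvd).mpr hqC).pow_left j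
          rwa [h3, Nat.dvd_one, orderOf_eq_one_iff] at h2
        show k * (y : G) * k⁻¹ = y
        rw [← hzy', mul_inv_eq_one.mp h1]
      have hgHs : g • D.a = D.b ∧ g • D.b = D.a := by
        haveI : Nontrivial QG := Finite.one_lt_card_iff_nontrivial.mp (by
          rw [hQcard']
          exact Nat.one_lt_pow (by
            rw [D.factorization_eq hn hodd hq hqd]
            exact (hq.factorization_pos_of_dvd Nat.card_pos.ne' hqd).ne') hq.one_lt)
        obtain ⟨⟨y, hy⟩, hy1⟩ := exists_ne (1 : QG)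
        have hy1' : y ≠ 1 := fun e => hy1 (Subtype.ext e)
        obtain ⟨y'', -, hy''⟩ := (Subgroup.mem_normalizer_iff.mp hgN y).mp hy
        obtain ⟨y', -, hy'⟩ := hy
        have hyH : y ∈ D.H := hy' ▸ y'.2
        have hgyH : g * y * g⁻¹ ∈ D.H := hy'' ▸ y''.2
        have hfix : ∀ z : Ω, y • z = z → (g * y * g⁻¹) • g • z = g • z := fun z hz => by
          rw [mul_smul, mul_smul, inv_smul_smul, hz]
        have hgne : g * y * g⁻¹ ≠ 1 := fun e => hy1' (conj_eq_one_iff.mp e)
        rcases D.fix_only hgyH hgne (hfix _ hyH.1) with ea | ea <;>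
          rcases D.fix_only hgyH hgne (hfix _ hyH.2) with eb | eb
        · exact absurd (smul_left_cancel g (ea.trans eb.symm)) D.hab
        · exact absurd (Subgroup.mem_centralizer_iff.mpr fun z hz =>
            (mul_inv_eq_iff_eq_mul.mp (hcent g ⟨ea, eb⟩ hgN z hz)).symm) hgC
        · exact ⟨ea, eb⟩
        · exact absurd (smul_left_cancel g (ea.trans eb.symm)) D.hab
      have hg2 : g * g ∈ D.H := ⟨by
          show (g * g) • D.a = D.a
          rw [mul_smul, hgHs.1, hgHs.2], by
          show (g * g) • D.b = D.b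
          rw [mul_smul, hgHs.2, hgHs.1]⟩
      obtain ⟨w, hw, hwg⟩ : ∃ w : G, w ∈ D.H ∧ g = w * s :=
        ⟨g * s⁻¹, D.swap_mul ⟨hsa, hsb⟩ hgHs, by group⟩
      have hconjQ : ∀ y ∈ QG, g * y * g⁻¹ ∈ QG := fun y hy => (Subgroup.mem_normalizer_iff.mp hgN y).mp hy
      haveI hQc : IsCyclic QG :=
        isCyclic_of_surjective ((Q : Subgroup D.H).equivMapOfInjective _ D.H.subtype_injective).toMonoidHom
          (MulEquiv.surjective _)
      have hQcomm : ∀ y ∈ QG, ∀ z ∈ QG, y * z = z * y := fun y hy z hz =>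
        congrArg Subtype.val (mul_comm' (⟨y, hy⟩ : QG) ⟨z, hz⟩)
      have hinv2 : ∀ y ∈ QG, g * (g * y * g⁻¹) * g⁻¹ = y := fun y hy => by
        have := hcent (g * g) hg2 (mul_mem hgN hgN) y hy
        calc g * (g * y * g⁻¹) * g⁻¹ = g * g * y * (g * g)⁻¹ := by group
          _ = y := this
      have hoddQ : Odd (Nat.card QG) := by
        rw [hQcard']
        refine Odd.pow ?_
        exact hodd.of_dvd_nat hqd
      have hinvert : ∀ y ∈ QG, g * y * g⁻¹ = y⁻¹ := by
        obtain ⟨⟨y, hy⟩, hgen⟩ := IsCyclic.exists_generator (α := QG)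
        have hgen' : ∀ z ∈ QG, ∃ j : ℕ, z = y ^ j := fun z hz => by
          obtain ⟨j, hj⟩ := mem_powers_iff_mem_zpowers.mpr (hgen ⟨z, hz⟩)
          exact ⟨j, (congrArg Subtype.val hj).symm⟩
        obtain ⟨m, hm⟩ := hgen' _ (hconjQ y hy)
        have hN : orderOf y ∣ q ^ (Nat.card G).factorization q := hQcard' ▸ QG.orderOf_dvd_natCard hy
        obtain ⟨e, -, he⟩ := (Nat.dvd_prime_pow hq).mp hN
        have hgpow : ∀ (z : G) (j : ℕ), g * z ^ j * g⁻¹ = (g * z * g⁻¹) ^ j := fun z j => (conj_pow).symm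
        intro z hz
        obtain ⟨j, rfl⟩ := hgen' z hz
        rw [hgpow, ← inv_pow]
        congr 1
        rcases Nat.eq_zero_or_pos e with he0 | he0
        · have hy1 : y = 1 := orderOf_eq_one_iff.mp (by rw [he, he0, pow_zero])
          simp [hy1]
        have hqN : q ∣ orderOf y := he ▸ dvd_pow_self q he0.ne'
        by_cases hqm : q ∣ m + 1
        · have hq2 : q ≠ 2 := fun e' => (Nat.not_even_iff_odd.mpr hodd)
            (even_iff_two_dvd.mpr (e' ▸ hqd))
          have hN1 : 1 ≤ orderOf y := orderOf_pos y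
          set k := m + (orderOf y - 1) with hk
          have hi : y ^ k = y⁻¹ * (g * y * g⁻¹) := by
            rw [hm, eq_inv_mul_iff_mul_eq, ← pow_succ', hk,
              show m + (orderOf y - 1) + 1 = m + orderOf y by omega, pow_add, pow_orderOf_eq_one,
              mul_one]
          have hinvi : g * y ^ k * g⁻¹ = (y ^ k)⁻¹ := by
            rw [hi]
            calc g * (y⁻¹ * (g * y * g⁻¹)) * g⁻¹ = (g * y * g⁻¹)⁻¹ * (g * (g * y * g⁻¹) * g⁻¹) := by group
              _ = (g * y * g⁻¹)⁻¹ * y := by rw [hinv2 y hy]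
              _ = _ := by group
          have hcopk : k.Coprime (orderOf y) := by
            rw [he]
            refine Nat.Coprime.pow_right e ((hq.coprime_iff_not_dvd.mpr fun h => ?_).symm)
            have h2 : q ∣ m + 1 + orderOf y := dvd_add hqm hqN
            have h3 := Nat.dvd_sub h2 h
            rw [show m + 1 + orderOf y - k = 2 by omega] at h3
            exact hq2 ((Nat.prime_dvd_prime_iff_eq hq Nat.prime_two).mp h3)
          obtain ⟨l, hl⟩ := exists_pow_eq_self_of_coprime hcopk
          calc g * y * g⁻¹ = g * (y ^ k) ^ l * g⁻¹ := by rw [hl]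
            _ = ((y ^ k)⁻¹) ^ l := by rw [hgpow, hinvi]
            _ = y⁻¹ := by rw [inv_pow, hl]
        · exfalso
          have hf : y ^ (m + 1) = (g * y * g⁻¹) * y := by rw [pow_succ, hm]
          have hfixf : g * y ^ (m + 1) * g⁻¹ = y ^ (m + 1) := by
            rw [hf]
            calc g * (g * y * g⁻¹ * y) * g⁻¹ = (g * (g * y * g⁻¹) * g⁻¹) * (g * y * g⁻¹) := by group
              _ = y * (g * y * g⁻¹) := by rw [hinv2 y hy]
              _ = _ := hQcomm y hy _ (hconjQ y hy)
          obtain ⟨l, hl⟩ := exists_pow_eq_self_of_coprime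
            (show (m + 1).Coprime (orderOf y) by
              rw [he]; exact Nat.Coprime.pow_right e (hq.coprime_iff_not_dvd.mpr hqm).symm)
          have hfy : g * y * g⁻¹ = y := by
            calc g * y * g⁻¹ = g * (y ^ (m + 1)) ^ l * g⁻¹ := by rw [hl]
              _ = y := by rw [hgpow, hfixf, hl]
          refine hgC (Subgroup.mem_centralizer_iff.mpr fun z hz => ?_)
          obtain ⟨i, rfl⟩ := hgen' z hz
          exact (mul_inv_eq_iff_eq_mul.mp (by rw [hgpow, hfy] : g * y ^ i * g⁻¹ = y ^ i)).symm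
      have hxG : (x : G) ∈ QG := ⟨x, hx, rfl⟩
      have hcalc : s * (x : G) * s⁻¹ = w⁻¹ * (x : G)⁻¹ * w := by
        rw [← hinvert _ hxG, hwg]; group
      have hσx : σ x = (⟨w, hw⟩ : D.H)⁻¹ * x⁻¹ * ⟨w, hw⟩ := Subtype.ext hcalc
      rw [hσx, map_mul, map_mul, map_inv, map_inv, mul_right_comm (η ⟨w, hw⟩)⁻¹]
      group
    intro h
    have hh : η (σ h) * η h = 1 := (hT ▸ Subgroup.mem_top h : h ∈ T)
    refine ⟨h * σ h, ?_, by simp [σ, Frame.swapConj, mul_assoc]⟩
    rw [← hker, map_mul, mul_comm, hh]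
  obtain ⟨s, hsa, hsb⟩ := D.two D.hab D.b_ne
  have hcenter : C ≤ Subgroup.center D.H := by
    let σ := D.swapConj hsa hsb
    have hσC : ∀ c ∈ C, σ c ∈ C := fun c hc => by
      have hle : C.map σ ≤ C := by
        rw [hCdef, map_commutator_eq]
        exact Subgroup.commutator_mono le_top le_top
      exact hle ⟨c, hc, rfl⟩
    let τ : C →* C :=
      { toFun := fun c => ⟨σ c, hσC c c.2⟩
        map_one' := Subtype.ext (map_one σ)
        map_mul' := fun a b => Subtype.ext (map_mul σ (a : D.H) (b : D.H)) }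
    have hτ : Function.Surjective τ := Finite.injective_iff_surjective.mp fun a b hab => by
      have := congrArg (fun x : C => ((x : D.H) : G)) hab
      exact Subtype.ext (Subtype.ext (mul_left_cancel (mul_right_cancel this)))
    intro c hc
    rw [Subgroup.mem_center_iff]
    intro y
    obtain ⟨e, he, hey⟩ := key s hsa hsb y
    have hσy : σ y = y⁻¹ * e := Subtype.ext hey
    obtain ⟨x, hx⟩ := hτ ⟨c, hc⟩
    have hxc : σ (x : D.H) = c := congrArg Subtype.val hx
    let ρ : C →* C := (MulAut.conjNormal (H := C) y).toMonoidHom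
    have hcomm : σ (y * (x : D.H) * y⁻¹) = y * σ (x : D.H) * y⁻¹ :=
      congrArg Subtype.val (cyclic_end_comm τ ρ x)
    rw [map_mul, map_mul, map_inv, hσy, hxc] at hcomm
    have hec : e * c * e⁻¹ = c := by
      have := congrArg Subtype.val (mul_comm' (⟨e, he⟩ : C) ⟨c, hc⟩)
      simp only [Subgroup.coe_mul] at this
      rw [this, mul_inv_cancel_right]
    have h2 : (y * y) * c = c * (y * y) := by
      have h3 : y⁻¹ * c * y = y * c * y⁻¹ := by
        rw [← hcomm]
        calc y⁻¹ * c * y = y⁻¹ * (e * c * e⁻¹) * y := by rw [hec]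
          _ = _ := by group
      calc (y * y) * c = y * (y * c * y⁻¹) * y := by group
        _ = y * (y⁻¹ * c * y) * y := by rw [h3]
        _ = c * (y * y) := by group
    obtain ⟨l, hl⟩ := exists_pow_eq_self_of_coprime (x := y) (n := 2)
      (Nat.Coprime.coprime_dvd_right (orderOf_dvd_natCard y)
        (Nat.coprime_two_left.mpr hodd))
    have h4 : Commute y c := by
      rw [← hl, sq]
      exact Commute.pow_left h2 l
    exact h4.eq
  have hker : (Abelianization.of (G := D.H)).ker = C := QuotientGroup.ker_mk' _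
  have hcomm : ∀ x y : D.H, x * y = y * x :=
    commutative_of_cyclic_center_quotient (Abelianization.of (G := D.H)) (hker ▸ hcenter)
  have hC : C = ⊥ := by
    rw [hCdef, commutator_def, Subgroup.commutator_eq_bot_iff_le_centralizer]
    exact fun x _ => Subgroup.mem_centralizer_iff.mpr fun y _ => hcomm y x
  have hinv : ∀ s : G, s • D.a = D.b → s • D.b = D.a → ∀ h ∈ D.H, s * h * s⁻¹ = h⁻¹ := by
    intro s hsa hsb h hh
    obtain ⟨c, hc, e⟩ := key s hsa hsb ⟨h, hh⟩
    rw [hC, Subgroup.mem_bot] at hc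
    simpa [hc] using e
  refine ⟨isCyclic_of_injective (Abelianization.of (G := D.H))
    ((MonoidHom.ker_eq_bot_iff _).mp (hker.trans hC)), hinv, le_antisymm ?_ ?_⟩
  · intro k hk
    obtain ⟨⟨h, hh⟩, hh1⟩ := Subgroup.ne_bot_iff_exists_ne_one.mp hH
    have hh1' : h ≠ 1 := fun e => hh1 (Subtype.ext e)
    have hc : h * k = k * h := Subgroup.mem_centralizer_iff.mp hk h hh
    have hfix : ∀ z : Ω, h • z = z → h • k • z = k • z := fun z hz => by
      rw [← mul_smul, hc, mul_smul, hz]
    rcases D.fix_only hh hh1' (hfix _ hh.1) with ea | ea <;>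
      rcases D.fix_only hh hh1' (hfix _ hh.2) with eb | eb
    · exact absurd (smul_left_cancel k (ea.trans eb.symm)) D.hab
    · exact ⟨ea, eb⟩
    · have e := hinv k ea eb h hh
      rw [← hc, mul_inv_cancel_right] at e
      have h2 : h * h = 1 := by
        nth_rewrite 1 [e]; exact inv_mul_cancel h
      have hd := Nat.dvd_gcd (Subgroup.orderOf_dvd_natCard D.H hh)
        (orderOf_dvd_of_pow_eq_one (x := h) (n := 2) (by rw [sq]; exact h2))
      rw [(Nat.coprime_two_right.mpr hodd : Nat.gcd (Nat.card D.H) 2 = 1), Nat.dvd_one,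
        orderOf_eq_one_iff] at hd
      exact absurd hd hh1'
    · exact absurd (smul_left_cancel k (ea.trans eb.symm)) D.hab
  · intro k hk
    exact Subgroup.mem_centralizer_iff.mpr fun h hh =>
      congrArg Subtype.val (hcomm ⟨h, hh⟩ ⟨k, hk⟩)

end Cfsg.Agent.Block.Zas
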