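import Cfsg.Agent.Lib.Block.Zas.Basic

/-!
# Zassenhaus groups give frames
-/

set_option autoImplicit false

namespace Cfsg.Agent.Block.Zas

open MulAction

universe u v

variable {G : Type u} {Ω : Type v} [Group G] [MulAction G Ω] [Finite G]

omit [Finite G] in
theorem three_le [Finite Ω] (hZ : Cfsg.IsZassenhausGroup G Ω) : 3 ≤ Nat.card Ω := by
  classical
  haveI := Fintype.ofFinite Ω
  haveI := hZ.1
  obtain ⟨g, hg, a, b, hab, hga, hgb⟩ := hZ.2.2.2.1
  by_contra h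
  refine hg (FaithfulSMul.eq_of_smul_eq_smul (α := Ω) fun x => ?_)
  rw [one_smul]
  by_cases hxa : x = a
  · rw [hxa, hga]
  by_cases hxb : x = b
  · rw [hxb, hgb]
  exfalso
  refine h ?_
  rw [Nat.card_eq_fintype_card, ← Finset.card_univ,
    show 3 = ({x, a, b} : Finset Ω).card by simp [hxa, hxb, hab]]
  exact Finset.card_le_univ _

omit [Finite G] in
theorem zassenhaus_two (hZ : Cfsg.IsZassenhausGroup G Ω) {x y z w : Ω} (h1 : x ≠ y) (h2 : z ≠ w) :
    ∃ g : G, g • x = z ∧ g • y = w :=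
  (is_two_pretransitive_iff.1 hZ.2.1) h1 h2

omit [Finite G] in
theorem zassenhaus_free (hZ : Cfsg.IsZassenhausGroup G Ω) (g : G) (x y z : Ω) (h1 : x ≠ y)
    (h2 : y ≠ z) (h3 : x ≠ z) (hx : g • x = x) (hy : g • y = y) (hz : g • z = z) : g = 1 :=
  hZ.2.2.1 g x y z h1 h2 h3 hx hy hz

omit [Finite G] in
theorem stab_two_ne_bot (hZ : Cfsg.IsZassenhausGroup G Ω) {a b : Ω} (hab : a ≠ b) :
    stabilizer G a ⊓ stabilizer G b ≠ ⊥ := by
  obtain ⟨g, hg, c, d, hcd, hgc, hgd⟩ := hZ.2.2.2.1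
  obtain ⟨k, hka, hkb⟩ := zassenhaus_two hZ hcd hab
  intro e
  have hmem : k * g * k⁻¹ ∈ stabilizer G a ⊓ stabilizer G b := by
    constructor
    · show (k * g * k⁻¹) • a = a
      rw [mul_smul, mul_smul, inv_smul_eq_iff.2 hka.symm, hgc, hka]
    · show (k * g * k⁻¹) • b = b
      rw [mul_smul, mul_smul, inv_smul_eq_iff.2 hkb.symm, hgd, hkb]
  rw [e, Subgroup.mem_bot] at hmem
  exact hg (conj_eq_one_iff.mp hmem)

theorem frame_of_zassenhaus [Finite Ω] (hZ : Cfsg.IsZassenhausGroup G Ω) {a b : Ω} (hab : a ≠ b) :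
    ∃ D : Frame G Ω, D.a = a ∧ D.b = b :=
  exists_frame (zassenhaus_free hZ) (zassenhaus_two hZ) hab (three_le hZ) (stab_two_ne_bot hZ hab)

/-- The frame of a given regular normal subgroup of a point stabilizer. -/
def frameOf (hZ : Cfsg.IsZassenhausGroup G Ω) {a b : Ω} (hab : a ≠ b) (F : Subgroup G)
    (hFle : F ≤ stabilizer G a) (hFn : (F.subgroupOf (stabilizer G a)).Normal)
    (hreg : ∀ y z : Ω, y ≠ a → z ≠ a → ∃! u : F, (u : G) • y = z) : Frame G Ω where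
  a := a
  b := b
  F := F
  hab := hab
  free3 := zassenhaus_free hZ
  two := zassenhaus_two hZ
  F_fix := fun u hu => hFle hu
  F_conj := fun g hg u hu => hFn.conj_mem ⟨u, hFle hu⟩ hu ⟨g, hg⟩
  F_reg := hreg

theorem Frame.two_le_F (D : Frame G Ω) (hZ : Cfsg.IsZassenhausGroup G Ω) :
    2 ≤ Nat.card D.F := by
  haveI := D.finite_points
  have h1 := three_le hZ
  have h2 := D.card_points
  omega

theorem Frame.H_ne_bot (D : Frame G Ω) (hZ : Cfsg.IsZassenhausGroup G Ω) : D.H ≠ ⊥ :=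
  stab_two_ne_bot hZ D.hab

end Cfsg.Agent.Block.Zas
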