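import Cfsg.Agent.Lib.Block.Zas.CharBound
import Cfsg.Agent.Lib.Block.Zas.OddStab
import Cfsg.Agent.Lib.Block.Zas.Setup
import Cfsg.Agent.Lib.Lie.ZassenhausPerm

/-!
# Zassenhaus groups with abelian kernel: the two-point stabilizer is large
-/

set_option autoImplicit false

namespace Cfsg.Agent.Block.Zas

open MulAction

universe u v

variable {G : Type u} {Ω : Type v} [Group G] [MulAction G Ω] [Finite G]

theorem Frame.F_le_of_complement (D : Frame G Ω) (hn : 2 ≤ Nat.card D.F) {q k : ℕ} (hq : q.Prime)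
    (hqd : q ∣ Nat.card D.H) (N : Subgroup G) [N.Normal] (hidx : N.index = q ^ k) : D.F ≤ N := by
  intro x hx
  have h1 : q ∣ Nat.card D.F - 1 := hqd.trans D.card_H_dvd
  have hn1 : ¬ q ∣ Nat.card D.F := fun h => by
    have := Nat.dvd_sub h h1
    rw [show Nat.card D.F - (Nat.card D.F - 1) = 1 by omega] at this
    exact hq.one_lt.ne' (Nat.dvd_one.mp this)
  have hd : orderOf (QuotientGroup.mk' N x) ∣ Nat.gcd (Nat.card D.F) (q ^ k) := by
    refine Nat.dvd_gcd ((orderOf_map_dvd _ x).trans (D.F.orderOf_dvd_natCard hx)) ?_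
    rw [← hidx, Subgroup.index]
    exact orderOf_dvd_natCard _
  have hcop : Nat.gcd (Nat.card D.F) (q ^ k) = 1 :=
    ((hq.coprime_iff_not_dvd.mpr hn1).symm).pow_right k
  rw [hcop, Nat.dvd_one, orderOf_eq_one_iff] at hd
  exact (QuotientGroup.eq_one_iff x).mp hd

/-- A normal subgroup of prime power index containing `F` gives a smaller Zassenhaus group. -/
theorem Frame.restrict (D : Frame G Ω) (hZ : Cfsg.IsZassenhausGroup G Ω) (N : Subgroup G) [N.Normal]
    (hle : D.F ≤ N) (hN : N ≠ ⊥) :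
    ∃ D' : Frame N Ω, Cfsg.IsZassenhausGroup N Ω ∧ Nat.card D'.F = Nat.card D.F ∧
      D'.H = D.H.subgroupOf N ∧ ∀ x y : N, x ∈ D'.F → y ∈ D'.F → (x : G) ∈ D.F ∧ (y : G) ∈ D.F := by
  haveI := D.finite_points
  have hZN := Cfsg.Agent.Lie.ZPerm.normal_zassenhaus hZ N hN
  refine ⟨⟨D.a, D.b, D.F.subgroupOf N, D.hab, zassenhaus_free hZN, zassenhaus_two hZN, fun u hu => D.F_fix _ hu,
    fun g hg u hu => D.F_conj (g : G) hg _ hu, fun y z hy hz => ?_⟩, hZN,
    Nat.card_congr (Subgroup.subgroupOfEquivOfLe hle).toEquiv, rfl, fun x y hx hy => ⟨hx, hy⟩⟩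
  obtain ⟨u, hu, huniq⟩ := D.F_reg y z hy hz
  exact ⟨⟨⟨u, hle u.2⟩, u.2⟩, hu, fun w hw =>
    Subtype.ext (Subtype.ext (congrArg (fun z : D.F => (z : G)) (huniq ⟨w.1.1, w.2⟩ hw)))⟩

theorem Frame.complement_ne (D : Frame G Ω) (hn : 2 ≤ Nat.card D.F) (hodd : Odd (Nat.card D.H)) {q : ℕ}
    (hq : q.Prime) (hqd : q ∣ Nat.card D.H) (N : Subgroup G)
    (hidx : N.index = q ^ (Nat.card G).factorization q) : N ≠ ⊥ ∧ N ≠ ⊤ := by
  constructor
  · intro e
    rw [e, Subgroup.index_bot] at hidx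
    have h1 : Nat.card D.F ∣ Nat.card G := Subgroup.card_subgroup_dvd_card _
    rw [hidx] at h1
    obtain ⟨j, -, hj⟩ := (Nat.dvd_prime_pow hq).mp h1
    have h2 : q ∣ Nat.card D.F - 1 := hqd.trans D.card_H_dvd
    rcases Nat.eq_zero_or_pos j with rfl | hj0
    · rw [pow_zero] at hj; omega
    have := Nat.dvd_sub (hj ▸ dvd_pow_self q hj0.ne') h2
    rw [show Nat.card D.F - (Nat.card D.F - 1) = 1 by omega] at this
    exact hq.one_lt.ne' (Nat.dvd_one.mp this)
  · intro e
    rw [e, Subgroup.index_top] at hidx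
    have h1 : 0 < (Nat.card G).factorization q := by
      rw [D.factorization_eq hn hodd hq hqd]
      exact hq.factorization_pos_of_dvd Nat.card_pos.ne' hqd
    exact (Nat.one_lt_pow h1.ne' hq.one_lt).ne hidx

/-- With an abelian kernel the two-point stabilizer has order at least half of `n - 1`. -/
theorem half_bound (m : ℕ) : ∀ (G : Type u) (Ω : Type v) [Group G] [MulAction G Ω] [Finite G]
    (D : Frame G Ω), Nat.card G = m → Cfsg.IsZassenhausGroup G Ω →
    (∀ x ∈ D.F, ∀ y ∈ D.F, x * y = y * x) → Nat.card D.F - 1 ≤ 2 * Nat.card D.H := by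
  induction m using Nat.strong_induction_on with
  | _ m ih =>
    intro G Ω _ _ _ D hm hZ hF
    have hn := D.two_le_F hZ
    rcases Nat.even_or_odd (Nat.card D.H) with he | ho
    · exact D.half_of_even hn he
    by_cases hc : ∃ q : ℕ, q.Prime ∧ q ∣ Nat.card D.H ∧
        ∃ N : Subgroup G, N.Normal ∧ N.index = q ^ (Nat.card G).factorization q
    · obtain ⟨q, hq, hqd, N, hNn, hidx⟩ := hc
      obtain ⟨hN1, hN2⟩ := D.complement_ne hn ho hq hqd N hidx
      have hle := D.F_le_of_complement hn hq hqd N hidx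
      obtain ⟨D', hZN, hcF, hH', hmem⟩ := D.restrict hZ N hle hN1
      have hlt : Nat.card N < Nat.card G :=
        lt_of_le_of_ne (Subgroup.card_le_card_group N) fun e => hN2 (Subgroup.eq_top_of_card_eq N e)
      have h := ih _ (hm ▸ hlt) N Ω D' rfl hZN fun x hx y hy =>
        Subtype.ext (hF _ (hmem x y hx hy).1 _ (hmem x y hx hy).2)
      rw [hcF] at h
      refine h.trans (Nat.mul_le_mul_left 2 ?_)
      rw [hH']
      exact Nat.card_le_card_of_injective
        (fun x : D.H.subgroupOf N => (⟨((x : N) : G), x.2⟩ : D.H))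
        fun x y e => Subtype.ext (Subtype.ext (congrArg (fun z : D.H => (z : G)) e))
    · push Not at hc
      obtain ⟨-, hinv, -⟩ := D.inversion_of_no_complement hn (D.H_ne_bot hZ) ho
        fun q hq hqd ⟨N, hNn, hidx⟩ => hc q hq hqd N hNn hidx
      exact D.half_of_inverted hn hF (D.H_ne_bot hZ) ho hinv

/-- The two possible orders of the two-point stabilizer; in the smaller case it is inverted by every exchange. -/
theorem Frame.cases_of_abelian (D : Frame G Ω) (hZ : Cfsg.IsZassenhausGroup G Ω)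
    (hF : ∀ x ∈ D.F, ∀ y ∈ D.F, x * y = y * x) :
    Nat.card D.H = Nat.card D.F - 1 ∨ (2 * Nat.card D.H = Nat.card D.F - 1 ∧
      ∀ s : G, s • D.a = D.b → s • D.b = D.a → ∀ h ∈ D.H, s * h * s⁻¹ = h⁻¹) := by
  have hn := D.two_le_F hZ
  haveI := D.finite_points
  have hb := half_bound _ G Ω D rfl hZ hF
  obtain ⟨t, ht⟩ := D.card_H_dvd
  have hd0 : 0 < Nat.card D.H := Nat.card_pos
  have ht2 : t ≤ 2 := by
    by_contra h
    have : Nat.card D.H * 3 ≤ Nat.card D.H * t := Nat.mul_le_mul_left _ (by omega)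
    omega
  interval_cases t
  · omega
  · exact Or.inl (by omega)
  · refine Or.inr ⟨by omega, ?_⟩
    rcases Nat.even_or_odd (Nat.card D.H) with he | ho
    · intro s hsa hsb h hh
      exact D.inversion_of_swaps (fun g ga gb => D.swaps_involutions_of_even hn he (by omega) ga gb)
        hsa hsb hh
    refine (D.inversion_of_no_complement hn (D.H_ne_bot hZ) ho fun q hq hqd ⟨N, hNn, hidx⟩ => ?_).2.1
    obtain ⟨hN1, hN2⟩ := D.complement_ne hn ho hq hqd N hidx
    have hle := D.F_le_of_complement hn hq hqd N hidx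
    obtain ⟨D', hZN, hcF, hH', hmem⟩ := D.restrict hZ N hle hN1
    have h := half_bound _ N Ω D' rfl hZN fun x hx y hy =>
      Subtype.ext (hF _ (hmem x y hx hy).1 _ (hmem x y hx hy).2)
    rw [hcF, hH'] at h
    let f : D.H.subgroupOf N → D.H := fun x => ⟨((x : N) : G), x.2⟩
    have hf : Function.Injective f :=
      fun x y e => Subtype.ext (Subtype.ext (congrArg (fun z : D.H => (z : G)) e))
    have hle' := Nat.card_le_card_of_injective f hf
    have hbij := (Nat.bijective_iff_injective_and_card f).mpr ⟨hf, by omega⟩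
    have hHN : D.H ≤ N := fun x hx => by
      obtain ⟨y, hy⟩ := hbij.2 ⟨x, hx⟩
      have e : ((y : N) : G) = x := congrArg Subtype.val hy
      exact e ▸ (y : N).2
    refine hN2 (eq_top_iff.mpr fun g _ => ?_)
    obtain ⟨n, hnN, hnm⟩ := Cfsg.Agent.Lie.ZPerm.exists_moving (@hZ) N hN1 D.a (g • D.a)
    have hB : (n⁻¹ * g) • D.a = D.a := by rw [mul_smul, inv_smul_eq_iff, hnm]
    obtain ⟨u, hu, w, hw, e⟩ := D.decomp hB
    rw [show g = n * (u * w) by rw [← e]; group]
    exact mul_mem hnN (mul_mem (hle hu) (hHN hw))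

end Cfsg.Agent.Block.Zas
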