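import Cfsg.Agent.Lib.Block.Zas.Setup

/-!
# Sharply triply transitive groups and frames
-/

set_option autoImplicit false

namespace Cfsg.Agent.Block.Zas

open MulAction

universe u v

variable {G : Type u} {Ω : Type v} [Group G] [MulAction G Ω]

theorem three_trans (h3 : IsMultiplyPretransitive G Ω 3) {x y z x' y' z' : Ω} (hxy : x ≠ y)
    (hyz : y ≠ z) (hxz : x ≠ z) (hxy' : x' ≠ y') (hyz' : y' ≠ z') (hxz' : x' ≠ z') :
    ∃ g : G, g • x = x' ∧ g • y = y' ∧ g • z = z' := by
  haveI := h3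
  have hi : ∀ {p q r : Ω}, p ≠ q → q ≠ r → p ≠ r → Function.Injective ![p, q, r] := by
    intro p q r h1 h2 h3 i j h
    fin_cases i <;> fin_cases j <;> simp_all
  obtain ⟨g, hg⟩ := exists_smul_eq G (⟨_, hi hxy hyz hxz⟩ : Fin 3 ↪ Ω)
    (⟨_, hi hxy' hyz' hxz'⟩ : Fin 3 ↪ Ω)
  exact ⟨g, congrArg (fun t : Fin 3 ↪ Ω => t 0) hg, congrArg (fun t : Fin 3 ↪ Ω => t 1) hg,
    congrArg (fun t : Fin 3 ↪ Ω => t 2) hg⟩

/-- When the two-point stabilizer has order `n - 1` the group is sharply triply transitive. -/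
theorem Frame.sharp_of_card [Finite G] (D : Frame G Ω)
    (hd : Nat.card D.H = Nat.card D.F - 1) :
    IsMultiplyPretransitive G Ω 3 ∧ ∀ t : Fin 3 ↪ Ω, stabilizer G t = ⊥ := by
  classical
  haveI := D.finite_points
  refine ⟨?_, fun t => (Subgroup.eq_bot_iff_forall _).mpr fun g hg => ?_⟩
  · let S := {z : Ω // z ≠ D.a ∧ z ≠ D.b}
    have hcS : Nat.card S = Nat.card D.F - 1 := by
      haveI := Fintype.ofFinite Ω
      have h := D.card_points
      rw [Nat.card_eq_fintype_card] at h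
      rw [Nat.card_eq_fintype_card, Fintype.card_subtype,
        show (Finset.univ.filter fun z : Ω => z ≠ D.a ∧ z ≠ D.b) = (Finset.univ.erase D.a).erase D.b by
          ext z; simp [and_comm],
        Finset.card_erase_of_mem (Finset.mem_erase.mpr ⟨D.b_ne, Finset.mem_univ _⟩),
        Finset.card_erase_of_mem (Finset.mem_univ _), Finset.card_univ, h]
      omega
    have hreg : ∀ z w : S, ∃ h ∈ D.H, h • (z : Ω) = w := by
      intro z w
      have hne : ∀ h : D.H, (h : G) • (z : Ω) ≠ D.a ∧ (h : G) • (z : Ω) ≠ D.b := fun h =>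
        ⟨fun e => z.2.1 (smul_left_cancel (h : G) (e.trans h.2.1.symm)),
          fun e => z.2.2 (smul_left_cancel (h : G) (e.trans h.2.2.symm))⟩
      have hinj : Function.Injective fun h : D.H => (⟨(h : G) • (z : Ω), hne h⟩ : S) := by
        intro g h e
        have e' : (g : G) • (z : Ω) = (h : G) • (z : Ω) := congrArg Subtype.val e
        refine (inv_mul_eq_one.mp (Subtype.ext (D.free3 _ D.a D.b z D.hab z.2.2.symm z.2.1.symm
          ((h⁻¹ * g : D.H)).2.1 ((h⁻¹ * g : D.H)).2.2 ?_))).symm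
        simp only [Subgroup.coe_mul, Subgroup.coe_inv, mul_smul, e', inv_smul_smul]
      obtain ⟨h, hh⟩ :=
        ((Nat.bijective_iff_injective_and_card _).mpr ⟨hinj, by rw [hcS, hd]⟩).2 w
      exact ⟨h, h.2, congrArg Subtype.val hh⟩
    rw [isMultiplyPretransitive_iff]
    intro x y
    obtain ⟨g, hg0, hg1⟩ := D.two (x.injective.ne (show (0 : Fin 3) ≠ 1 by decide)) D.hab
    obtain ⟨k, hk0, hk1⟩ := D.two (y.injective.ne (show (0 : Fin 3) ≠ 1 by decide)) D.hab
    have hne : ∀ (t : Fin 3 ↪ Ω) (g : G), g • t 0 = D.a → g • t 1 = D.b →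
        g • t 2 ≠ D.a ∧ g • t 2 ≠ D.b := fun t g h0 h1 =>
      ⟨fun e => (t.injective.ne (show (2 : Fin 3) ≠ 0 by decide)) (smul_left_cancel g (e.trans h0.symm)),
        fun e => (t.injective.ne (show (2 : Fin 3) ≠ 1 by decide)) (smul_left_cancel g (e.trans h1.symm))⟩
    obtain ⟨h, hh, hh2⟩ := hreg ⟨_, hne x g hg0 hg1⟩ ⟨_, hne y k hk0 hk1⟩
    refine ⟨k⁻¹ * (h * g), ?_⟩
    ext i
    show (k⁻¹ * (h * g)) • x i = y i
    rw [mul_smul, inv_smul_eq_iff, mul_smul]
    fin_cases i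
    · show h • g • x 0 = k • y 0
      rw [hg0, hk0]; exact hh.1
    · show h • g • x 1 = k • y 1
      rw [hg1, hk1]; exact hh.2
    · exact hh2
  · have hfix : ∀ i, g • t i = t i := fun i =>
      congrArg (fun s : Fin 3 ↪ Ω => s i) (mem_stabilizer_iff.mp hg)
    exact D.free3 g (t 0) (t 1) (t 2) (t.injective.ne (by decide)) (t.injective.ne (by decide))
      (t.injective.ne (by decide)) (hfix _) (hfix _) (hfix _)

/-- A sharply triply transitive group gives a frame with two-point stabilizer of order `n - 1`. -/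
theorem frame_of_sharp [Finite G] [Finite Ω] (h3 : IsMultiplyPretransitive G Ω 3)
    (hsharp : ∀ t : Fin 3 ↪ Ω, stabilizer G t = ⊥) {a b : Ω} (hab : a ≠ b) (h4 : 4 ≤ Nat.card Ω) :
    ∃ D : Frame G Ω, D.a = a ∧ D.b = b ∧ Nat.card D.H = Nat.card D.F - 1 ∧
      ∀ z w : Ω, z ≠ D.a → z ≠ D.b → w ≠ D.a → w ≠ D.b → ∃ h ∈ D.H, h • z = w := by
  classical
  haveI := h3
  have free3 : ∀ (g : G) (x y z : Ω), x ≠ y → y ≠ z → x ≠ z → g • x = x → g • y = y → g • z = z →
      g = 1 := by
    intro g x y z hxy hyz hxz hx hy hz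
    have hi : Function.Injective ![x, y, z] := by
      intro i j h
      fin_cases i <;> fin_cases j <;> simp_all
    have hmem : g ∈ stabilizer G (⟨_, hi⟩ : Fin 3 ↪ Ω) := by
      rw [mem_stabilizer_iff]
      ext i
      show g • ![x, y, z] i = ![x, y, z] i
      fin_cases i <;> simpa
    rwa [hsharp, Subgroup.mem_bot] at hmem
  have two : ∀ {x y z w : Ω}, x ≠ y → z ≠ w → ∃ g : G, g • x = z ∧ g • y = w := by
    haveI : IsMultiplyPretransitive G Ω 2 := isMultiplyPretransitive_of_le' (n := 3) (by omega)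
      (le_trans (by norm_num) (show (4 : ℕ∞) ≤ ENat.card Ω by
        rw [ENat.card_eq_coe_natCard]; exact_mod_cast h4))
    intro x y z w hxy hzw
    exact is_two_pretransitive_iff.1 inferInstance hxy hzw
  haveI := Fintype.ofFinite Ω
  obtain ⟨c, hc⟩ : ∃ c, c ∉ ({a, b} : Finset Ω) := by
    by_contra h
    push Not at h
    have := Finset.card_le_card (show (Finset.univ : Finset Ω) ⊆ {a, b} from fun c _ => h c)
    rw [Finset.card_univ, Finset.card_pair hab, ← Nat.card_eq_fintype_card] at this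
    omega
  simp only [Finset.mem_insert, Finset.mem_singleton, not_or] at hc
  obtain ⟨c', hc'⟩ : ∃ c', c' ∉ ({a, b, c} : Finset Ω) := by
    by_contra h
    push Not at h
    have := Finset.card_le_card (show (Finset.univ : Finset Ω) ⊆ {a, b, c} from fun c _ => h c)
    rw [Finset.card_univ, ← Nat.card_eq_fintype_card] at this
    have := Finset.card_le_three (a := a) (b := b) (c := c)
    omega
  simp only [Finset.mem_insert, Finset.mem_singleton, not_or] at hc'
  have hH : stabilizer G a ⊓ stabilizer G b ≠ ⊥ := by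
    obtain ⟨g, ga, gb, gc⟩ := three_trans h3 hab (Ne.symm hc.2) (Ne.symm hc.1) hab (Ne.symm hc'.2.1)
      (Ne.symm hc'.1)
    intro e
    have : g ∈ stabilizer G a ⊓ stabilizer G b := ⟨ga, gb⟩
    rw [e, Subgroup.mem_bot] at this
    rw [this, one_smul] at gc
    exact hc'.2.2 gc.symm
  obtain ⟨D, rfl, rfl⟩ := exists_frame free3 two hab (by omega) hH
  have htr : ∀ z w : Ω, z ≠ D.a → z ≠ D.b → w ≠ D.a → w ≠ D.b → ∃ h ∈ D.H, h • z = w := by
    intro z w hza hzb hwa hwb
    obtain ⟨g, ga, gb, gc⟩ := three_trans h3 D.hab hzb.symm hza.symm D.hab hwb.symm hwa.symm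
    exact ⟨g, ⟨ga, gb⟩, gc⟩
  refine ⟨D, rfl, rfl, le_antisymm ?_ ?_, htr⟩
  · have hn : 2 ≤ Nat.card D.F := by have := D.card_points; omega
    exact Nat.le_of_dvd (by omega) D.card_H_dvd
  · have hne : ∀ h : D.H, (h : G) • c ≠ D.a ∧ (h : G) • c ≠ D.b := fun h =>
      ⟨fun e => hc.1 (smul_left_cancel (h : G) (e.trans h.2.1.symm)),
        fun e => hc.2 (smul_left_cancel (h : G) (e.trans h.2.2.symm))⟩
    have hle := Nat.card_le_card_of_surjective
      (fun h : D.H => (⟨(h : G) • c, hne h⟩ : {z : Ω // z ≠ D.a ∧ z ≠ D.b})) fun w => by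
        obtain ⟨h, hh, e⟩ := htr c w hc.1 hc.2 w.2.1 w.2.2
        exact ⟨⟨h, hh⟩, Subtype.ext e⟩
    refine le_trans ?_ hle
    have h := D.card_points
    rw [Nat.card_eq_fintype_card] at h
    rw [Nat.card_eq_fintype_card (α := {z : Ω // z ≠ D.a ∧ z ≠ D.b}), Fintype.card_subtype,
      show (Finset.univ.filter fun z : Ω => z ≠ D.a ∧ z ≠ D.b) = (Finset.univ.erase D.a).erase D.b by
        ext z; simp [and_comm],
      Finset.card_erase_of_mem (Finset.mem_erase.mpr ⟨D.b_ne, Finset.mem_univ _⟩),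
      Finset.card_erase_of_mem (Finset.mem_univ _), Finset.card_univ, h]
    omega

end Cfsg.Agent.Block.Zas
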