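import Cfsg.Agent.Lib.Block.Zas.Sharp
import Cfsg.Agent.Lib.Block.Zas.Half

/-!
# Sharply triply transitive groups of degree `2^f + 1`
-/

set_option autoImplicit false

namespace Cfsg.Agent.Block.Zas

open MulAction OnePoint

universe u v

theorem card_PGL_two {K : Type} [Field K] [Fintype K] :
    Nat.card (Matrix.ProjGenLinGroup (Fin 2) K) =
      (Fintype.card K + 1) * (Fintype.card K * (Fintype.card K - 1)) := by
  rw [Classical.natCard_PGL_eq_SL, Fus.PSLTwo.natCard_SL_two]
  ring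

/-- The full symmetric group on at most four points as a projective general linear group. -/
theorem iso_pgl_of_top {α : Type v} [Fintype α] [DecidableEq α] (G : Subgroup (Equiv.Perm α))
    (htop : G = ⊤) {K : Type} [Field K] [Fintype K] (hc : Fintype.card α = Fintype.card K + 1)
    (hG : Nat.card G = (Fintype.card K + 1) * (Fintype.card K * (Fintype.card K - 1))) :
    Nonempty (G ≃* Matrix.ProjGenLinGroup (Fin 2) K) := by
  classical
  let e : OnePoint K ≃ α := Fintype.equivOfCardEq (α := Option K) (by rw [Fintype.card_option, hc])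
  have hreal : ∀ σ : Equiv.Perm (OnePoint K), ∃ g : G, ∀ y, g • e y = e (σ y) := fun σ =>
    ⟨⟨e.permCongr σ, htop ▸ Subgroup.mem_top _⟩, fun y => by
      show e.permCongr σ (e y) = _
      simp⟩
  obtain ⟨f⟩ := nonempty_iso e (G := G) (fun g hg => Subtype.ext (Equiv.ext hg)) _
    (MonoidHom.id (GL (Fin 2) K)) center_GL_iff
    (fun M => hreal (MulAction.toPerm M)) (by rw [hG, ← card_PGL_two]; rfl)
  exact ⟨f⟩

variable {G : Type u} {Ω : Type v} [Group G] [MulAction G Ω] [Finite G]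

/-- An involution exchanging `a` and `b` and fixing a given further point. -/
theorem Frame.sharp_swap (D : Frame G Ω) (h3 : IsMultiplyPretransitive G Ω 3) {c : Ω}
    (hca : c ≠ D.a) (hcb : c ≠ D.b) :
    ∃ g : G, g * g = 1 ∧ g • D.a = D.b ∧ g • D.b = D.a ∧ g • c = c := by
  obtain ⟨g, ga, gb, gc⟩ := three_trans h3 D.hab hcb.symm hca.symm D.b_ne hca.symm hcb.symm
  refine ⟨g, D.free3 (g * g) D.a D.b c D.hab hcb.symm hca.symm ?_ ?_ ?_, ga, gb, gc⟩
  · rw [mul_smul, ga, gb]
  · rw [mul_smul, gb, ga]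
  · rw [mul_smul, gc, gc]

/-- For odd `n - 1` every exchanging element is an involution. -/
theorem Frame.swaps_involutions_of_odd (D : Frame G Ω) (h3 : IsMultiplyPretransitive G Ω 3)
    (hodd : Odd (Nat.card D.H)) (hd : Nat.card D.H = Nat.card D.F - 1) {g : G}
    (hga : g • D.a = D.b) (hgb : g • D.b = D.a) : g * g = 1 := by
  classical
  haveI := D.finite_points
  haveI := Fintype.ofFinite Ω
  choose f hf using fun c : {z : Ω // z ≠ D.a ∧ z ≠ D.b} => D.sharp_swap h3 c.2.1 c.2.2
  let F : {z : Ω // z ≠ D.a ∧ z ≠ D.b} → {g : G // g • D.a = D.b ∧ g • D.b = D.a} := fun c =>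
    ⟨f c, (hf c).2.1, (hf c).2.2.1⟩
  have hinj : Function.Injective F := by
    intro c c' e
    have e' : f c = f c' := congrArg Subtype.val e
    by_contra hne
    have hne' : (c : Ω) ≠ c' := fun h => hne (Subtype.ext h)
    -- conjugate into the two-point stabilizer
    obtain ⟨k, hka, hkb⟩ := D.two hne' D.hab
    have hmem : k * f c * k⁻¹ ∈ D.H := by
      constructor
      · show (k * f c * k⁻¹) • D.a = D.a
        rw [mul_smul, mul_smul, inv_smul_eq_iff.2 hka.symm, (hf c).2.2.2, hka]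
      · show (k * f c * k⁻¹) • D.b = D.b
        rw [mul_smul, mul_smul, inv_smul_eq_iff.2 hkb.symm, e', (hf c').2.2.2, hkb]
    have h2 : (k * f c * k⁻¹) ^ 2 = 1 := by
      rw [conj_pow, sq, (hf c).1]; group
    have h1 := Nat.dvd_gcd (Subgroup.orderOf_dvd_natCard D.H hmem) (orderOf_dvd_of_pow_eq_one h2)
    rw [(Nat.coprime_two_right.mpr hodd : Nat.gcd (Nat.card D.H) 2 = 1), Nat.dvd_one,
      orderOf_eq_one_iff, conj_eq_one_iff] at h1
    have := (hf c).2.1
    rw [h1, one_smul] at this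
    exact D.hab this
  have hcard : Nat.card {z : Ω // z ≠ D.a ∧ z ≠ D.b} =
      Nat.card {g : G // g • D.a = D.b ∧ g • D.b = D.a} := by
    rw [D.card_swap, hd]
    have h := D.card_points
    rw [Nat.card_eq_fintype_card] at h
    rw [Nat.card_eq_fintype_card, Fintype.card_subtype,
      show (Finset.univ.filter fun z : Ω => z ≠ D.a ∧ z ≠ D.b) = (Finset.univ.erase D.a).erase D.b by
        ext z; simp [and_comm],
      Finset.card_erase_of_mem (Finset.mem_erase.mpr ⟨D.b_ne, Finset.mem_univ _⟩),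
      Finset.card_erase_of_mem (Finset.mem_univ _), Finset.card_univ, h]
    omega
  obtain ⟨c, hc⟩ := ((Nat.bijective_iff_injective_and_card F).mpr ⟨hinj, hcard⟩).2 ⟨g, hga, hgb⟩
  have e : f c = g := congrArg Subtype.val hc
  exact e ▸ (hf c).1

/-- An inverted two-point stabilizer of order `n - 1` gives `PGL(2, n)`. -/
theorem Frame.iso_pgl_of_inverted (D : Frame G Ω) (hn : 2 ≤ Nat.card D.F) (hH : D.H ≠ ⊥)
    (hd : Nat.card D.H = Nat.card D.F - 1) {s : G} (hs2 : s * s = 1) (hsa : s • D.a = D.b)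
    (hsb : s • D.b = D.a) (hinv : ∀ h ∈ D.H, s * h * s⁻¹ = h⁻¹) :
    ∃ (K : Type) (_ : Field K) (_ : Fintype K), Fintype.card K = Nat.card D.F ∧
      Nonempty (G ≃* Matrix.ProjGenLinGroup (Fin 2) K) := by
  classical
  have hHc : ∀ x ∈ D.H, ∀ y ∈ D.H, x * y = y * x := by
    intro x hx y hy
    have h := hinv (x⁻¹ * y⁻¹) (mul_mem (inv_mem hx) (inv_mem hy))
    have e : s * (x⁻¹ * y⁻¹) * s⁻¹ = (s * x * s⁻¹)⁻¹ * (s * y * s⁻¹)⁻¹ := by group
    rw [e, hinv x hx, hinv y hy, inv_inv, inv_inv, mul_inv_rev, inv_inv, inv_inv] at h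
    exact h
  obtain ⟨pc, hpa, hpb⟩ := D.exists_third hn (x := D.a) (y := D.b)
  obtain ⟨K, _, _, e, χ, hcard, ha, hb, -, hχ, htr, hH'⟩ := D.exists_coord hn hH (by omega) hHc hpa hpb
  have hbij : Function.Bijective χ := (Nat.bijective_iff_injective_and_card _).mpr
    ⟨hχ, by rw [Classical.natCard_units_field, hd, hcard]⟩
  refine ⟨K, inferInstance, inferInstance, hcard, ?_⟩
  let σ : OnePoint K → OnePoint K := fun y => e.symm (s • e y)
  have hσ : ∀ y, s • e y = e (σ y) := fun y => (e.apply_symm_apply _).symm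
  have hσi : σ ∞ = ((0 : K) : OnePoint K) := e.injective (by rw [← hσ, ha, hb, hsa])
  have hσ0 : σ ((0 : K) : OnePoint K) = ∞ := e.injective (by rw [← hσ, ha, hb, hsb])
  obtain ⟨C, hC1⟩ : ∃ C : K, σ ((1 : K) : OnePoint K) = (C : OnePoint K) := by
    cases h : σ ((1 : K) : OnePoint K) with
    | infty =>
      rw [← hσ0] at h
      exact absurd (coe_injective (e.injective (smul_left_cancel s (by rw [hσ, hσ, h])))) (one_ne_zero (α := K))
    | coe C => exact ⟨C, rfl⟩
  have hC : C ≠ 0 := fun h => by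
    rw [h, ← hσi] at hC1
    exact coe_ne_infty (1 : K) (e.injective (smul_left_cancel s (by rw [hσ, hσ, hC1])))
  refine iso_pgl e (fun g hg => D.faithful hn hg) hC (fun x => ?_) (fun c hc => ?_) ⟨s, fun y => ?_⟩ ?_
  · obtain ⟨t, -, ht⟩ := htr x
    exact ⟨t, ht⟩
  · obtain ⟨h, hh⟩ := hbij.2 (Units.mk0 c hc)
    exact ⟨h, fun y => by rw [hH' h y, hh, Units.val_mk0]⟩
  · cases y with
    | infty => rw [hσ, hσi]; rfl
    | coe x =>
      by_cases hx : x = 0
      · rw [hσ, hx, hσ0]; simp [invMap]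
      · obtain ⟨h, hh⟩ := hbij.2 (Units.mk0 x hx)
        have h1 := hH' h ((1 : K) : OnePoint K)
        rw [OnePoint.map_some, mul_one, hh, Units.val_mk0] at h1
        rw [← h1, ← mul_smul, show s * (h : G) = (h : G)⁻¹ * s by
          rw [← hinv h h.2, inv_mul_cancel_right]]
        rw [mul_smul, hσ, hC1, ← Subgroup.coe_inv, hH' h⁻¹, map_inv, hh]
        simp [invMap, hx, div_eq_inv_mul]
  · rw [card_PGL_two, D.card_group, hd, hcard]

theorem sharp_two_pow {α : Type v} [Fintype α] [DecidableEq α] {f : ℕ} (hf : 1 ≤ f)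
    (hα : Fintype.card α = 2 ^ f + 1) (G : Subgroup (Equiv.Perm α))
    (h3 : IsMultiplyPretransitive G α 3) (hsharp : ∀ x : Fin 3 ↪ α, stabilizer G x = ⊥) :
    ∃ (F : Type) (_ : Field F) (_ : Fintype F), Fintype.card F = 2 ^ f ∧
      Nonempty (G ≃* Matrix.ProjGenLinGroup (Fin 2) F) := by
  classical
  rcases eq_or_lt_of_le hf with rfl | hf2
  · have htop : G = ⊤ := by
      refine eq_top_iff.mpr fun σ _ => ?_
      haveI := h3
      have x : Fin 3 ↪ α := (Fintype.equivFinOfCardEq (by simpa using hα)).symm.toEmbedding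
      obtain ⟨g, hg⟩ := exists_smul_eq G x (σ • x)
      have e : (g : Equiv.Perm α) = σ := by
        have hb : Function.Bijective x :=
          (Fintype.bijective_iff_injective_and_card x).mpr ⟨x.injective, by simp [hα]⟩
        refine Equiv.ext fun y => ?_
        obtain ⟨i, rfl⟩ := hb.2 y
        exact congrArg (fun t : Fin 3 ↪ α => t i) hg
      exact e ▸ g.2
    refine ⟨ZMod 2, inferInstance, inferInstance, ZMod.card 2, iso_pgl_of_top G htop ?_ ?_⟩
    · rw [hα, ZMod.card]; rfl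
    · subst htop
      rw [Nat.card_congr Subgroup.topEquiv.toEquiv, Nat.card_perm, Nat.card_eq_fintype_card, hα,
        ZMod.card]
      rfl
  obtain ⟨a, b, hab⟩ := Fintype.exists_pair_of_one_lt_card (α := α) (by
    rw [hα]; have := Nat.one_lt_two_pow (show f ≠ 0 by omega); omega)
  have h4 : 4 ≤ Nat.card α := by
    rw [Nat.card_eq_fintype_card, hα]
    have := Nat.pow_le_pow_right (show 0 < 2 by norm_num) (show 2 ≤ f by omega)
    omega
  obtain ⟨D, rfl, rfl, hd, -⟩ := frame_of_sharp h3 hsharp hab h4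
  have hcF : Nat.card D.F = 2 ^ f := by
    have := D.card_points
    rw [Nat.card_eq_fintype_card, hα] at this
    omega
  have hn : 2 ≤ Nat.card D.F := by rw [hcF]; exact Nat.le_self_pow (by omega) 2
  have hodd : Odd (Nat.card D.H) := by
    rw [hd, hcF, Nat.odd_iff]
    have : 2 ∣ 2 ^ f := dvd_pow_self 2 (by omega)
    have := Nat.one_le_two_pow (n := f)
    omega
  have hH : D.H ≠ ⊥ := fun e => by
    rw [e, Subgroup.card_bot, hcF] at hd
    have := Nat.pow_le_pow_right (show 0 < 2 by norm_num) (show 2 ≤ f by omega)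
    omega
  obtain ⟨c, hca, hcb⟩ := D.exists_third hn (x := D.a) (y := D.b)
  obtain ⟨s, hs2, hsa, hsb, -⟩ := D.sharp_swap h3 hca hcb
  obtain ⟨K, i1, i2, hK, hiso⟩ := D.iso_pgl_of_inverted hn hH hd hs2 hsa hsb fun h hh =>
    D.inversion_of_swaps (fun g ga gb => D.swaps_involutions_of_odd h3 hodd hd ga gb) hsa hsb hh
  exact ⟨K, i1, i2, hK.trans hcF, hiso⟩

end Cfsg.Agent.Block.Zas
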