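import Cfsg.Agent.Lib.Block.Zas.Basic
import Cfsg.Agent.Lib.Grp.FpfPrime
import Cfsg.Agent.Lib.Grp.CoprimeAbelian

/-!
# Zassenhaus groups: involutions and the structure of the kernel
-/

set_option autoImplicit false

namespace Cfsg.Agent.Block.Zas

open MulAction

universe u v

variable {G : Type u} {Ω : Type v} [Group G] [MulAction G Ω] [Finite G]

theorem Frame.exists_third (D : Frame G Ω) (hn : 2 ≤ Nat.card D.F) {x y : Ω} :
    ∃ z : Ω, z ≠ x ∧ z ≠ y := by
  classical
  haveI := D.finite_points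
  haveI := Fintype.ofFinite Ω
  by_contra h
  push Not at h
  have hsub : (Finset.univ : Finset Ω) ⊆ {x, y} := fun c _ => by
    by_cases e : c = x
    · simp [e]
    · simp [h c e]
  have h1 := Finset.card_le_card hsub
  have h2 := Finset.card_le_two (a := x) (b := y)
  have h3 := D.card_points
  rw [Nat.card_eq_fintype_card] at h3
  rw [Finset.card_univ] at h1
  omega

theorem Frame.faithful (D : Frame G Ω) (hn : 2 ≤ Nat.card D.F) {g : G} (h : ∀ x : Ω, g • x = x) :
    g = 1 := by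
  obtain ⟨z, hza, hzb⟩ := D.exists_third hn (x := D.a) (y := D.b)
  exact D.free3 g D.a D.b z D.hab hzb.symm hza.symm (h _) (h _) (h _)

/-- An involution of the two-point stabilizer inverts `F`. -/
theorem Frame.inverts (D : Frame G Ω) {z : G} (hz : z ∈ D.H) (hz1 : z ≠ 1) (hz2 : z * z = 1)
    {v : G} (hv : v ∈ D.F) : z * v * z⁻¹ = v⁻¹ := by
  classical
  have hzi : z⁻¹ = z := inv_eq_of_mul_eq_one_right hz2
  let ψ : D.F → D.F := fun u => u⁻¹ * ⟨z * u * z⁻¹, D.H_conj hz u.2⟩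
  have hinj : Function.Injective ψ := by
    intro u w huw
    have e : (u : G)⁻¹ * (z * u * z⁻¹) = (w : G)⁻¹ * (z * w * z⁻¹) := congrArg Subtype.val huw
    have e2 : z * ((w : G) * (u : G)⁻¹)⁻¹ * z⁻¹ = ((w : G) * (u : G)⁻¹)⁻¹ := by
      have e3 : z * u * z⁻¹ = (u : G) * ((w : G)⁻¹ * (z * w * z⁻¹)) := by rw [← e]; group
      calc z * ((w : G) * (u : G)⁻¹)⁻¹ * z⁻¹ = (z * u * z⁻¹) * (z * w * z⁻¹)⁻¹ := by group
        _ = _ := by rw [e3]; group
    rcases D.fpf hz (inv_mem (mul_mem w.2 (inv_mem u.2))) e2 with h | h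
    · exact Subtype.ext (mul_inv_eq_one.mp (inv_eq_one.mp h)).symm
    · exact absurd h hz1
  obtain ⟨u, hu⟩ := (Finite.injective_iff_surjective.mp hinj) ⟨v, hv⟩
  have e : (u : G)⁻¹ * (z * u * z⁻¹) = v := congrArg Subtype.val hu
  rw [← e, hzi]
  simp only [mul_inv_rev, hzi, inv_inv, mul_assoc, hz2, mul_one]

theorem Frame.F_comm_of_involution (D : Frame G Ω) {z : G} (hz : z ∈ D.H) (hz1 : z ≠ 1)
    (hz2 : z * z = 1) {u v : G} (hu : u ∈ D.F) (hv : v ∈ D.F) : u * v = v * u := by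
  have h := D.inverts hz hz1 hz2 (mul_mem (inv_mem hv) (inv_mem hu))
  have h' : z * (v⁻¹ * u⁻¹) * z⁻¹ = (z * v * z⁻¹)⁻¹ * (z * u * z⁻¹)⁻¹ := by group
  rw [h', D.inverts hz hz1 hz2 hv, D.inverts hz hz1 hz2 hu] at h
  simp only [inv_inv, mul_inv_rev] at h
  exact h.symm

theorem Frame.involution_unique (D : Frame G Ω) (hn : 2 ≤ Nat.card D.F) {z z' : G} (hz : z ∈ D.H)
    (hz1 : z ≠ 1) (hz2 : z * z = 1) (hz' : z' ∈ D.H) (hz'1 : z' ≠ 1) (hz'2 : z' * z' = 1) :
    z' = z := by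
  obtain ⟨u, hu, hu1⟩ : ∃ u ∈ D.F, u ≠ 1 := by
    by_contra h
    push Not at h
    have : D.F = ⊥ := (Subgroup.eq_bot_iff_forall _).mpr h
    rw [this, Subgroup.card_bot] at hn
    omega
  have e : (z' * z) * u * (z' * z)⁻¹ = u := by
    have e' : (z' * z) * u * (z' * z)⁻¹ = z' * (z * u * z⁻¹) * z'⁻¹ := by group
    rw [e', D.inverts hz hz1 hz2 hu, D.inverts hz' hz'1 hz'2 (inv_mem hu), inv_inv]
  rcases D.fpf (mul_mem hz' hz) hu e with h | h
  · exact absurd h hu1
  · rw [← inv_eq_of_mul_eq_one_right hz'2]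
    exact inv_eq_of_mul_eq_one_right h

/-- The involution fixing two given points is unique. -/
theorem Frame.involution_unique' (D : Frame G Ω) (hn : 2 ≤ Nat.card D.F) {x y : Ω} (hxy : x ≠ y)
    {z z' : G} (hx : z • x = x) (hy : z • y = y) (hz1 : z ≠ 1) (hz2 : z * z = 1)
    (hx' : z' • x = x) (hy' : z' • y = y) (hz'1 : z' ≠ 1) (hz'2 : z' * z' = 1) : z' = z := by
  obtain ⟨g, hga, hgb⟩ := D.two D.hab hxy
  have hmem : ∀ w : G, w • x = x → w • y = y → g⁻¹ * w * g ∈ D.H := fun w hwx hwy => by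
    refine ⟨?_, ?_⟩
    · show (g⁻¹ * w * g) • D.a = D.a
      rw [mul_smul, mul_smul, hga, hwx, inv_smul_eq_iff, hga]
    · show (g⁻¹ * w * g) • D.b = D.b
      rw [mul_smul, mul_smul, hgb, hwy, inv_smul_eq_iff, hgb]
  have hsq : ∀ w : G, w * w = 1 → (g⁻¹ * w * g) * (g⁻¹ * w * g) = 1 := fun w hw => by
    calc (g⁻¹ * w * g) * (g⁻¹ * w * g) = g⁻¹ * (w * w) * g := by group
      _ = 1 := by rw [hw]; group
  have hne : ∀ w : G, w ≠ 1 → g⁻¹ * w * g ≠ 1 := fun w hw e => hw (by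
    calc w = g * (g⁻¹ * w * g) * g⁻¹ := by group
      _ = 1 := by rw [e]; group)
  have e := D.involution_unique hn (hmem z hx hy) (hne z hz1) (hsq z hz2) (hmem z' hx' hy')
    (hne z' hz'1) (hsq z' hz'2)
  exact mul_left_cancel (mul_right_cancel e)

theorem Frame.exists_involution (D : Frame G Ω) (heven : Even (Nat.card D.H)) :
    ∃ z ∈ D.H, z ≠ 1 ∧ z * z = 1 := by
  obtain ⟨⟨z, hz⟩, ho⟩ := exists_prime_orderOf_dvd_card' (G := D.H) 2 (even_iff_two_dvd.mp heven)
  rw [Subgroup.orderOf_mk] at ho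
  refine ⟨z, hz, fun e => ?_, ?_⟩
  · rw [e, orderOf_one] at ho; omega
  · rw [← sq, ← ho, pow_orderOf_eq_one]

/-- When the two-point stabilizer has even order, `F` has odd order. -/
theorem Frame.odd_F (D : Frame G Ω) (heven : Even (Nat.card D.H)) : Odd (Nat.card D.F) := by
  obtain ⟨z, hz, hz1, hz2⟩ := D.exists_involution heven
  rw [← Nat.not_even_iff_odd]
  intro h
  obtain ⟨⟨u, hu⟩, ho⟩ := exists_prime_orderOf_dvd_card' (G := D.F) 2 (even_iff_two_dvd.mp h)
  rw [Subgroup.orderOf_mk] at ho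
  have hu2 : u⁻¹ = u := inv_eq_of_mul_eq_one_right (by rw [← sq, ← ho, pow_orderOf_eq_one])
  rcases D.fpf hz hu (by rw [D.inverts hz hz1 hz2 hu, hu2]) with e | e
  · rw [e, orderOf_one] at ho; omega
  · exact hz1 e

/-- For every further point there is an involution with that fixed point exchanging `a` and `b`. -/
theorem Frame.exists_swap_fixing (D : Frame G Ω) (hn : 2 ≤ Nat.card D.F)
    (heven : Even (Nat.card D.H)) {c : Ω} (hca : c ≠ D.a) (hcb : c ≠ D.b) :
    ∃ j : G, j * j = 1 ∧ j • D.a = D.b ∧ j • D.b = D.a ∧ j • c = c := by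
  obtain ⟨z, hz, hz1, hz2⟩ := D.exists_involution heven
  have hza : z • D.a = D.a := hz.1
  have hzb : z • D.b = D.b := hz.2
  have hzc : z • c ≠ c := fun e => hz1 (D.free3 z D.a D.b c D.hab hcb.symm hca.symm hza hzb e)
  obtain ⟨g, hga, hgb⟩ := D.two D.hab hzc.symm
  set j := g * z * g⁻¹ with hj
  have hj1 : j ≠ 1 := fun e => hz1 (conj_eq_one_iff.mp e)
  have hj2 : j * j = 1 := by
    calc j * j = g * (z * z) * g⁻¹ := by rw [hj]; group
      _ = 1 := by rw [hz2]; group
  have hjc : j • c = c := by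
    rw [hj, mul_smul, mul_smul, inv_smul_eq_iff.2 hga.symm, hza, hga]
  have hjc' : j • (z • c) = z • c := by
    rw [hj, mul_smul, mul_smul, inv_smul_eq_iff.2 hgb.symm, hzb, hgb]
  have hzzc : z • z • c = c := by rw [← mul_smul, hz2, one_smul]
  have hcomm : z * j * z = j := by
    refine D.involution_unique' hn hzc.symm hjc hjc' hj1 hj2 ?_ ?_ ?_ ?_
    · rw [mul_smul, mul_smul, hjc', hzzc]
    · rw [mul_smul, mul_smul, hzzc, hjc]
    · intro e
      exact hj1 (by
        calc j = (z * z) * j * (z * z) := by rw [hz2, one_mul, mul_one]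
          _ = z * (z * j * z) * z := by group
          _ = 1 := by rw [e, mul_one, hz2])
    · calc z * j * z * (z * j * z) = z * (j * (z * z) * j) * z := by group
        _ = 1 := by rw [hz2, mul_one, hj2, mul_one, hz2]
  have hperm : ∀ x : Ω, z • x = x → z • (j • x) = j • x := by
    intro x hx
    have : z * j = j * z := by
      calc z * j = z * j * (z * z) := by rw [hz2, mul_one]
        _ = (z * j * z) * z := by group
        _ = j * z := by rw [hcomm]
    rw [← mul_smul, this, mul_smul, hx]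
  have hfix : ∀ x : Ω, z • x = x → x = D.a ∨ x = D.b := by
    intro x hx
    by_contra h
    push Not at h
    exact hz1 (D.free3 z D.a D.b x D.hab h.2.symm h.1.symm hza hzb hx)
  have hja : j • D.a = D.b := by
    refine (hfix _ (hperm _ hza)).resolve_left fun e => ?_
    rcases hfix _ (hperm _ hzb) with e' | e'
    · exact D.b_ne (smul_left_cancel j (e'.trans e.symm))
    · exact hj1 (D.free3 j D.a D.b c D.hab hcb.symm hca.symm e e' hjc)
  refine ⟨j, hj2, hja, ?_, hjc⟩
  rw [← hja, ← mul_smul, hj2, one_smul]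

/-- The number of involutions exchanging two points is at least half of the number of other points. -/
theorem Frame.le_swap_involutions (D : Frame G Ω) (hn : 2 ≤ Nat.card D.F)
    (heven : Even (Nat.card D.H)) :
    Nat.card D.F - 1 ≤ 2 * Nat.card {g : G // g * g = 1 ∧ g • D.a = D.b ∧ g • D.b = D.a} := by
  classical
  haveI := D.finite_points
  haveI := Fintype.ofFinite Ω
  haveI := Fintype.ofFinite G
  let S : Finset Ω := (Finset.univ.erase D.a).erase D.b
  have hS : S.card + 1 = Nat.card D.F := by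
    have h := D.card_points
    rw [Nat.card_eq_fintype_card] at h
    rw [Finset.card_erase_of_mem (Finset.mem_erase.mpr ⟨D.b_ne, Finset.mem_univ _⟩),
      Finset.card_erase_of_mem (Finset.mem_univ _), Finset.card_univ]
    omega
  have hex : ∀ c : Ω, ∃ j : G, c ∈ S → j * j = 1 ∧ j • D.a = D.b ∧ j • D.b = D.a ∧ j • c = c := by
    intro c
    by_cases hc : c ∈ S
    · simp only [S, Finset.mem_erase] at hc
      obtain ⟨j, hj⟩ := D.exists_swap_fixing hn heven hc.2.1 hc.1
      exact ⟨j, fun _ => hj⟩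
    · exact ⟨1, fun h => absurd h hc⟩
  choose f hf using hex
  set T := Finset.univ.filter fun g : G => g * g = 1 ∧ g • D.a = D.b ∧ g • D.b = D.a
  have hle : S.card ≤ 2 * T.card := by
    refine Finset.card_le_mul_card_image_of_maps_to (f := f) (fun c hc => ?_) 2 fun j hj => ?_
    · exact Finset.mem_filter.mpr ⟨Finset.mem_univ _, (hf c hc).1, (hf c hc).2.1, (hf c hc).2.2.1⟩
    · have hj' := (Finset.mem_filter.mp hj).2
      by_contra hlt
      push Not at hlt
      obtain ⟨x, hx, y, hy, w, hw, hxy, hxw, hyw⟩ := Finset.two_lt_card.mp hlt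
      simp only [Finset.mem_filter] at hx hy hw
      have e := D.free3 j x y w hxy hyw hxw (hx.2 ▸ (hf x hx.1).2.2.2)
        (hy.2 ▸ (hf y hy.1).2.2.2) (hw.2 ▸ (hf w hw.1).2.2.2)
      rw [e, one_smul] at hj'
      exact D.hab hj'.2.1
  rw [Nat.card_eq_fintype_card (α := {g : G // g * g = 1 ∧ g • D.a = D.b ∧ g • D.b = D.a}), Fintype.card_subtype]
  change _ ≤ 2 * T.card
  omega

theorem Frame.half_of_even (D : Frame G Ω) (hn : 2 ≤ Nat.card D.F) (heven : Even (Nat.card D.H)) :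
    Nat.card D.F - 1 ≤ 2 * Nat.card D.H := by
  refine (D.le_swap_involutions hn heven).trans (Nat.mul_le_mul_left 2 ?_)
  rw [← D.card_swap]
  exact Nat.card_le_card_of_injective (fun g => ⟨g.1, g.2.2⟩) fun g g' e =>
    Subtype.ext (congrArg (fun x : {g : G // g • D.a = D.b ∧ g • D.b = D.a} => x.1) e)

/-- An element exchanging `a` and `b` inverts the two-point stabilizer when all such elements are involutions. -/
theorem Frame.inversion_of_swaps (D : Frame G Ω)
    (hall : ∀ g : G, g • D.a = D.b → g • D.b = D.a → g * g = 1) {s h : G} (hsa : s • D.a = D.b)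
    (hsb : s • D.b = D.a) (hh : h ∈ D.H) : s * h * s⁻¹ = h⁻¹ := by
  have h1 := hall (h * s) (by rw [mul_smul, hsa, hh.2]) (by rw [mul_smul, hsb, hh.1])
  calc s * h * s⁻¹ = h⁻¹ * ((h * s) * (h * s)) * (s * s)⁻¹ := by group
    _ = h⁻¹ := by rw [h1, hall s hsa hsb]; group

theorem Frame.swaps_involutions_of_even (D : Frame G Ω) (hn : 2 ≤ Nat.card D.F)
    (heven : Even (Nat.card D.H)) (hhalf : 2 * Nat.card D.H = Nat.card D.F - 1) {g : G}
    (hga : g • D.a = D.b) (hgb : g • D.b = D.a) : g * g = 1 := by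
  have h1 := D.le_swap_involutions hn heven
  rw [← hhalf, ← D.card_swap] at h1
  let f : {g : G // g * g = 1 ∧ g • D.a = D.b ∧ g • D.b = D.a} →
      {g : G // g • D.a = D.b ∧ g • D.b = D.a} := fun g => ⟨g.1, g.2.2⟩
  have hf : Function.Injective f := fun g g' e =>
    Subtype.ext (congrArg (fun x : {g : G // g • D.a = D.b ∧ g • D.b = D.a} => x.1) e)
  have hle := Nat.card_le_card_of_injective f hf
  obtain ⟨x, hx⟩ := ((Nat.bijective_iff_injective_and_card f).mpr ⟨hf, by omega⟩).2 ⟨g, hga, hgb⟩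
  have e : x.1 = g := congrArg Subtype.val hx
  exact e ▸ x.2.1

/-- An invariant subgroup of `F` is trivial or all of `F` when the two-point stabilizer is large. -/
theorem Frame.invariant_eq (D : Frame G Ω) (hd : Nat.card D.F - 1 ≤ 2 * Nat.card D.H)
    {K : Subgroup G} (hKF : K ≤ D.F) (hK : K ≠ ⊥) (hinv : ∀ h ∈ D.H, ∀ u ∈ K, h * u * h⁻¹ ∈ K) :
    K = D.F := by
  classical
  obtain ⟨⟨u, hu⟩, hu1⟩ := Subgroup.ne_bot_iff_exists_ne_one.mp hK
  have hu1' : u ≠ 1 := fun e => hu1 (Subtype.ext e)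
  let f : Option D.H → K := fun o => o.elim 1 fun h => ⟨(h : G) * u * (h : G)⁻¹, hinv _ h.2 u hu⟩
  have hf : Function.Injective f := by
    rintro (_ | g) (_ | h) e
    · rfl
    · exact absurd (conj_eq_one_iff.mp (congrArg Subtype.val e).symm) hu1'
    · exact absurd (conj_eq_one_iff.mp (congrArg Subtype.val e)) hu1'
    · have e' : (g : G) * u * (g : G)⁻¹ = (h : G) * u * (h : G)⁻¹ := congrArg Subtype.val e
      have e2 : ((h : G)⁻¹ * g) * u * ((h : G)⁻¹ * g)⁻¹ = u := by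
        calc ((h : G)⁻¹ * g) * u * ((h : G)⁻¹ * g)⁻¹ = (h : G)⁻¹ * ((g : G) * u * (g : G)⁻¹) * h := by group
          _ = u := by rw [e']; group
      rcases D.fpf (mul_mem (inv_mem h.2) g.2) (hKF hu) e2 with e3 | e3
      · exact absurd e3 hu1'
      · exact congrArg some (Subtype.ext (inv_mul_eq_one.mp e3).symm)
  have h1 := Nat.card_le_card_of_injective f hf
  rw [Finite.card_option] at h1
  by_contra hne
  obtain ⟨m, hm⟩ := Subgroup.card_dvd_of_le hKF
  have hm2 : 2 ≤ m := by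
    by_contra hm2
    have hF : 0 < Nat.card D.F := Nat.card_pos
    interval_cases m
    · omega
    · exact hne (Subgroup.eq_of_le_of_card_ge hKF (by omega))
  have hKm : Nat.card K * 2 ≤ Nat.card D.F := by rw [hm]; exact Nat.mul_le_mul_left _ hm2
  omega

/-- With a large two-point stabilizer the kernel is elementary abelian. -/
theorem Frame.kernel_elementary (D : Frame G Ω) (hn : 2 ≤ Nat.card D.F) (hH : D.H ≠ ⊥)
    (hd : Nat.card D.F - 1 ≤ 2 * Nat.card D.H) :
    IsMulCommutative D.F ∧ ∃ p f : ℕ, p.Prime ∧ (∀ u ∈ D.F, u ^ p = 1) ∧ Nat.card D.F = p ^ f := by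
  classical
  obtain ⟨h, hh, hp⟩ := Cfsg.Agent.Grp.exists_prime_order_mem hH
  haveI := Fact.mk hp
  have hnorm : h ∈ Subgroup.normalizer (D.F : Set G) := by
    refine Subgroup.mem_normalizer_iff.mpr fun u => ⟨fun hu => D.H_conj hh hu, fun hu => ?_⟩
    have := D.H_conj (inv_mem hh) hu
    simpa [mul_assoc] using this
  haveI hnil : Group.IsNilpotent D.F := Cfsg.Agent.Grp.isNilpotent_of_fpf (pow_orderOf_eq_one h) hnorm
    ((Subgroup.eq_bot_iff_forall _).mpr fun u hu => by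
      obtain ⟨huF, huC⟩ := hu
      have e := Subgroup.mem_centralizer_singleton_iff.mp huC
      rcases D.fpf hh huF (by rw [← e]; group) with h1 | h1
      · exact h1
      · exact absurd h1 (fun e' => hp.ne_one (by rw [e', orderOf_one])))
  haveI : Nontrivial D.F := Finite.one_lt_card_iff_nontrivial.mp (by omega)
  set Z : Subgroup G := (Subgroup.center D.F).map D.F.subtype with hZ
  have hZle : Z ≤ D.F := Subgroup.map_subtype_le _
  have hZne : Z ≠ ⊥ := by
    intro e
    have hc : Nontrivial (Subgroup.center D.F) :=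
      (Subgroup.nontrivial_iff_ne_bot _).mpr (Group.IsNilpotent.center_ne_bot _)
    obtain ⟨⟨⟨x, hx⟩, hxc⟩, hx1⟩ := exists_ne (1 : Subgroup.center D.F)
    have : x ∈ Z := ⟨⟨x, hx⟩, hxc, rfl⟩
    rw [e, Subgroup.mem_bot] at this
    exact hx1 (Subtype.ext (Subtype.ext this))
  have hZinv : ∀ g ∈ D.H, ∀ u ∈ Z, g * u * g⁻¹ ∈ Z := by
    rintro g hg _ ⟨⟨u, hu⟩, huc, rfl⟩
    refine ⟨⟨g * u * g⁻¹, D.H_conj hg hu⟩, ?_, rfl⟩
    simp only [SetLike.mem_coe, Subgroup.mem_center_iff] at huc ⊢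
    rintro ⟨w, hw⟩
    have e := congrArg Subtype.val (huc ⟨g⁻¹ * w * g, by simpa using D.H_conj (inv_mem hg) hw⟩)
    refine Subtype.ext ?_
    simp only [Subgroup.coe_mul] at e ⊢
    calc w * (g * u * g⁻¹) = g * ((g⁻¹ * w * g) * u) * g⁻¹ := by group
      _ = g * (u * (g⁻¹ * w * g)) * g⁻¹ := by rw [e]
      _ = _ := by group
  have hZe := D.invariant_eq hd hZle hZne hZinv
  have hcomm : ∀ u ∈ D.F, ∀ v ∈ D.F, u * v = v * u := by
    intro u hu v hv
    rw [← hZe] at hu
    obtain ⟨⟨u', hu'⟩, huc, rfl⟩ := hu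
    exact (congrArg Subtype.val (Subgroup.mem_center_iff.mp huc ⟨v, hv⟩)).symm
  refine ⟨⟨⟨fun x y => Subtype.ext (hcomm _ x.2 _ y.2)⟩⟩, ?_⟩
  obtain ⟨p, hp', hpd⟩ := Nat.exists_prime_and_dvd (show Nat.card D.F ≠ 1 by omega)
  haveI := Fact.mk hp'
  obtain ⟨⟨x, hx⟩, hxo⟩ := exists_prime_orderOf_dvd_card' (G := D.F) p hpd
  rw [Subgroup.orderOf_mk] at hxo
  let K : Subgroup G :=
    { carrier := {u | u ∈ D.F ∧ u ^ p = 1}
      one_mem' := ⟨D.F.one_mem, one_pow _⟩
      mul_mem' := fun {u v} hu hv => ⟨mul_mem hu.1 hv.1, by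
        rw [Commute.mul_pow (hcomm u hu.1 v hv.1), hu.2, hv.2, one_mul]⟩
      inv_mem' := fun {u} hu => ⟨inv_mem hu.1, by rw [inv_pow, hu.2, inv_one]⟩ }
  have hKe := D.invariant_eq hd (K := K) (fun u hu => hu.1)
    (fun e => hp'.ne_one (by
      have : x ∈ K := ⟨hx, hxo ▸ pow_orderOf_eq_one x⟩
      rw [e, Subgroup.mem_bot] at this
      rw [← hxo, this, orderOf_one]))
    (fun g hg u hu => ⟨D.H_conj hg hu.1, by rw [conj_pow, hu.2, mul_one, mul_inv_cancel]⟩)
  have hpow : ∀ u ∈ D.F, u ^ p = 1 := fun u hu => (hKe.ge hu).2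
  obtain ⟨f, hf⟩ := IsPGroup.iff_card.mp
    (show IsPGroup p D.F from fun u => ⟨1, Subtype.ext (by simpa using hpow u u.2)⟩)
  exact ⟨p, f, hp', hpow, hf⟩

end Cfsg.Agent.Block.Zas
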