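import Mathlib

/-!
# Signs of semiregular permutations
-/

set_option autoImplicit false

namespace Cfsg.Agent.Block.Zas

/-- A permutation whose non-trivial powers have the same fixed points has equally long cycles. -/
theorem sign_of_semiregular {α : Type*} [Fintype α] [DecidableEq α] (σ : Equiv.Perm α)
    (hσ : ∀ (i : ℕ) (x : α), x ∈ σ.support → (σ ^ i) x = x → σ ^ i = 1) {m : ℕ}
    (hcard : σ.support.card = orderOf σ * m) :
    Equiv.Perm.sign σ = (-1) ^ (orderOf σ * m + m) := by
  have hall : ∀ k ∈ σ.cycleType, k = orderOf σ := by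
    intro k hk
    refine Nat.dvd_antisymm (Equiv.Perm.dvd_of_mem_cycleType hk) ?_
    rw [Equiv.Perm.cycleType_def, Multiset.mem_map] at hk
    obtain ⟨c, hc, rfl⟩ := hk
    have hc' : c ∈ σ.cycleFactorsFinset := Finset.mem_def.mpr hc
    have hcyc := (Equiv.Perm.mem_cycleFactorsFinset_iff.mp hc').1
    obtain ⟨x, hx⟩ := hcyc.nonempty_support
    have e : c = σ.cycleOf x :=
      Equiv.Perm.cycle_is_cycleOf hx hc'
    refine orderOf_dvd_of_pow_eq_one (hσ _ x (Equiv.Perm.mem_cycleFactorsFinset_support_le hc' hx) ?_)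
    show (σ ^ (Finset.card c.support)) x = x
    rw [← hcyc.orderOf, ← Equiv.Perm.cycleOf_pow_apply_self, ← e, pow_orderOf_eq_one]
    rfl
  have hrep := Multiset.eq_replicate_card.mpr hall
  have hsum := σ.sum_cycleType
  rw [hrep, Multiset.sum_replicate, smul_eq_mul, hcard, mul_comm] at hsum
  have hl : Multiset.card σ.cycleType = m := Nat.eq_of_mul_eq_mul_left (orderOf_pos σ) hsum
  rw [Equiv.Perm.sign_of_cycleType, σ.sum_cycleType, hcard, hl]

end Cfsg.Agent.Block.Zas
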