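import Mathlib

/-!
# Transport of two-dimensional projective linear groups along field isomorphisms
-/

set_option autoImplicit false

namespace Cfsg.Agent.Block.Zas

theorem nonempty_quotient_center_congr {A B : Type*} [Group A] [Group B] (e : A ≃* B) :
    Nonempty (A ⧸ Subgroup.center A ≃* B ⧸ Subgroup.center B) := by
  refine ⟨QuotientGroup.congr _ _ e ?_⟩
  ext b
  constructor
  · rintro ⟨a, ha, rfl⟩
    refine Subgroup.mem_center_iff.mpr fun y => ?_
    obtain ⟨y, rfl⟩ := e.surjective y
    show e y * e a = e a * e y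
    rw [← map_mul, Subgroup.mem_center_iff.mp ha y, map_mul]
  · intro hb
    refine ⟨e.symm b, Subgroup.mem_center_iff.mpr fun y => ?_, e.apply_symm_apply b⟩
    apply e.injective
    rw [map_mul, map_mul, e.apply_symm_apply]
    exact Subgroup.mem_center_iff.mp hb (e y)

theorem psl_congr {K L : Type} [Field K] [Field L] {n : ℕ} (e : K ≃+* L) :
    Nonempty (Matrix.ProjectiveSpecialLinearGroup (Fin n) K ≃*
      Matrix.ProjectiveSpecialLinearGroup (Fin n) L) := by
  refine nonempty_quotient_center_congr (MonoidHom.toMulEquiv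
    (Matrix.SpecialLinearGroup.map (e : K →+* L)) (Matrix.SpecialLinearGroup.map (e.symm : L →+* K))
    ?_ ?_)
  · refine MonoidHom.ext fun g => ?_
    ext i j
    exact e.symm_apply_apply _
  · refine MonoidHom.ext fun g => ?_
    ext i j
    exact e.apply_symm_apply _

theorem pgl_congr {K L : Type} [Field K] [Field L] {n : ℕ} (e : K ≃+* L) :
    Nonempty (Matrix.ProjGenLinGroup (Fin n) K ≃* Matrix.ProjGenLinGroup (Fin n) L) := by
  refine nonempty_quotient_center_congr ?_
  exact Units.mapEquiv (RingEquiv.mapMatrix (m := Fin n) e).toMulEquiv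

end Cfsg.Agent.Block.Zas
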