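import Cfsg.Agent.Lib.Block.Zas.SharpEven
import Cfsg.Agent.Lib.Block.Zas.SignSemi
import Cfsg.Agent.Lib.Block.Zas.OddStab

/-!
# Sharply triply transitive groups of degree `p^f + 1`, `f` odd
-/

set_option autoImplicit false

namespace Cfsg.Agent.Block.Zas

open MulAction OnePoint

universe u v

/-- An automorphism of order at most two of a finite field of odd degree over its prime field is trivial. -/
theorem ringEquiv_eq_self {K : Type*} [Field K] [Fintype K] {p f : ℕ} [Fact p.Prime] [CharP K p]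
    (hcard : Fintype.card K = p ^ f) (hfo : Odd f) (α : K ≃+* K) (h2 : ∀ x, α (α x) = x) (x : K) :
    α x = x := by
  letI := ZMod.algebra K p
  let a : K ≃ₐ[ZMod p] K := AlgEquiv.ofRingEquiv (f := α) fun r =>
    RingHom.congr_fun (Subsingleton.elim ((α.toRingHom).comp (algebraMap (ZMod p) K))
      (algebraMap (ZMod p) K)) r
  have hfin : Module.finrank (ZMod p) K = f := by
    have h := Module.natCard_eq_pow_finrank (K := ZMod p) (V := K)
    rw [Nat.card_zmod, Nat.card_eq_fintype_card, hcard] at h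
    exact (Nat.pow_right_injective (Fact.out : p.Prime).two_le h).symm
  have h1 : orderOf a ∣ f := by
    rw [← hfin, ← IsGalois.card_aut_eq_finrank]
    exact orderOf_dvd_natCard a
  have h3 : orderOf a ∣ 2 := orderOf_dvd_of_pow_eq_one (by
    rw [sq]; exact AlgEquiv.ext fun y => h2 y)
  have h4 := Nat.dvd_gcd h1 h3
  rw [(Nat.coprime_two_right.mpr hfo : Nat.gcd f 2 = 1), Nat.dvd_one, orderOf_eq_one_iff] at h4
  exact congrArg (fun b : K ≃ₐ[ZMod p] K => b x) h4

/-- The determinant over the prime field as a homomorphism on additive endomorphisms. -/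
theorem exists_det {A : Type*} [AddCommGroup A] [Finite A] {p f : ℕ} [Fact p.Prime]
    [Module (ZMod p) A] (hcard : Nat.card A = p ^ f) :
    ∃ δ : AddMonoid.End A →* ZMod p, ∀ e : AddMonoid.End A, (∀ x, e x = -x) → δ e = (-1) ^ f := by
  haveI : Module.Finite (ZMod p) A := Module.Finite.of_finite
  have hfin : Module.finrank (ZMod p) A = f := by
    have h := Module.natCard_eq_pow_finrank (K := ZMod p) (V := A)
    rw [Nat.card_zmod, hcard] at h
    exact (Nat.pow_right_injective (Fact.out : p.Prime).two_le h).symm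
  refine ⟨{ toFun := fun e => LinearMap.det (AddMonoidHom.toZModLinearMap p (M := A) (M₁ := A) e)
            map_one' := ?_, map_mul' := fun e e' => ?_ }, fun e he => ?_⟩
  · rw [show AddMonoidHom.toZModLinearMap p (M := A) (M₁ := A) (1 : AddMonoid.End A) = LinearMap.id from
      LinearMap.ext fun x => rfl, LinearMap.det_id]
  · rw [show AddMonoidHom.toZModLinearMap p (M := A) (M₁ := A) (e * e') =
      (AddMonoidHom.toZModLinearMap p e).comp (AddMonoidHom.toZModLinearMap p (M := A) (M₁ := A) e') from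
      LinearMap.ext fun x => rfl, LinearMap.det_comp]
  · show LinearMap.det (AddMonoidHom.toZModLinearMap p (M := A) (M₁ := A) e) = _
    rw [show AddMonoidHom.toZModLinearMap p (M := A) (M₁ := A) e = (-1 : ZMod p) • LinearMap.id from
      LinearMap.ext fun x => (he x).trans (neg_one_smul (ZMod p) x).symm, LinearMap.det_smul, LinearMap.det_id, hfin, mul_one]

variable {G : Type u} {Ω : Type v} [Group G] [MulAction G Ω] [Finite G]

/-- In odd dimension some element of the two-point stabilizer has even order and odd cofactor. -/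
theorem Frame.exists_full_two_part (D : Frame G Ω) (hn : 2 ≤ Nat.card D.F)
    (heven : Even (Nat.card D.H)) {p f : ℕ} (hp : p.Prime) (hp2 : p ≠ 2) (hfo : Odd f)
    (hpow : ∀ u ∈ D.F, u ^ p = 1) (hcard : Nat.card D.F = p ^ f)
    (hc : ∀ u ∈ D.F, ∀ w ∈ D.F, u * w = w * u) :
    ∃ g ∈ D.H, Even (orderOf g) ∧ ∃ m, Odd m ∧ Nat.card D.H = orderOf g * m := by
  classical
  letI : CommGroup D.F := { (inferInstance : Group D.F) with
    mul_comm := fun x y => Subtype.ext (hc _ x.2 _ y.2) }
  letI : Module (ZMod p) (Additive D.F) := AddCommGroup.zmodModule fun x =>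
    congrArg Additive.ofMul (Subtype.ext (by
      have h := hpow _ (Additive.toMul x : D.F).2
      simpa using h) : (Additive.toMul x : D.F) ^ p = 1)
  haveI := Fact.mk hp
  let cj : D.H → (Additive D.F →+ Additive D.F) := fun h =>
    { toFun := fun x => Additive.ofMul ⟨(h : G) * (Additive.toMul x : D.F) * (h : G)⁻¹,
        D.H_conj h.2 (Additive.toMul x : D.F).2⟩
      map_zero' := by
        refine congrArg Additive.ofMul (Subtype.ext ?_)
        show (h : G) * 1 * (h : G)⁻¹ = 1
        group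
      map_add' := fun x y => by
        refine congrArg Additive.ofMul (Subtype.ext ?_)
        show (h : G) * (((Additive.toMul x : D.F) : G) * (Additive.toMul y : D.F)) * (h : G)⁻¹ =
          ((h : G) * ((Additive.toMul x : D.F) : G) * (h : G)⁻¹) *
            ((h : G) * ((Additive.toMul y : D.F) : G) * (h : G)⁻¹)
        group }
  let ρ : D.H →* AddMonoid.End (Additive D.F) :=
    { toFun := cj
      map_one' := by
        refine AddMonoidHom.ext fun x => congrArg Additive.ofMul (Subtype.ext ?_)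
        show (1 : G) * ((Additive.toMul x : D.F) : G) * (1 : G)⁻¹ = ((Additive.toMul x : D.F) : G)
        simp
      map_mul' := fun g h => by
        refine AddMonoidHom.ext fun x => congrArg Additive.ofMul (Subtype.ext ?_)
        show ((g : G) * h) * ((Additive.toMul x : D.F) : G) * ((g : G) * h)⁻¹ =
          (g : G) * ((h : G) * ((Additive.toMul x : D.F) : G) * (h : G)⁻¹) * (g : G)⁻¹
        group }
  obtain ⟨δ₁, hδ₁⟩ := exists_det (A := Additive D.F) (p := p) (f := f)
    (by rw [Nat.card_congr Additive.toMul, hcard])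
  let δ : D.H →* (ZMod p)ˣ := (δ₁.comp ρ).toHomUnits
  obtain ⟨z, hz, hz1, hz2⟩ := D.exists_involution heven
  have hne : (-1 : ZMod p) ≠ 1 := by
    haveI : Fact (2 < p) := ⟨lt_of_le_of_ne hp.two_le (Ne.symm hp2)⟩
    exact ZMod.neg_one_ne_one
  have hδz : (δ ⟨z, hz⟩ : ZMod p) = -1 := by
    show δ₁ (ρ ⟨z, hz⟩) = -1
    rw [hδ₁ _ fun x => ?_, hfo.neg_one_pow]
    exact congrArg Additive.ofMul (Subtype.ext (D.inverts hz hz1 hz2 (Additive.toMul x : D.F).2) :
      (⟨z * (Additive.toMul x : D.F) * z⁻¹, _⟩ : D.F) = (Additive.toMul x : D.F)⁻¹)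
  have hker : Odd (Nat.card δ.ker) := by
    rw [← Nat.not_even_iff_odd]
    intro h
    obtain ⟨⟨⟨k, hk⟩, hk'⟩, ho⟩ := exists_prime_orderOf_dvd_card' (G := δ.ker) 2 (even_iff_two_dvd.mp h)
    rw [Subgroup.orderOf_mk, Subgroup.orderOf_mk] at ho
    have e : k = z := D.involution_unique hn hz hz1 hz2 hk
      (fun e => by rw [e, orderOf_one] at ho; omega) (by rw [← sq, ← ho, pow_orderOf_eq_one])
    subst e
    rw [MonoidHom.mem_ker] at hk'
    rw [hk', Units.val_one] at hδz
    exact hne hδz.symm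
  obtain ⟨w, hw⟩ := IsCyclic.exists_generator (α := δ.range)
  obtain ⟨⟨g, hg⟩, hgw⟩ := w.2
  have how : orderOf w = Nat.card δ.range := orderOf_eq_card_of_forall_mem_zpowers hw
  have h1 : Nat.card δ.range ∣ orderOf (⟨g, hg⟩ : D.H) := by
    rw [← how, ← Subgroup.orderOf_coe, ← hgw]
    exact orderOf_map_dvd δ _
  have hsplit : Nat.card D.H = Nat.card δ.ker * Nat.card δ.range := by
    rw [← δ.ker.card_mul_index, Subgroup.index_ker]
  have hr2 : 2 ∣ Nat.card δ.range := by
    have ho : orderOf (⟨δ ⟨z, hz⟩, ⟨_, rfl⟩⟩ : δ.range) = 2 := by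
      rw [← Subgroup.orderOf_coe]
      refine orderOf_eq_prime ?_ fun h => hne ?_
      · rw [sq, ← map_mul, show (⟨z, hz⟩ : D.H) * ⟨z, hz⟩ = 1 from Subtype.ext hz2, map_one]
      · rw [← hδz]
        exact congrArg Units.val h
    exact ho ▸ orderOf_dvd_natCard _
  obtain ⟨j, hj⟩ := h1
  obtain ⟨m, hm⟩ := orderOf_dvd_natCard (⟨g, hg⟩ : D.H)
  refine ⟨g, hg, ?_, m, ?_, ?_⟩
  · rw [← Subgroup.orderOf_mk g hg, hj]
    exact (even_iff_two_dvd.mpr hr2).mul_right j
  · have e : Nat.card δ.ker = j * m := by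
      rw [hj, hsplit, mul_comm, mul_assoc] at hm
      exact Nat.eq_of_mul_eq_mul_left Nat.card_pos hm
    exact (Nat.odd_mul.mp (e ▸ hker)).2
  · rw [← Subgroup.orderOf_mk g hg]
    exact hm

set_option maxHeartbeats 1000000 in
theorem sharp_odd_pow {α : Type v} [Fintype α] [DecidableEq α] {p f : ℕ} (hp : p.Prime) (hp2 : p ≠ 2)
    (hfo : Odd f) (hα : Fintype.card α = p ^ f + 1) (G : Subgroup (Equiv.Perm α))
    (h3 : IsMultiplyPretransitive G α 3) (hsharp : ∀ x : Fin 3 ↪ α, stabilizer G x = ⊥) :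
    ∃ (F : Type) (_ : Field F) (_ : Fintype F), Fintype.card F = p ^ f ∧
      Nonempty (G ≃* Matrix.ProjGenLinGroup (Fin 2) F) := by
  classical
  haveI := Fact.mk hp
  have hp3 : 3 ≤ p := lt_of_le_of_ne hp.two_le (Ne.symm hp2)
  have hq3 : p ≤ p ^ f := Nat.le_self_pow hfo.pos.ne' p
  have hqodd : Odd (p ^ f) := (hp.odd_of_ne_two hp2).pow
  obtain ⟨a, b, hab⟩ := Fintype.exists_pair_of_one_lt_card (α := α) (by omega)
  obtain ⟨D, rfl, rfl, hd, htr⟩ := frame_of_sharp h3 hsharp hab (by
    rw [Nat.card_eq_fintype_card]; omega)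
  have hcF : Nat.card D.F = p ^ f := by
    have := D.card_points
    rw [Nat.card_eq_fintype_card] at this
    omega
  have hn : 2 ≤ Nat.card D.F := by omega
  by_cases hsmall : p ^ f = 3
  · have hp3' : p = 3 := by omega
    subst hp3'
    refine ⟨ZMod 3, inferInstance, inferInstance, by rw [ZMod.card, hsmall],
      iso_pgl_of_top G ?_ ?_ ?_⟩
    · refine Subgroup.eq_top_of_card_eq G ?_
      rw [D.card_group, hd, hcF, hsmall, Nat.card_perm, Nat.card_eq_fintype_card, hα, hsmall]
      rfl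
    · rw [hα, ZMod.card, hsmall]
    · rw [D.card_group, hd, hcF, hsmall, ZMod.card]
  have hd2 : 2 * ((p ^ f - 1) / 2) = p ^ f - 1 := by
    obtain ⟨k, hk⟩ := hqodd
    omega
  have heven : Even (Nat.card D.H) := by
    rw [hd, hcF, ← hd2]
    exact even_two_mul _
  have hH : D.H ≠ ⊥ := fun e => by
    rw [e, Subgroup.card_bot] at hd
    omega
  obtain ⟨hFc, p', f', hp', hpow', hcard'⟩ := D.kernel_elementary hn hH (by omega)
  have hpp : p' = p := by
    have h1 : p ∣ p' ^ f' := hcard' ▸ hcF ▸ dvd_pow_self p hfo.pos.ne'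
    exact ((Nat.prime_dvd_prime_iff_eq hp hp').mp (hp.dvd_of_dvd_pow h1)).symm
  rw [hpp] at hpow'
  have hcomm : ∀ u ∈ D.F, ∀ w ∈ D.F, u * w = w * u := fun u hu w hw =>
    congrArg Subtype.val (hFc.is_comm.comm (⟨u, hu⟩ : D.F) ⟨w, hw⟩)
  obtain ⟨g, hg, hgeven, m, hm, hgm⟩ := D.exists_full_two_part hn heven hp hp2 hfo hpow' hcF hcomm
  let ε : G →* ℤˣ := Equiv.Perm.sign.comp G.subtype
  -- signs on the two-point stabilizer
  have hsupp : ∀ h : G, h ∈ D.H → h ≠ 1 →
      (h : Equiv.Perm α).support.card = Nat.card D.H := by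
    intro h hh hne
    have e : (h : Equiv.Perm α).support = (Finset.univ.erase D.a).erase D.b := by
      ext x
      simp only [Equiv.Perm.mem_support, Finset.mem_erase, Finset.mem_univ, and_true]
      constructor
      · intro hx
        exact ⟨fun e => hx (e ▸ hh.2), fun e => hx (e ▸ hh.1)⟩
      · intro hx e
        rcases D.fix_only hh hne (show h • x = x from e) with e' | e'
        · exact hx.2 e'
        · exact hx.1 e'
    rw [e, Finset.card_erase_of_mem (Finset.mem_erase.mpr ⟨D.b_ne, Finset.mem_univ _⟩),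
      Finset.card_erase_of_mem (Finset.mem_univ _), Finset.card_univ, hd, hcF, hα]
    omega
  have hg1 : g ≠ 1 := fun e => by
    rw [e, orderOf_one] at hgeven
    exact Nat.not_even_one hgeven
  have hεg : ε g = -1 := by
    have ho : orderOf (g : Equiv.Perm α) = orderOf g := Subgroup.orderOf_coe g
    show Equiv.Perm.sign (g : Equiv.Perm α) = -1
    rw [sign_of_semiregular (g : Equiv.Perm α) (m := m) ?_ (by rw [hsupp g hg hg1, ho, hgm]), ho]
    · exact ((hgeven.mul_right m).add_odd hm).neg_one_pow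
    · intro i x hx hix
      rw [Equiv.Perm.mem_support] at hx
      by_contra hne
      have hne' : g ^ i ≠ 1 := fun e => hne (by rw [← Subgroup.coe_pow, e]; rfl)
      rcases D.fix_only (pow_mem hg i) hne' (show (g ^ i) • x = x from hix) with e | e
      · exact hx (e ▸ hg.1)
      · exact hx (e ▸ hg.2)
  let G0 : Subgroup G := ε.ker
  have hmem0 : ∀ x : G, x ∈ G0 ↔ ε x = 1 := fun x => MonoidHom.mem_ker
  have hFle : D.F ≤ G0 := by
    intro u hu
    rw [hmem0]
    rcases Int.units_eq_one_or (ε u) with h | h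
    · exact h
    exfalso
    have h1 := congrArg ε (hpow' u hu)
    rw [map_pow, h, map_one, (hp.odd_of_ne_two hp2).neg_one_pow] at h1
    exact absurd h1 (by decide)
  have htwo0 : ∀ {x y z w : α}, x ≠ y → z ≠ w → ∃ k : G0, k • x = z ∧ k • y = w := by
    intro x y z w hxy hzw
    obtain ⟨k, hkx, hky⟩ := D.two hxy hzw
    rcases Int.units_eq_one_or (ε k) with h | h
    · exact ⟨⟨k, (hmem0 k).mpr h⟩, hkx, hky⟩
    obtain ⟨c, hca, hcb⟩ := D.two D.hab hzw
    refine ⟨⟨c * g * c⁻¹ * k, (hmem0 _).mpr ?_⟩, ?_, ?_⟩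
    · rw [map_mul, map_mul, map_mul, map_inv, hεg, h]
      rcases Int.units_eq_one_or (ε c) with e | e <;> rw [e] <;> decide
    · show (c * g * c⁻¹ * k) • x = z
      rw [mul_smul, hkx, mul_smul, mul_smul, inv_smul_eq_iff.2 hca.symm, hg.1, hca]
    · show (c * g * c⁻¹ * k) • y = w
      rw [mul_smul, hky, mul_smul, mul_smul, inv_smul_eq_iff.2 hcb.symm, hg.2, hcb]
  let D0 : Frame G0 α :=
    { a := D.a
      b := D.b
      F := D.F.subgroupOf G0
      hab := D.hab
      free3 := fun k x y z h1 h2 h3 hx hy hz => Subtype.ext (D.free3 (k : G) x y z h1 h2 h3 hx hy hz)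
      two := htwo0
      F_fix := fun u hu => D.F_fix (u : G) hu
      F_conj := fun k hk u hu => D.F_conj (k : G) hk _ hu
      F_reg := fun y z hy hz => by
        obtain ⟨u, hu, huniq⟩ := D.F_reg y z hy hz
        exact ⟨⟨⟨u, hFle u.2⟩, u.2⟩, hu, fun w hw =>
          Subtype.ext (Subtype.ext (congrArg (fun t : D.F => (t : G)) (huniq ⟨w.1.1, w.2⟩ hw)))⟩ }
  have hcF0 : Nat.card D0.F = p ^ f :=
    (Nat.card_congr (Subgroup.subgroupOfEquivOfLe hFle).toEquiv).trans hcF
  have hcH0 : 2 * Nat.card D0.H = Nat.card D.H := by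
    let η : D.H →* ℤˣ := ε.comp D.H.subtype
    have hr : η.range = ⊤ := eq_top_iff.mpr fun x _ => by
      rcases Int.units_eq_one_or x with rfl | rfl
      · exact one_mem _
      · exact ⟨⟨g, hg⟩, hεg⟩
    have h1 := η.ker.card_mul_index
    rw [Subgroup.index_ker, hr, Nat.card_congr Subgroup.topEquiv.toEquiv, Nat.card_eq_fintype_card
      (α := ℤˣ), Fintype.card_units_int] at h1
    have he : Nat.card η.ker = Nat.card D0.H := Nat.card_congr
      { toFun := fun x => ⟨⟨((x : D.H) : G), x.2⟩, (x : D.H).2⟩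
        invFun := fun x => ⟨⟨((x : G0) : G), x.2⟩, (x : G0).2⟩
        left_inv := fun x => rfl
        right_inv := fun x => rfl }
    rw [← he, mul_comm, h1]
  have hn0 : 2 ≤ Nat.card D0.F := by omega
  have hH0 : D0.H ≠ ⊥ := fun e => by
    rw [e, Subgroup.card_bot] at hcH0
    omega
  -- all even exchanging elements are involutions
  obtain ⟨z, hz, hz1, hz2⟩ := D.exists_involution heven
  let S := {x : α // x ≠ D.a ∧ x ≠ D.b}
  choose s hs using fun c : S => D.sharp_swap h3 c.2.1 c.2.2
  have hswapz : ∀ t : G, t * t = 1 → t • D.a = D.b → t • D.b = D.a → t * z = z * t := by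
    intro t ht hta htb
    have e : t * z * t⁻¹ = z := D.involution_unique hn hz hz1 hz2
      (D.swap_conj_mem hta htb ⟨z, hz⟩) (fun e => hz1 (conj_eq_one_iff.mp e))
      (by
        calc t * z * t⁻¹ * (t * z * t⁻¹) = t * (z * z) * t⁻¹ := by group
          _ = 1 := by rw [hz2]; group)
    conv_rhs => rw [← e]
    group
  have hzc : ∀ c : S, z • (c : α) ≠ c := fun c h => hz1
    (D.free3 z D.a D.b c D.hab c.2.2.symm c.2.1.symm hz.1 hz.2 h)
  have hsz : ∀ c : S, s c • z • (c : α) = z • (c : α) := fun c => by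
    rw [← mul_smul, hswapz _ (hs c).1 (hs c).2.1 (hs c).2.2.1, mul_smul, (hs c).2.2.2]
  have hs1 : ∀ c : S, s c ≠ 1 := fun c e => D.hab (by
    have := (hs c).2.1
    rwa [e, one_smul] at this)
  have hεs : ∀ c : S, ε (s c) = ε z := by
    intro c
    obtain ⟨k, hka, hkb⟩ := D.two D.hab (hzc c).symm
    have e : k * z * k⁻¹ = s c := D.involution_unique' hn (hzc c).symm (hs c).2.2.2 (hsz c) (hs1 c)
      (hs c).1 (by rw [mul_smul, mul_smul, inv_smul_eq_iff.2 hka.symm, hz.1, hka])
      (by rw [mul_smul, mul_smul, inv_smul_eq_iff.2 hkb.symm, hz.2, hkb])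
      (fun e => hz1 (conj_eq_one_iff.mp e)) (by
        calc k * z * k⁻¹ * (k * z * k⁻¹) = k * (z * z) * k⁻¹ := by group
          _ = 1 := by rw [hz2]; group)
    rw [← e, map_mul, map_mul, map_inv, mul_right_comm, mul_inv_cancel, one_mul]
  let w : G := if ε z = 1 then 1 else z
  have hw : w * w = 1 ∧ w ∈ D.H ∧ ε w = ε z ∧
      ∀ t : G, t * t = 1 → t • D.a = D.b → t • D.b = D.a → t * w = w * t := by
    by_cases h : ε z = 1
    · simp [w, h, one_mem]
    · simp only [w, if_neg h]
      exact ⟨hz2, hz, trivial, hswapz⟩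
  have hT : ∀ c : S, s c * w ∈ G0 ∧ (s c * w) * (s c * w) = 1 ∧ (s c * w) • D.a = D.b ∧
      (s c * w) • D.b = D.a := by
    intro c
    refine ⟨(hmem0 _).mpr ?_, ?_, ?_, ?_⟩
    · rw [map_mul, hεs, hw.2.2.1, Int.units_mul_self]
    · calc s c * w * (s c * w) = s c * (w * s c) * w := by group
        _ = (s c * s c) * (w * w) := by
          rw [← hw.2.2.2 _ (hs c).1 (hs c).2.1 (hs c).2.2.1]; group
        _ = 1 := by rw [(hs c).1, hw.1, one_mul]
    · rw [mul_smul, (D.mem_H.mp hw.2.1).1, (hs c).2.1]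
    · rw [mul_smul, (D.mem_H.mp hw.2.1).2, (hs c).2.2.1]
  have hswaps : ∀ k : G0, k • D0.a = D0.b → k • D0.b = D0.a → k * k = 1 := by
    intro k hka hkb
    let T := {k : G0 // k • D0.a = D0.b ∧ k • D0.b = D0.a}
    let Φ : S → T := fun c => ⟨⟨s c * w, (hT c).1⟩, (hT c).2.2.1, (hT c).2.2.2⟩
    haveI := Fintype.ofFinite T
    have hfib : ∀ t : T, (Finset.univ.filter fun c : S => Φ c = t).card ≤ 2 := by
      intro t
      by_contra hlt
      push Not at hlt
      obtain ⟨x, hx, y, hy, v, hv, hxy, hxv, hyv⟩ := Finset.two_lt_card.mp hlt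
      simp only [Finset.mem_filter, Finset.mem_univ, true_and] at hx hy hv
      have exy : s y = s x := mul_right_cancel
        (congrArg (fun t : T => ((t : G0) : G)) (hy.trans hx.symm))
      have exv : s v = s x := mul_right_cancel
        (congrArg (fun t : T => ((t : G0) : G)) (hv.trans hx.symm))
      exact hs1 x (D.free3 (s x) x y v (fun e => hxy (Subtype.ext e)) (fun e => hyv (Subtype.ext e))
        (fun e => hxv (Subtype.ext e)) (hs x).2.2.2 (exy ▸ (hs y).2.2.2) (exv ▸ (hs v).2.2.2))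
    have hsize : Fintype.card S = Nat.card D.H := by
      rw [Fintype.card_subtype,
        show (Finset.univ.filter fun x : α => x ≠ D.a ∧ x ≠ D.b) = (Finset.univ.erase D.a).erase D.b by
          ext x; simp [and_comm],
        Finset.card_erase_of_mem (Finset.mem_erase.mpr ⟨D.b_ne, Finset.mem_univ _⟩),
        Finset.card_erase_of_mem (Finset.mem_univ _), Finset.card_univ, hα, hd, hcF]
      omega
    have h1 : (Finset.univ : Finset S).card ≤ 2 * (Finset.univ.image Φ).card :=
      Finset.card_le_mul_card_image _ 2 fun t _ => hfib t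
    have hTcard : Fintype.card T = Nat.card D0.H := by
      rw [← Nat.card_eq_fintype_card, D0.card_swap]
    have himg : Finset.univ.image Φ = Finset.univ := by
      refine Finset.eq_univ_of_card _ (le_antisymm (Finset.card_le_univ _) ?_)
      rw [Finset.card_univ, hsize] at h1
      omega
    obtain ⟨c, -, hc⟩ := Finset.mem_image.mp (himg.ge (Finset.mem_univ (⟨k, hka, hkb⟩ : T)))
    have e : k = ⟨s c * w, (hT c).1⟩ := congrArg Subtype.val hc.symm
    rw [e]
    exact Subtype.ext (hT c).2.1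
  have hinv : ∀ t : G0, t • D0.a = D0.b → t • D0.b = D0.a → ∀ h ∈ D0.H, t * h * t⁻¹ = h⁻¹ :=
    fun t hta htb h hh => D0.inversion_of_swaps hswaps hta htb hh
  obtain ⟨K, _, _, _, e, C, χ, hK, hcard, ha, hb, hC, hC2, hχ, hsqχ, hsqrange, htr0, hH', hinvC⟩ :=
    D0.half_coord hn0 hH0 (by omega) hinv
  haveI : CharP K p := by
    haveI : CharP K (ringChar K) := ringChar.charP K
    obtain ⟨k, hr, hk⟩ := FiniteField.card K (ringChar K)
    have h1 : ringChar K ∣ p ^ f := by
      rw [← hcF0, ← hcard, hk]; exact dvd_pow_self _ k.ne_zero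
    rw [← (Nat.prime_dvd_prime_iff_eq hr hp).mp (hr.dvd_of_dvd_pow h1)]
    infer_instance
  -- the odd element is a homothety
  have haD : e ∞ = D.a := ha
  have hbD : e ((0 : K) : OnePoint K) = D.b := hb
  have hbt : ∀ x : K, ∃ t : G, t ∈ D.F ∧ ∀ y : OnePoint K, t • e y = e (y.map (· + x)) := fun x => by
    obtain ⟨t, ht, ht'⟩ := htr0 x
    exact ⟨t, ht, ht'⟩
  let ψ : K → K := fun x => (e.symm (g • e (x : OnePoint K))).elim 0 id
  have hψ : ∀ x : K, g • e (x : OnePoint K) = e ((ψ x : K) : OnePoint K) := by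
    intro x
    have hne : g • e (x : OnePoint K) ≠ D.a := fun h =>
      coe_ne_infty x (e.injective ((smul_left_cancel g (h.trans hg.1.symm)).trans haD.symm))
    show _ = e (((e.symm (g • e (x : OnePoint K))).elim 0 id : K) : OnePoint K)
    cases hy : e.symm (g • e (x : OnePoint K)) with
    | infty => exact absurd ((e.symm_apply_eq.mp hy).trans haD) hne
    | coe y => exact e.symm_apply_eq.mp hy
  have hψ0 : ψ 0 = 0 := coe_injective (e.injective (by rw [← hψ, hbD, hg.2]))
  have hadd : ∀ y x : K, ψ (y + x) = ψ y + ψ x := by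
    intro y x
    obtain ⟨t, ht, ht'⟩ := hbt x
    obtain ⟨t', -, ht''⟩ := hbt (ψ x)
    have hb' : g⁻¹ • D.b = D.b := by rw [inv_smul_eq_iff, hg.2]
    have et : g * t * g⁻¹ = t' := by
      obtain ⟨t2, ht2, ht2'⟩ := hbt (ψ x)
      have e2 : t2 = t' := FaithfulSMul.eq_of_smul_eq_smul fun v : α => by
        obtain ⟨v, rfl⟩ := e.surjective v
        rw [ht2', ht'']
      refine D.F_inj (D.H_conj hg ht) (e2 ▸ ht2) D.b_ne ?_
      rw [mul_smul, mul_smul, hb', ← hbD, ht', ht'', OnePoint.map_some, OnePoint.map_some, zero_add,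
        zero_add, hψ]
    have h1 : g • t • e (y : OnePoint K) = t' • g • e (y : OnePoint K) := by
      rw [← et, mul_smul, mul_smul, inv_smul_smul]
    rw [ht', hψ y, ht'', OnePoint.map_some, OnePoint.map_some, hψ] at h1
    exact coe_injective (e.injective h1)
  have hψinj : Function.Injective ψ := fun x y h => coe_injective (e.injective
    (smul_left_cancel g (by rw [hψ, hψ, h])))
  set β := ψ 1 with hβ
  have hβ0 : β ≠ 0 := fun h => one_ne_zero (hψinj (h.trans hψ0.symm))
  have hsemi : ∀ c x : K, IsSquare c → ψ (c * x) * β = ψ c * ψ x := by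
    intro c x hc
    by_cases hc0 : c = 0
    · simp [hc0, hψ0]
    obtain ⟨h, rfl⟩ := hsqrange c hc0 hc
    have hh' : g * ((h : G0) : G) * g⁻¹ ∈ G0 := (hmem0 _).mpr (by
      rw [map_mul, map_mul, map_inv, (hmem0 _).mp (h : G0).2, mul_one, mul_inv_cancel])
    have hH'' : (⟨_, hh'⟩ : G0) ∈ D0.H := by
      have hi : g⁻¹ ∈ D.H := inv_mem hg
      have hh2 : ((h : G0) : G) ∈ D.H := h.2
      exact mul_mem (mul_mem hg hh2) hi
    have key : ∀ y : K, ψ ((χ h : K) * y) = (χ ⟨_, hH''⟩ : K) * ψ y := by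
      intro y
      have h1 : g • ((h : G0) : G) • e (y : OnePoint K) =
          (g * ((h : G0) : G) * g⁻¹) • g • e (y : OnePoint K) := by
        rw [mul_smul, mul_smul, inv_smul_smul]
      have h2 := hH' ⟨_, hH''⟩ ((ψ y : K) : OnePoint K)
      have h3' := hH' h (y : OnePoint K)
      rw [OnePoint.map_some] at h2 h3'
      rw [show ((h : G0) : G) • e (y : OnePoint K) = ((h : G0) • e (y : OnePoint K)) from rfl, h3',
        hψ, hψ, show (g * ((h : G0) : G) * g⁻¹) • e ((ψ y : K) : OnePoint K) = _ from h2] at h1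
      exact coe_injective (e.injective h1)
    have h1 := key 1
    rw [mul_one] at h1
    rw [key, h1]
    ring
  have hmulψ : ∀ c x : K, ψ (c * x) * β = ψ c * ψ x := by
    intro c x
    obtain ⟨u, v, rfl⟩ := Fus.PSLTwo.exists_sq_add_sq (F := K)
      (Nat.odd_iff.mp (by rw [hcard, hcF0]; exact hqodd)) c
    rw [add_mul, hadd, add_mul, hsemi _ _ ⟨u, rfl⟩, hsemi _ _ ⟨v, rfl⟩, hadd, add_mul]
  let φ : K ≃+* K :=
    { Equiv.ofBijective (fun x => ψ x / β) (Finite.injective_iff_bijective.mp fun x y h =>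
        hψinj ((div_left_inj' hβ0).mp h)) with
      map_mul' := fun c x => by
        show ψ (c * x) / β = ψ c / β * (ψ x / β)
        rw [div_mul_div_comm, ← hmulψ]
        field_simp
      map_add' := fun c x => by
        show ψ (c + x) / β = ψ c / β + ψ x / β
        rw [hadd, add_div] }
  have hφ : ∀ x, ψ x = β * φ x := fun x => (mul_div_cancel₀ _ hβ0).symm
  have hφ2 : ∀ x, φ (φ x) = x := by
    have hmem : g * g ∈ G0 := (hmem0 _).mpr (by rw [map_mul, hεg]; decide)
    have hgg : (⟨g * g, hmem⟩ : G0) ∈ D0.H := mul_mem hg hg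
    have key : ∀ y : K, ψ (ψ y) = (χ ⟨_, hgg⟩ : K) * y := by
      intro y
      have h1 : (g * g) • e (y : OnePoint K) = e ((ψ (ψ y) : K) : OnePoint K) := by
        rw [mul_smul, hψ, hψ]
      have h2 := hH' ⟨_, hgg⟩ (y : OnePoint K)
      rw [OnePoint.map_some] at h2
      exact coe_injective (e.injective (h1.symm.trans h2))
    intro x
    have h1 := key 1
    have h2 := key x
    simp only [hφ, map_mul, map_one, mul_one] at h1
    rw [hφ, hφ, map_mul, ← mul_assoc, h1] at h2
    exact mul_left_cancel₀ (Units.ne_zero _) h2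
  have hlin : ∀ x : K, ψ x = β * x := fun x => by
    rw [hφ, ringEquiv_eq_self (hcard.trans hcF0) hfo φ hφ2]
  have hgmul : ∀ y : OnePoint K, g • e y = e (y.map (β * ·)) := fun y => by
    cases y with
    | infty => rw [OnePoint.map_infty, haD, hg.1]
    | coe x => rw [OnePoint.map_some, hψ, hlin]
  have hβns : ¬ IsSquare β := by
    intro hs
    obtain ⟨h, hh⟩ := hsqrange β hβ0 hs
    have e1 : g = ((h : G0) : G) := FaithfulSMul.eq_of_smul_eq_smul fun v : α => by
      obtain ⟨v, rfl⟩ := e.surjective v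
      rw [hgmul, ← hh]
      exact (hH' h v).symm
    rw [e1, (hmem0 _).mp (h : G0).2] at hεg
    exact absurd hεg (by decide)
  refine ⟨K, inferInstance, inferInstance, hcard.trans hcF0,
    iso_pgl e (fun k hk => D.faithful hn hk) hC (fun x => ?_) (fun c hc => ?_) ?_ ?_⟩
  · obtain ⟨t, -, ht⟩ := hbt x
    exact ⟨t, ht⟩
  · by_cases hcs : IsSquare c
    · obtain ⟨h, rfl⟩ := hsqrange c hc hcs
      exact ⟨((h : G0) : G), hH' h⟩
    · have h1 : IsSquare (c * β⁻¹) := isSquare_mul_of_not hK hcs fun h => hβns (by simpa using h.inv)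
      obtain ⟨h, hh⟩ := hsqrange _ (mul_ne_zero hc (inv_ne_zero hβ0)) h1
      refine ⟨((h : G0) : G) * g, fun y => ?_⟩
      rw [mul_smul, hgmul]
      refine (hH' h _).trans (congrArg e ?_)
      cases y with
      | infty => rfl
      | coe x =>
        simp only [OnePoint.map_some, hh]
        rw [← mul_assoc, inv_mul_cancel_right₀ hβ0]
  · obtain ⟨k, hk⟩ := hinvC
    exact ⟨(k : G), hk⟩
  · rw [card_PGL_two, D.card_group, hd, hcard, hcF0, hcF]

end Cfsg.Agent.Block.Zas
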