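import Cfsg.Agent.Lib.Block.Zas.Semiaffine
import Cfsg.Agent.Lib.Block.Zas.FieldCongr
import Cfsg.Agent.Lib.Block.Zas.SharpOdd
import Cfsg.Agent.Lib.Block.Zas.HalfBound
import Cfsg.Agent.Lib.Block.SharpTwoPoints

/-!
# Transitive groups of degree `p + 1` and order `(p + 1) p d`, `d < p`
-/

set_option autoImplicit false

namespace Cfsg.Agent.Block.Zas

open MulAction

universe v

theorem smul_pow_eq_of_fix {M X : Type*} [Monoid M] [MulAction M X] (m : M) (x : X) (h : m • x = x) :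
    ∀ i : ℕ, m ^ i • x = x
  | 0 => by rw [pow_zero, one_smul]
  | i + 1 => by rw [pow_succ, mul_smul, h, smul_pow_eq_of_fix m x h i]

set_option maxHeartbeats 1000000 in
theorem prime_plus_one {α : Type v} [Fintype α] [DecidableEq α] {p d : ℕ} (hp : p.Prime)
    (hα : Fintype.card α = p + 1) (G : Subgroup (Equiv.Perm α)) [IsPretransitive G α]
    (hG : Nat.card G = (p + 1) * p * d) (hd : d < p) :
    (d = p - 1 ∧ Nonempty (G ≃* Matrix.ProjGenLinGroup (Fin 2) (ZMod p))) ∨
    (2 * d = p - 1 ∧ Nonempty (G ≃* Matrix.ProjectiveSpecialLinearGroup (Fin 2) (ZMod p))) ∨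
    (∃ q : ℕ, q.Prime ∧ p + 1 = 2 ^ q ∧ (d = 1 ∨ d = q) ∧ ∃ e : α ≃ GaloisField 2 q,
      ∀ g : G, (e.symm.trans (((g : Equiv.Perm α)).trans e)) ∈
        Cfsg.semiaffineGroup (GaloisField 2 q)) := by
  classical
  haveI := Fact.mk hp
  have hd1 : 1 ≤ d := by
    have : 0 < Nat.card G := Nat.card_pos
    rw [hG] at this
    exact Nat.pos_of_mul_pos_left this
  rcases hp.eq_two_or_odd' with rfl | hpodd
  · left
    refine ⟨by omega, iso_pgl_of_top (K := ZMod 2) G (Subgroup.eq_top_of_card_eq G ?_) ?_ ?_⟩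
    · rw [hG, Nat.card_perm, Nat.card_eq_fintype_card, hα, show d = 1 by omega]
      rfl
    · rw [hα, ZMod.card]
    · rw [hG, show d = 1 by omega, ZMod.card]
  have hp2 : p ≠ 2 := fun e => Nat.not_odd_iff_even.mpr even_two (e ▸ hpodd)
  have hfaith : ∀ g : G, (∀ x : α, g • x = x) → g = 1 := fun g h => Subtype.ext (Equiv.ext h)
  obtain ⟨a⟩ : Nonempty α := Fintype.card_pos_iff.mp (by omega)
  set A := stabilizer G a with hAdef
  have hA : Nat.card A = p * d := by
    have h := A.index_mul_card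
    rw [index_stabilizer_of_transitive, Nat.card_eq_fintype_card (α := α), hα, hG, mul_assoc] at h
    exact Nat.eq_of_mul_eq_mul_left (by omega) h
  obtain ⟨Q⟩ : Nonempty (Sylow p A) := inferInstance
  have hQcard : Nat.card (Q : Subgroup A) = p := by
    rw [Q.card_eq_multiplicity, hA, Nat.factorization_mul hp.ne_zero (by omega), Finsupp.coe_add,
      Pi.add_apply, hp.factorization_self,
      Nat.factorization_eq_zero_of_not_dvd (fun h => absurd (Nat.le_of_dvd hd1 h) (by omega)), pow_one]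
  have hQn : (Q : Subgroup A).Normal := by
    have h1 := card_sylow_modEq_one p A
    have h2 := Q.card_dvd_index
    have h3 : (Q : Subgroup A).index = d := by
      have h := (Q : Subgroup A).card_mul_index
      rw [hQcard, hA] at h
      exact Nat.eq_of_mul_eq_mul_left hp.pos h
    rw [h3] at h2
    have h4 : Nat.card (Sylow p A) = 1 :=
      Nat.ModEq.eq_of_lt_of_lt h1 ((Nat.le_of_dvd hd1 h2).trans_lt hd) hp.one_lt
    haveI := (Nat.card_eq_one_iff_unique.mp h4).1
    exact Q.normal_of_subsingleton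
  set P : Subgroup G := (Q : Subgroup A).map A.subtype with hP
  have hPcard : Nat.card P = p := (Subgroup.card_map_of_injective A.subtype_injective).trans hQcard
  have hPfix : ∀ u ∈ P, u • a = a := by
    rintro _ ⟨u, -, rfl⟩
    exact u.2
  have hPconj : ∀ g : G, g • a = a → ∀ u ∈ P, g * u * g⁻¹ ∈ P := by
    rintro g hg _ ⟨u, hu, rfl⟩
    exact ⟨⟨g, hg⟩ * u * ⟨g, hg⟩⁻¹, hQn.conj_mem u hu _, rfl⟩
  have hsemi : ∀ u ∈ P, u ≠ 1 → ∀ x : α, x ≠ a → u • x ≠ x := by
    intro u hu hu1 x hx hfix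
    obtain ⟨v, hv⟩ : ∃ v : α, u • v ≠ v := by
      by_contra h
      push Not at h
      exact hu1 (hfaith u h)
    have hva : v ≠ a := fun e => hv (by rw [e, hPfix u hu])
    have hu1' : (⟨u, hu⟩ : P) ≠ 1 := fun e => hu1 (congrArg Subtype.val e)
    have hgen' : ∀ k : P, ∃ i : ℕ, (k : G) = u ^ i := fun k => by
      obtain ⟨i, hi⟩ := mem_powers_iff_mem_zpowers.mpr (mem_zpowers_of_prime_card hPcard hu1' (g' := k))
      exact ⟨i, (congrArg Subtype.val hi).symm⟩
    have hne : ∀ k : P, (k : G) • v ≠ a := fun k e =>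
      hva (smul_left_cancel (k : G) (e.trans (hPfix k k.2).symm))
    have hinj : Function.Injective fun k : P => (⟨(k : G) • v, hne k⟩ : {w : α // w ≠ a}) := by
      intro k l e
      have e' : (k : G) • v = (l : G) • v := congrArg Subtype.val e
      by_contra hkl
      obtain ⟨i, hi⟩ := mem_powers_iff_mem_zpowers.mpr (mem_zpowers_of_prime_card hPcard
        (fun h => hkl (inv_mul_eq_one.mp h) : k⁻¹ * l ≠ 1) (g' := (⟨u, hu⟩ : P)))
      have hfv : ((k⁻¹ * l : P) : G) • v = v := by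
        simp only [Subgroup.coe_mul, Subgroup.coe_inv, mul_smul, ← e', inv_smul_smul]
      have hu' : u = ((k⁻¹ * l : P) : G) ^ i := (congrArg Subtype.val hi).symm
      refine hv ?_
      rw [hu']
      exact smul_pow_eq_of_fix _ v hfv i
    obtain ⟨k, hk⟩ := ((Nat.bijective_iff_injective_and_card _).mpr ⟨hinj, by
      rw [hPcard, Nat.card_eq_fintype_card, Fintype.card_subtype_compl, Fintype.card_subtype_eq, hα]
      omega⟩).2 ⟨x, hx⟩
    have hk' : (k : G) • v = x := congrArg Subtype.val hk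
    obtain ⟨i, hi⟩ := hgen' k
    refine hv (smul_left_cancel (k : G) ?_)
    rw [← mul_smul, hi, ← pow_succ, pow_succ', mul_smul, ← hi, hk', hfix]
  have hPreg : ∀ y z : α, y ≠ a → z ≠ a → ∃! u : P, (u : G) • y = z := by
    intro y z hy hz
    have hne : ∀ u : P, (u : G) • y ≠ a := fun u e =>
      hy (smul_left_cancel (u : G) (e.trans (hPfix u u.2).symm))
    have hbij : Function.Bijective fun u : P => (⟨(u : G) • y, hne u⟩ : {w : α // w ≠ a}) := by
      refine (Nat.bijective_iff_injective_and_card _).mpr ⟨fun u v e => ?_, ?_⟩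
      · have e' : (u : G) • y = (v : G) • y := congrArg Subtype.val e
        by_contra hne'
        exact hsemi _ ((u⁻¹ * v : P).2) (fun e2 => hne' (inv_mul_eq_one.mp (Subtype.ext e2))) y hy
          (by simp only [Subgroup.coe_mul, Subgroup.coe_inv, mul_smul, ← e', inv_smul_smul])
      · rw [hPcard, Nat.card_eq_fintype_card, Fintype.card_subtype_compl, Fintype.card_subtype_eq, hα]
        omega
    obtain ⟨u, hu⟩ := hbij.2 ⟨z, hz⟩
    exact ⟨u, congrArg Subtype.val hu, fun v hv => hbij.1 ((Subtype.ext hv).trans hu.symm)⟩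
  obtain ⟨b, hb⟩ : ∃ b, b ≠ a := Fintype.exists_ne_of_one_lt_card (by omega) a
  have htwo : ∀ {x y z w : α}, x ≠ y → z ≠ w → ∃ g : G, g • x = z ∧ g • y = w := by
    intro x y z w hxy hzw
    obtain ⟨g, hg⟩ := exists_smul_eq G x a
    obtain ⟨k, hk⟩ := exists_smul_eq G z a
    have h1 : g • y ≠ a := fun e => hxy (smul_left_cancel g (hg.trans e.symm))
    have h2 : k • w ≠ a := fun e => hzw (smul_left_cancel k (hk.trans e.symm))
    obtain ⟨u, hu, -⟩ := hPreg _ _ h1 h2
    exact ⟨k⁻¹ * ((u : G) * g), by rw [mul_smul, inv_smul_eq_iff, mul_smul, hg, hk, hPfix u u.2],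
      by rw [mul_smul, inv_smul_eq_iff, mul_smul, hu]⟩
  obtain ⟨⟨w, hwP⟩, hw⟩ := (isCyclic_of_prime_card hPcard).exists_generator
  have hgen : ∀ u ∈ P, ∃ i : ℕ, u = w ^ i := fun u hu => by
    obtain ⟨i, hi⟩ := mem_powers_iff_mem_zpowers.mpr (hw ⟨u, hu⟩)
    exact ⟨i, (congrArg Subtype.val hi).symm⟩
  have hfree : ∀ g : G, g • a = a → ∀ x y : α, x ≠ a → y ≠ a → x ≠ y → g • x = x → g • y = y →
      g = 1 := by
    intro g hga x y hx hy hxy hgx hgy
    obtain ⟨⟨u, hu⟩, huxy, -⟩ := hPreg x y hx hy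
    have e : g * u * g⁻¹ = u := by
      have h := hPreg x y hx hy
      refine congrArg Subtype.val (h.unique (y₁ := ⟨_, hPconj g hga u hu⟩) (y₂ := ⟨u, hu⟩) ?_ huxy)
      show (g * u * g⁻¹) • x = y
      rw [mul_smul, mul_smul, inv_smul_eq_iff.2 hgx.symm, huxy, hgy]
    have hu1 : (⟨u, hu⟩ : P) ≠ 1 := fun e' => hxy
      ((one_smul G x).symm.trans ((congrArg (fun k : P => (k : G) • x) e').symm.trans huxy))
    refine hfaith g fun v => ?_
    by_cases hv : v = a
    · rw [hv, hga]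
    obtain ⟨⟨k, hk⟩, hkv, -⟩ := hPreg x v hx hv
    obtain ⟨i, hi⟩ := mem_powers_iff_mem_zpowers.mpr
      (mem_zpowers_of_prime_card hPcard hu1 (g' := ⟨k, hk⟩))
    have hki : k = u ^ i := (congrArg Subtype.val hi).symm
    have hgk : g * k = k * g := by
      rw [hki]
      exact (Commute.pow_right (show Commute g u from mul_inv_eq_iff_eq_mul.mp e) i).eq
    rw [← hkv, ← mul_smul, hgk, mul_smul, hgx]
  have free3 : ∀ (g : G) (x y z : α), x ≠ y → y ≠ z → x ≠ z → g • x = x → g • y = y → g • z = z →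
      g = 1 := by
    intro g x y z hxy hyz hxz hx hy hz
    obtain ⟨k, hk⟩ := exists_smul_eq G x a
    have hfix : ∀ v : α, g • v = v → (k * g * k⁻¹) • k • v = k • v := fun v hv => by
      rw [mul_smul, mul_smul, inv_smul_smul, hv]
    exact conj_eq_one_iff.mp (hfree _ (hk ▸ hfix x hx) (k • y) (k • z)
      (fun e => hxy (smul_left_cancel k (hk.trans e.symm)))
      (fun e => hxz (smul_left_cancel k (hk.trans e.symm)))
      (fun e => hyz (smul_left_cancel k e)) (hfix y hy) (hfix z hz))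
  let D : Frame G α := ⟨a, b, P, hb.symm, free3, htwo, hPfix, hPconj, hPreg⟩
  have hcF : Nat.card D.F = p := hPcard
  have hn : 2 ≤ Nat.card D.F := hcF ▸ hp.two_le
  have hcH : Nat.card D.H = d := by
    have h := D.card_stab
    rw [hcF] at h
    exact Nat.eq_of_mul_eq_mul_left hp.pos (h.symm.trans hA)
  have hF : ∀ u ∈ D.F, ∀ v ∈ D.F, u * v = v * u := fun u hu v hv => by
    haveI := isCyclic_of_prime_card hPcard
    exact congrArg Subtype.val (mul_comm' (⟨u, hu⟩ : P) ⟨v, hv⟩)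
  have hp1 : 1 ≤ p := hp.pos
  have hreg : (∃ R : Subgroup G, R.Normal ∧ (∀ x : α, ∃! r : R, (r : G) • a = x)) →
      ∃ q : ℕ, q.Prime ∧ p + 1 = 2 ^ q ∧ (d = 1 ∨ d = q) ∧ ∃ e : α ≃ GaloisField 2 q,
      ∀ g : G, (e.symm.trans (((g : Equiv.Perm α)).trans e)) ∈
        Cfsg.semiaffineGroup (GaloisField 2 q) := by
    rintro ⟨R, hRn, hR⟩
    choose r hr hru using hR
    have hRc : Nat.card R = p + 1 := by
      rw [← hα, ← Nat.card_eq_fintype_card]
      exact Nat.card_congr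
        { toFun := fun x => (x : G) • a
          invFun := r
          left_inv := fun x => (hru _ x rfl).symm
          right_inv := hr }
    have hne : ∀ x : R, x ≠ 1 → (x : G) • a ≠ a := fun x hx e =>
      hx ((hru a x e).trans (hru a 1 (one_smul G a)).symm)
    have htrans : ∀ x ∈ R, x ≠ 1 → ∀ x' ∈ R, x' ≠ 1 → ∃ i : ℕ, w ^ i * x * (w ^ i)⁻¹ = x' := by
      intro x hx hx1 x' hx' hx1'
      obtain ⟨⟨u, hu⟩, hux, -⟩ := hPreg _ _ (hne ⟨x, hx⟩ fun e => hx1 (congrArg Subtype.val e))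
        (hne ⟨x', hx'⟩ fun e => hx1' (congrArg Subtype.val e))
      obtain ⟨i, rfl⟩ := hgen u hu
      refine ⟨i, ?_⟩
      have hfix : (w ^ i)⁻¹ • a = a := inv_smul_eq_iff.2 (hPfix _ (pow_mem hwP i)).symm
      exact congrArg Subtype.val ((hru (x' • a) ⟨_, hRn.conj_mem x hx (w ^ i)⟩
        (by show (w ^ i * x * (w ^ i)⁻¹) • a = _; rw [mul_smul, mul_smul, hfix]; exact hux)).trans (hru (x' • a) ⟨x', hx'⟩ rfl).symm)
    obtain ⟨⟨z, hz⟩, ho⟩ := exists_prime_orderOf_dvd_card' (G := R) 2 (by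
      rw [hRc]; exact even_iff_two_dvd.mp hpodd.add_one)
    rw [Subgroup.orderOf_mk] at ho
    have hz1 : z ≠ 1 := fun e => by rw [e, orderOf_one] at ho; omega
    have h2 : ∀ x ∈ R, x * x = 1 := by
      intro x hx
      by_cases hx1 : x = 1
      · rw [hx1, mul_one]
      obtain ⟨i, hi⟩ := htrans z hz hz1 x hx hx1
      rw [← hi, ← sq, conj_pow, ← ho, pow_orderOf_eq_one]
      group
    haveI : Fact (Nat.Prime 2) := ⟨Nat.prime_two⟩
    obtain ⟨q, hq⟩ := IsPGroup.iff_card.mp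
      (show IsPGroup 2 R from fun x => ⟨1, Subtype.ext (by rw [pow_one, sq]; exact h2 _ x.2)⟩)
    rw [hq] at hRc
    have hqp : q.Prime := by
      have hq1 : q ≠ 1 := fun e => by rw [e] at hRc; omega
      exact (Nat.prime_of_pow_sub_one_prime hq1 (by rw [show 2 ^ q - 1 = p by omega]; exact hp)).2
    obtain ⟨⟨e, he⟩, Φ, hΦ⟩ := semiaffine_of_regular hfaith a R hRn
      (fun x => ⟨r x, hr x, hru x⟩) h2 hqp (by rw [hq]) w (hPfix w hwP) htrans
      (fun g hg => hgen _ (hPconj g hg w hwP))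
    refine ⟨q, hqp, hRc.symm, ?_, e, fun g => ?_⟩
    swap
    · have e1 : (MulAction.toPerm g : Equiv.Perm α) = (g : Equiv.Perm α) := Equiv.ext fun x => rfl
      exact e1 ▸ he g
    have hfin : Nat.card (GaloisField 2 q ≃ₐ[ZMod 2] GaloisField 2 q) = q := by
      rw [IsGalois.card_aut_eq_finrank, GaloisField.finrank 2 hqp.ne_zero]
    let ΦH : D.H →* (GaloisField 2 q ≃ₐ[ZMod 2] GaloisField 2 q) :=
      Φ.comp (Subgroup.inclusion (show D.H ≤ A from inf_le_left))
    have hinj : Function.Injective ΦH := (injective_iff_map_eq_one ΦH).mpr fun h hh => by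
      obtain ⟨i, hi⟩ := hΦ _ hh
      exact Subtype.ext (D.eq_one_of_mem (hi ▸ pow_mem hwP i : (h : G) ∈ P) h.2)
    have hdvd : d ∣ q := by
      rw [← hcH, ← hfin, Nat.card_congr (MonoidHom.ofInjective hinj).toEquiv]
      exact Subgroup.card_subgroup_dvd_card _
    exact (Nat.dvd_prime hqp).mp hdvd
  rcases eq_or_lt_of_le hd1 with hd1' | hd2
  · -- the Frobenius case
    right; right
    refine hreg ?_
    have hH : D.H = ⊥ := Subgroup.card_eq_one.mp (hcH.trans hd1'.symm)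
    have hfree2 : ∀ (g : G) (x y : α), x ≠ y → g • x = x → g • y = y → g = 1 := by
      intro g x y hxy hx hy
      obtain ⟨k, hka, hkb⟩ := htwo hxy D.hab
      have hmem : k * g * k⁻¹ ∈ D.H := ⟨by
          show (k * g * k⁻¹) • D.a = D.a
          rw [mul_smul, mul_smul, inv_smul_eq_iff.2 hka.symm, hx, hka], by
          show (k * g * k⁻¹) • D.b = D.b
          rw [mul_smul, mul_smul, inv_smul_eq_iff.2 hkb.symm, hy, hkb]⟩
      rw [hH, Subgroup.mem_bot] at hmem
      exact conj_eq_one_iff.mp hmem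
    obtain ⟨r0, j, N, -, -, -, hNc, hNmem, hNn, -, -, hNtr, -⟩ :=
      SharpPoints.Sharp.exists_translations (G := G) (α := α)
        ⟨hfaith, fun x y z w h1 h2 => htwo h1 h2, hfree2⟩ (by rw [Nat.card_eq_fintype_card]; omega)
    refine ⟨N, hNn, fun x => ?_⟩
    obtain ⟨u, hu, hux⟩ := hNtr a x
    refine ⟨⟨u, hu⟩, hux, fun v hv => Subtype.ext ?_⟩
    have : u⁻¹ * (v : G) = 1 := by
      refine ((hNmem _).mp (mul_mem (inv_mem hu) v.2)).resolve_right fun h => h a ?_
      rw [mul_smul, hv, inv_smul_eq_iff, hux]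
    exact (inv_mul_eq_one.mp this).symm
  have hH : D.H ≠ ⊥ := fun e => by
    rw [e, Subgroup.card_bot] at hcH
    omega
  by_cases hR : ∃ N : Subgroup G, N.Normal ∧ IsPretransitive N α ∧ ∀ x : α, stabilizer N x = ⊥
  · right; right
    obtain ⟨N, hNn, hNt, hNs⟩ := hR
    refine hreg ⟨N, hNn, fun x => ?_⟩
    haveI := hNt
    obtain ⟨u, hu⟩ := exists_smul_eq N a x
    refine ⟨u, hu, fun v hv => ?_⟩
    have : u⁻¹ * v ∈ stabilizer N a := by
      rw [mem_stabilizer_iff, mul_smul, show v • a = x from hv, inv_smul_eq_iff, hu]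
    rw [hNs, Subgroup.mem_bot] at this
    exact (inv_mul_eq_one.mp this).symm
  have hZ : Cfsg.IsZassenhausGroup G α := by
    refine ⟨⟨fun h => Subtype.ext (Equiv.ext h)⟩, is_two_pretransitive_iff.2 fun h1 h2 => htwo h1 h2,
      free3, ?_, fun N hNn hNt => ?_⟩
    · obtain ⟨⟨h, hh⟩, hh1⟩ := Subgroup.ne_bot_iff_exists_ne_one.mp hH
      exact ⟨h, fun e => hh1 (Subtype.ext e), a, b, hb.symm, hh.1, hh.2⟩
    · by_contra hcon
      push Not at hcon
      exact hR ⟨N, hNn, hNt, hcon⟩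
  rcases D.cases_of_abelian hZ hF with h | ⟨h, hinv⟩
  · left
    rw [hcH, hcF] at h
    refine ⟨h, ?_⟩
    obtain ⟨h3, hs⟩ := D.sharp_of_card (by rw [hcH, hcF, h])
    obtain ⟨K, i1, i2, hK, ⟨f⟩⟩ := sharp_odd_pow hp hp2 odd_one (by rw [pow_one]; exact hα) G h3 hs
    obtain ⟨g⟩ := pgl_congr (n := 2) (FiniteField.ringEquivOfCardEq (K := K) (K' := ZMod p)
      (by rw [hK, ZMod.card, pow_one]))
    exact ⟨f.trans g⟩
  · right; left
    obtain ⟨K, i1, i2, -, hK, ⟨f⟩⟩ := D.iso_psl_of_half hn hH h hinv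
    rw [hcH, hcF] at h
    refine ⟨h, ?_⟩
    obtain ⟨g⟩ := psl_congr (n := 2) (FiniteField.ringEquivOfCardEq (K := K) (K' := ZMod p)
      (by rw [hK, ZMod.card, hcF]))
    exact ⟨f.trans g⟩

end Cfsg.Agent.Block.Zas
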