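import Cfsg.Agent.Lib.Block.Zas.SharpEven
import Cfsg.Agent.Lib.Block.SmallPSL.Recognize
import Cfsg.Agent.Lib.Block.Cube.Perfect

/-!
# Sharply triply transitive groups of odd degree
-/

set_option autoImplicit false

namespace Cfsg.Agent.Block.Zas

open MulAction

universe v

theorem three_trans_odd {α : Type v} [Fintype α] [DecidableEq α] (hm : 3 ≤ Fintype.card α)
    (hodd : Odd (Fintype.card α)) (G : Subgroup (Equiv.Perm α))
    (h3 : IsMultiplyPretransitive G α 3)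
    (hfix : ∀ g : G, 3 ≤ Nat.card (fixedBy α g) → g = 1) :
    ∃ a : ℕ, 1 ≤ a ∧ Fintype.card α = 2 ^ a + 1 ∧ ∃ (F : Type) (_ : Field F) (_ : Fintype F),
      Fintype.card F = 2 ^ a ∧ Nonempty (G ≃* Matrix.SpecialLinearGroup (Fin 2) F) := by
  classical
  have hsharp : ∀ x : Fin 3 ↪ α, stabilizer G x = ⊥ := by
    intro x
    refine (Subgroup.eq_bot_iff_forall _).2 fun g hg => hfix g ?_
    have hx : ∀ i, g • x i = x i := fun i => congrArg (fun s : Fin 3 ↪ α => s i) (mem_stabilizer_iff.1 hg)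
    have h := Nat.card_le_card_of_injective (fun i : Fin 3 => (⟨x i, hx i⟩ : fixedBy α g))
      fun i j h => x.injective (congrArg Subtype.val h)
    rw [Nat.card_fin] at h
    exact h
  suffices h : ∃ a : ℕ, 1 ≤ a ∧ Fintype.card α = 2 ^ a + 1 by
    obtain ⟨a, ha, hc⟩ := h
    obtain ⟨K, i1, i2, hK, ⟨e⟩⟩ := sharp_two_pow ha hc G h3 hsharp
    obtain ⟨e'⟩ := SmallPSL.pgl_iso_psl (K := K) (F := K) ha hK hK
    obtain ⟨e''⟩ := Cube.nonempty_sl_iso_psl (F := K)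
      (by rw [hK]; exact (Nat.even_pow.2 ⟨even_two, by omega⟩))
    exact ⟨a, ha, hc, K, i1, i2, hK, ⟨e.trans (e'.trans e'')⟩⟩
  rcases Nat.lt_or_ge (Fintype.card α) 5 with h5 | h5
  · refine ⟨1, le_rfl, ?_⟩
    obtain ⟨k, hk⟩ := hodd
    omega
  obtain ⟨a, b, hab⟩ := Fintype.exists_pair_of_one_lt_card (α := α) (by omega)
  obtain ⟨D, -, -, hd, htr⟩ := frame_of_sharp h3 hsharp hab
    (by rw [Nat.card_eq_fintype_card]; omega)
  have hcF : Nat.card D.F + 1 = Fintype.card α := by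
    rw [← D.card_points, Nat.card_eq_fintype_card]
  haveI : Fact (Nat.Prime 2) := ⟨Nat.prime_two⟩
  obtain ⟨t, ht⟩ : ∃ t : D.F, orderOf t = 2 := by
    refine exists_prime_orderOf_dvd_card' 2 ?_
    obtain ⟨k, hk⟩ := hodd
    exact ⟨k, by omega⟩
  have ht1 : (t : G) ≠ 1 := fun e => by
    have h : orderOf t = 1 := orderOf_eq_one_iff.2 (Subtype.ext e)
    omega
  have ht2 : (t : G) * t = 1 := by
    have h := pow_orderOf_eq_one t
    rw [ht, pow_two] at h
    exact congrArg Subtype.val h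
  have hne : ∀ u ∈ D.F, u ≠ 1 → u • D.b ≠ D.b := fun u hu hu1 e =>
    hu1 (D.F_inj hu (one_mem _) D.b_ne (by rw [one_smul, e]))
  have hsq : ∀ u ∈ D.F, u * u = 1 := by
    intro u hu
    by_cases hu1 : u = 1
    · rw [hu1, one_mul]
    obtain ⟨h, hh, e⟩ := htr ((t : G) • D.b) (u • D.b) (D.F_ne t.2 D.b_ne) (hne t t.2 ht1)
      (D.F_ne hu D.b_ne) (hne u hu hu1)
    have e2 : h * t * h⁻¹ = u := D.F_inj (D.H_conj hh t.2) hu D.b_ne (by
      rw [mul_smul, mul_smul, inv_smul_eq_iff.2 hh.2.symm, e])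
    rw [← e2, show h * t * h⁻¹ * (h * t * h⁻¹) = h * ((t : G) * t) * h⁻¹ by group, ht2]
    group
  have hpg : IsPGroup 2 D.F := fun u => ⟨1, Subtype.ext (by
    rw [pow_one, pow_two]
    exact hsq u u.2)⟩
  obtain ⟨f, hf⟩ := IsPGroup.iff_card.1 hpg
  refine ⟨f, ?_, by omega⟩
  by_contra hf0
  rw [show f = 0 by omega] at hf
  omega

end Cfsg.Agent.Block.Zas
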