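import Mathlib
import Cfsg.Prelude.Def_Solvable
import Cfsg.Prelude.Def_LieExceptional
import Cfsg.Agent.Lib.Grp.FrobeniusTheorem
import Cfsg.Agent.Lib.Grp.Zassenhaus.Basics

/-!
# Zassenhaus groups: basic structure

A frame consists of two points `a, b` and a subgroup `F` fixing `a`, normalized by the stabilizer of
`a` and regular on the other points.
-/

set_option autoImplicit false

namespace Cfsg.Agent.Block.Zas

open MulAction

universe u v

/-- A doubly transitive group in which only the identity fixes three points, with a regular normal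
subgroup of a point stabilizer. -/
structure Frame (G : Type u) (Ω : Type v) [Group G] [MulAction G Ω] where
  a : Ω
  b : Ω
  F : Subgroup G
  hab : a ≠ b
  free3 : ∀ (g : G) (x y z : Ω), x ≠ y → y ≠ z → x ≠ z → g • x = x → g • y = y → g • z = z → g = 1
  two : ∀ {x y z w : Ω}, x ≠ y → z ≠ w → ∃ g : G, g • x = z ∧ g • y = w
  F_fix : ∀ u ∈ F, u • a = a
  F_conj : ∀ g : G, g • a = a → ∀ u ∈ F, g * u * g⁻¹ ∈ F
  F_reg : ∀ y z : Ω, y ≠ a → z ≠ a → ∃! u : F, (u : G) • y = z

/-- Orbit counting for a free action. -/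
theorem card_of_free {H X : Type*} [Group H] [MulAction H X]
    (hfree : ∀ (h : H) (x : X), h • x = x → h = 1) :
    Nat.card X = Nat.card (MulAction.orbitRel.Quotient H X) * Nat.card H := by
  have hbot : ∀ x : X, stabilizer H x = ⊥ := fun x =>
    (Subgroup.eq_bot_iff_forall _).mpr fun h hh => hfree h x (mem_stabilizer_iff.mp hh)
  rw [Nat.card_congr (MulAction.selfEquivOrbitsQuotientProd hbot), Nat.card_prod]

namespace Frame

variable {G : Type u} {Ω : Type v} [Group G] [MulAction G Ω] [Finite G] (D : Frame G Ω)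

/-- The two-point stabilizer. -/
def H : Subgroup G := stabilizer G D.a ⊓ stabilizer G D.b

omit [Finite G] in
theorem mem_H {g : G} : g ∈ D.H ↔ g • D.a = D.a ∧ g • D.b = D.b := Iff.rfl

omit [Finite G] in
theorem F_inj {u v : G} (hu : u ∈ D.F) (hv : v ∈ D.F) {y : Ω} (hy : y ≠ D.a) (h : u • y = v • y) :
    u = v := by
  have hne : v • y ≠ D.a := fun e => hy (smul_left_cancel v (e.trans (D.F_fix v hv).symm))
  exact congrArg Subtype.val ((D.F_reg y (v • y) hy hne).unique (y₁ := ⟨u, hu⟩) (y₂ := ⟨v, hv⟩) h rfl)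

omit [Finite G] in
theorem F_ne {u : G} (hu : u ∈ D.F) {y : Ω} (hy : y ≠ D.a) : u • y ≠ D.a := fun e =>
  hy (smul_left_cancel u (e.trans (D.F_fix u hu).symm))

omit [Finite G] in
theorem b_ne : D.b ≠ D.a := D.hab.symm

omit [Finite G] in
theorem exists_F {y : Ω} (hy : y ≠ D.a) : ∃ u ∈ D.F, u • D.b = y := by
  obtain ⟨⟨u, hu⟩, h, -⟩ := D.F_reg D.b y D.b_ne hy
  exact ⟨u, hu, h⟩

/-- The points other than `a` correspond to `F`. -/
noncomputable def pointEquiv : D.F ≃ {y : Ω // y ≠ D.a} :=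
  Equiv.ofBijective (fun u => ⟨(u : G) • D.b, D.F_ne u.2 D.b_ne⟩)
    ⟨fun u v h => Subtype.ext (D.F_inj u.2 v.2 D.b_ne (congrArg Subtype.val h)), fun y => by
      obtain ⟨u, hu, h⟩ := D.exists_F y.2
      exact ⟨⟨u, hu⟩, Subtype.ext h⟩⟩

theorem finite_points (D : Frame G Ω) : Finite Ω := by
  classical
  haveI : Finite {y : Ω // y ≠ D.a} := Finite.of_equiv _ D.pointEquiv
  exact Finite.of_equiv _ (Equiv.optionSubtypeNe D.a)

theorem card_points : Nat.card Ω = Nat.card D.F + 1 := by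
  classical
  haveI := D.finite_points
  rw [← Nat.card_congr (Equiv.optionSubtypeNe D.a), Finite.card_option,
    Nat.card_congr D.pointEquiv]

theorem two_le (D : Frame G Ω) : 2 ≤ Nat.card Ω := by
  classical
  haveI := D.finite_points
  exact Finite.one_lt_card_iff_nontrivial.mpr ⟨⟨_, _, D.hab⟩⟩

omit [Finite G] in
/-- Elements of the point stabilizer split along `F` and the two-point stabilizer. -/
theorem decomp {g : G} (hg : g • D.a = D.a) : ∃ u ∈ D.F, ∃ h ∈ D.H, g = u * h := by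
  have hb : g • D.b ≠ D.a := fun e => D.b_ne (smul_left_cancel g (e.trans hg.symm))
  obtain ⟨u, hu, hub⟩ := D.exists_F hb
  refine ⟨u, hu, u⁻¹ * g, ⟨?_, ?_⟩, by group⟩
  · show (u⁻¹ * g) • D.a = D.a
    rw [mul_smul, hg, inv_smul_eq_iff, D.F_fix u hu]
  · show (u⁻¹ * g) • D.b = D.b
    rw [mul_smul, inv_smul_eq_iff, hub]

omit [Finite G] in
theorem eq_one_of_mem {g : G} (hF : g ∈ D.F) (hH : g ∈ D.H) : g = 1 :=
  D.F_inj hF D.F.one_mem D.b_ne (by rw [hH.2, one_smul])

omit [Finite G] in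
theorem H_conj {h : G} (hh : h ∈ D.H) {u : G} (hu : u ∈ D.F) : h * u * h⁻¹ ∈ D.F :=
  D.F_conj h hh.1 u hu

omit [Finite G] in
/-- Non-trivial elements of the two-point stabilizer act fixed-point-freely on `F`. -/
theorem fpf {h u : G} (hh : h ∈ D.H) (hu : u ∈ D.F) (hc : h * u * h⁻¹ = u) : u = 1 ∨ h = 1 := by
  by_cases hub : u • D.b = D.b
  · exact Or.inl (D.F_inj hu D.F.one_mem D.b_ne (by rw [hub, one_smul]))
  refine Or.inr (D.free3 h D.a D.b (u • D.b) D.hab (Ne.symm hub) (D.F_ne hu D.b_ne).symm hh.1 hh.2 ?_)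
  have e : h • u • D.b = (h * u * h⁻¹) • D.b := by
    rw [mul_smul, mul_smul, inv_smul_eq_iff.2 (show D.b = h • D.b from hh.2.symm)]
  rw [e, hc]

/-- Conjugation of the two-point stabilizer on the non-trivial elements of `F`. -/
@[reducible]
def conjAction : MulAction D.H {u : D.F // u ≠ 1} where
  smul h u := ⟨⟨(h : G) * ((u.1 : D.F) : G) * (h : G)⁻¹, D.H_conj h.2 u.1.2⟩, fun e =>
    u.2 (Subtype.ext (conj_eq_one_iff.mp (congrArg Subtype.val e)))⟩
  one_smul u := Subtype.ext (Subtype.ext (by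
    show (1 : G) * _ * (1 : G)⁻¹ = _
    simp))
  mul_smul g h u := Subtype.ext (Subtype.ext (by
    show ((g : G) * h) * _ * ((g : G) * h)⁻¹ = (g : G) * ((h : G) * _ * (h : G)⁻¹) * (g : G)⁻¹
    group))

theorem card_H_dvd : Nat.card D.H ∣ Nat.card D.F - 1 := by
  classical
  letI := D.conjAction
  have h := card_of_free (H := D.H) (X := {u : D.F // u ≠ 1}) fun h u hu => by
    rcases D.fpf h.2 u.1.2 (congrArg (fun x : {u : D.F // u ≠ 1} => ((x.1 : D.F) : G)) hu) with e | e
    · exact absurd (Subtype.ext e) u.2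
    · exact Subtype.ext e
  have h1 : Nat.card {u : D.F // u ≠ 1} + 1 = Nat.card D.F := by
    rw [← Finite.card_option, Nat.card_congr (Equiv.optionSubtypeNe (1 : D.F))]
  exact ⟨Nat.card (orbitRel.Quotient D.H {u : D.F // u ≠ 1}), by rw [mul_comm, ← h]; omega⟩

theorem card_stab : Nat.card (stabilizer G D.a) = Nat.card D.F * Nat.card D.H := by
  rw [← Nat.card_prod]
  refine (Nat.card_congr (Equiv.ofBijective (fun x : D.F × D.H =>
    (⟨(x.1 : G) * x.2, mem_stabilizer_iff.mpr (by rw [mul_smul, x.2.2.1, D.F_fix _ x.1.2])⟩ :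
      stabilizer G D.a)) ⟨?_, ?_⟩)).symm
  · rintro ⟨⟨u, hu⟩, ⟨h, hh⟩⟩ ⟨⟨u', hu'⟩, ⟨h', hh'⟩⟩ e
    have e' : u * h = u' * h' := congrArg Subtype.val e
    have e2 : u = u' := D.F_inj hu hu' D.b_ne (by
      have e1 : (u * h) • D.b = (u' * h') • D.b := by rw [e']
      rwa [mul_smul, mul_smul, (D.mem_H.mp hh).2, (D.mem_H.mp hh').2] at e1)
    subst e2
    rw [mul_right_inj] at e'
    subst e'
    rfl
  · rintro ⟨g, hg⟩
    obtain ⟨u, hu, h, hh, rfl⟩ := D.decomp (mem_stabilizer_iff.mp hg)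
    exact ⟨(⟨u, hu⟩, ⟨h, hh⟩), rfl⟩

omit [Finite G] in
theorem transitive (D : Frame G Ω) (x y : Ω) : ∃ g : G, g • x = y := by
  classical
  obtain ⟨x', hx'⟩ : ∃ x', x ≠ x' := by
    by_cases h : x = D.a
    · exact ⟨D.b, h ▸ D.hab⟩
    · exact ⟨D.a, h⟩
  obtain ⟨y', hy'⟩ : ∃ y', y ≠ y' := by
    by_cases h : y = D.a
    · exact ⟨D.b, h ▸ D.hab⟩
    · exact ⟨D.a, h⟩
  obtain ⟨g, hg, -⟩ := D.two hx' hy'
  exact ⟨g, hg⟩

theorem card_group : Nat.card G = (Nat.card D.F + 1) * (Nat.card D.F * Nat.card D.H) := by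
  haveI : IsPretransitive G Ω := ⟨D.transitive⟩
  rw [← D.card_points, ← D.card_stab, ← index_stabilizer_of_transitive G D.a,
    Subgroup.index_mul_card]

omit [Finite G] in
/-- An element fixing `b` and `a` setwise. -/
theorem swap_mul {s g : G} (hs : s • D.a = D.b ∧ s • D.b = D.a) (hg : g • D.a = D.b ∧ g • D.b = D.a) :
    g * s⁻¹ ∈ D.H := by
  refine ⟨?_, ?_⟩
  · show (g * s⁻¹) • D.a = D.a
    rw [mul_smul, inv_smul_eq_iff.2 hs.2.symm, hg.2]
  · show (g * s⁻¹) • D.b = D.b
    rw [mul_smul, inv_smul_eq_iff.2 hs.1.symm, hg.1]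

/-- The elements exchanging `a` and `b` are as many as those fixing both. -/
theorem card_swap : Nat.card {g : G // g • D.a = D.b ∧ g • D.b = D.a} = Nat.card D.H := by
  obtain ⟨s, hs⟩ := D.two D.hab D.b_ne
  refine Nat.card_congr
    { toFun := fun g => ⟨g.1 * s⁻¹, D.swap_mul hs g.2⟩
      invFun := fun h => ⟨h.1 * s, by
        constructor
        · rw [mul_smul, hs.1, h.2.2]
        · rw [mul_smul, hs.2, h.2.1]⟩
      left_inv := fun g => Subtype.ext (by simp)
      right_inv := fun h => Subtype.ext (by simp) }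

end Frame

variable {G : Type u} {Ω : Type v} [Group G] [MulAction G Ω] [Finite G]

/-- The Frobenius kernel of a point stabilizer gives a frame. -/
theorem exists_frame [Finite Ω]
    (free3 : ∀ (g : G) (x y z : Ω), x ≠ y → y ≠ z → x ≠ z → g • x = x → g • y = y → g • z = z → g = 1)
    (two : ∀ {x y z w : Ω}, x ≠ y → z ≠ w → ∃ g : G, g • x = z ∧ g • y = w) {a b : Ω} (hab : a ≠ b)
    (h3 : 3 ≤ Nat.card Ω) (hH : stabilizer G a ⊓ stabilizer G b ≠ ⊥) :
    ∃ D : Frame G Ω, D.a = a ∧ D.b = b := by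
  classical
  haveI := Fintype.ofFinite G
  set S := stabilizer G a with hS
  set H : Subgroup S := (stabilizer G b).subgroupOf S with hHdef
  have hc : ∃ c : Ω, c ≠ a ∧ c ≠ b := by
    by_contra h
    push Not at h
    haveI := Fintype.ofFinite Ω
    have hsub : (Finset.univ : Finset Ω) ⊆ {a, b} := fun c _ => by
      by_cases e : c = a
      · simp [e]
      · simp [h c e]
    have := Finset.card_le_card hsub
    rw [Finset.card_univ, Finset.card_pair hab, ← Nat.card_eq_fintype_card] at this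
    omega
  have htrans : ∀ y z : Ω, y ≠ a → z ≠ a → ∃ g : S, (g : G) • y = z := by
    intro y z hy hz
    obtain ⟨g, hga, hgy⟩ := two (Ne.symm hy) (Ne.symm hz)
    exact ⟨⟨g, hga⟩, hgy⟩
  have hfrob : Cfsg.IsFrobeniusComplement H := by
    refine ⟨?_, ?_, ?_⟩
    · intro e
      refine hH ((Subgroup.eq_bot_iff_forall _).mpr fun g hg => ?_)
      have : (⟨g, hg.1⟩ : S) ∈ H := hg.2
      rw [e, Subgroup.mem_bot] at this
      exact congrArg Subtype.val this
    · intro e
      obtain ⟨c, hca, hcb⟩ := hc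
      obtain ⟨g, hg⟩ := htrans b c hab.symm hca
      have : g ∈ H := e ▸ Subgroup.mem_top g
      exact hcb (hg.symm.trans this)
    · intro g hg
      rw [Subgroup.eq_bot_iff_forall]
      rintro x ⟨hx, hx'⟩
      have h1 := Subgroup.mem_pointwise_smul_iff_inv_smul_mem.mp hx'
      have h1' : g⁻¹ * x * g ∈ H := by simpa [MulAut.smul_def, mul_assoc] using h1
      have h2 : ((g⁻¹ * x * g : S) : G) • b = b := h1'
      refine Subtype.ext (free3 (x : G) a b ((g : G) • b) hab ?_ ?_ x.2 hx ?_)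
      · exact fun e => hg (show g ∈ H from e.symm)
      · exact fun e => hab.symm (smul_left_cancel (g : G) (e.symm.trans g.2.symm))
      · simp only [Subgroup.coe_mul, Subgroup.coe_inv, mul_smul] at h2
        exact inv_smul_eq_iff.mp h2
  obtain ⟨N, hNK, hNn, hNc, -⟩ := Cfsg.Agent.Grp.frobenius_kernel_spec hfrob
  have hsemi : ∀ u ∈ N, ∀ y : Ω, y ≠ a → (u : G) • y = y → u = 1 := by
    intro u hu y hy hfix
    have hu' : u ∈ Cfsg.frobeniusKernel H := hNK ▸ hu
    rcases hu' with e | e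
    · exact e
    exfalso
    obtain ⟨g, hg⟩ := htrans b y hab.symm hy
    refine e g (Subgroup.mem_pointwise_smul_iff_inv_smul_mem.mpr ?_)
    have : ((g⁻¹ * u * g : S) : G) • b = b := by
      simp only [Subgroup.coe_mul, Subgroup.coe_inv, mul_smul, hg, hfix]
      rw [inv_smul_eq_iff, hg]
    simpa [MulAut.smul_def, mul_assoc, hHdef, Subgroup.mem_subgroupOf] using this
  refine ⟨⟨a, b, N.map S.subtype, hab, free3, two, ?_, ?_, ?_⟩, rfl, rfl⟩
  · rintro _ ⟨u, -, rfl⟩
    exact u.2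
  · rintro g hg _ ⟨u, hu, rfl⟩
    exact ⟨⟨g, hg⟩ * u * ⟨g, hg⟩⁻¹, hNn.conj_mem u hu _, rfl⟩
  · intro y z hy hz
    have hcardN : Nat.card N = Nat.card {w : Ω // w ≠ a} := by
      have h1 := hNc.card_mul
      rw [← H.index_mul_card] at h1
      have h2 : H.index = Nat.card (MulAction.orbit S b) := by
        have e : H = stabilizer S b := Subgroup.ext fun g => Iff.rfl
        rw [e, index_stabilizer, ← Nat.card_coe_set_eq]
      have h3 : (MulAction.orbit S b) = {w : Ω | w ≠ a} := by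
        ext w
        refine ⟨fun ⟨g, hg⟩ e => hab.symm (smul_left_cancel (g : G) ?_), fun hw => ?_⟩
        · exact (hg.trans e).trans g.2.symm
        · obtain ⟨g, hg⟩ := htrans b w hab.symm hw
          exact ⟨g, hg⟩
      rw [Nat.eq_of_mul_eq_mul_right Nat.card_pos h1, h2, h3]
      rfl
    have hne : ∀ u : N, ((u : S) : G) • y ≠ a := fun u e =>
      hy (smul_left_cancel ((u : S) : G) (e.trans (u : S).2.symm))
    have hbij := (Nat.bijective_iff_injective_and_card
      (fun u : N => (⟨((u : S) : G) • y, hne u⟩ : {w : Ω // w ≠ a}))).mpr ⟨?_, hcardN⟩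
    · obtain ⟨u, hu⟩ := hbij.2 ⟨z, hz⟩
      refine ⟨⟨((u : S) : G), ⟨u, u.2, rfl⟩⟩, congrArg Subtype.val hu, ?_⟩
      rintro ⟨_, v, hv, rfl⟩ hvz
      have hvu : (⟨v, hv⟩ : N) = u := hbij.1 ((Subtype.ext hvz : (⟨(v : G) • y, _⟩ :
        {w : Ω // w ≠ a}) = ⟨z, hz⟩).trans hu.symm)
      subst hvu
      rfl
    · intro u v huv
      have h1 := congrArg Subtype.val huv
      refine (inv_mul_eq_one.mp (Subtype.ext (hsemi _ (mul_mem (inv_mem u.2) v.2) y hy ?_)))
      simp only [Subgroup.coe_mul, Subgroup.coe_inv, mul_smul]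
      rw [inv_smul_eq_iff]
      exact h1.symm

end Cfsg.Agent.Block.Zas
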