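import Cfsg.Agent.Lib.Block.Zas.Chars

/-!
# Zassenhaus groups with abelian kernel and inverted odd two-point stabilizer: the bound
-/

set_option autoImplicit false

namespace Cfsg.Agent.Block.Zas

open MulAction Cfsg
open scoped ComplexConjugate

universe u v

variable {G : Type u} {Ω : Type v} [Group G] [MulAction G Ω] [Finite G]

set_option maxHeartbeats 1600000 in
theorem Frame.half_of_inverted (D : Frame G Ω) (hn : 2 ≤ Nat.card D.F)
    (hF : ∀ u ∈ D.F, ∀ w ∈ D.F, u * w = w * u) (hH : D.H ≠ ⊥) (hodd : Odd (Nat.card D.H))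
    (hinv : ∀ s : G, s • D.a = D.b → s • D.b = D.a → ∀ h ∈ D.H, s * h * s⁻¹ = h⁻¹) :
    Nat.card D.F - 1 ≤ 2 * Nat.card D.H := by
  classical
  by_contra hcon
  haveI := Fintype.ofFinite G
  letI : CommGroup D.F := { (inferInstance : Group D.F) with
    mul_comm := fun x y => Subtype.ext (hF _ x.2 _ y.2) }
  obtain ⟨s, hsa, hsb⟩ := D.two D.hab D.b_ne
  have hHc : ∀ x ∈ D.H, ∀ y ∈ D.H, x * y = y * x := by
    intro x hx y hy
    have h := hinv s hsa hsb (x⁻¹ * y⁻¹) (mul_mem (inv_mem hx) (inv_mem hy))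
    have e : s * (x⁻¹ * y⁻¹) * s⁻¹ = (s * x * s⁻¹)⁻¹ * (s * y * s⁻¹)⁻¹ := by group
    rw [e, hinv s hsa hsb x hx, hinv s hsa hsb y hy, inv_inv, inv_inv, mul_inv_rev, inv_inv,
      inv_inv] at h
    exact h
  letI : CommGroup D.H := { (inferInstance : Group D.H) with
    mul_comm := fun x y => Subtype.ext (hHc _ x.2 _ y.2) }
  haveI : NeZero (Monoid.exponent D.F) := ⟨Monoid.exponent_ne_zero_of_finite⟩
  haveI : NeZero (Monoid.exponent D.H) := ⟨Monoid.exponent_ne_zero_of_finite⟩
  haveI : Finite (D.F →* ℂˣ) :=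
    Finite.of_equiv _ (CommGroup.monoidHom_mulEquiv_of_hasEnoughRootsOfUnity D.F ℂ).some.symm.toEquiv
  haveI : Finite (D.H →* ℂˣ) :=
    Finite.of_equiv _ (CommGroup.monoidHom_mulEquiv_of_hasEnoughRootsOfUnity D.H ℂ).some.symm.toEquiv
  haveI := Fintype.ofFinite (D.F →* ℂˣ)
  haveI := Fintype.ofFinite (D.H →* ℂˣ)
  set n := Nat.card D.F with hndef
  set d := Nat.card D.H with hddef
  set B : Subgroup G := stabilizer G D.a with hBdef
  have hcB : Nat.card B = n * d := D.card_stab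
  have hnd : ((n * d : ℕ) : ℂ) ≠ 0 := Nat.cast_ne_zero.mpr (hcB ▸ Nat.card_pos.ne')
  have hn0 : (n : ℂ) ≠ 0 := Nat.cast_ne_zero.mpr (by omega)
  have hd0 : (d : ℂ) ≠ 0 := Nat.cast_ne_zero.mpr Nat.card_pos.ne'
  -- conjugation of characters of `F`
  let act : D.H → (D.F →* ℂˣ) → (D.F →* ℂˣ) := fun h l =>
    { toFun := fun w => l ⟨(h : G)⁻¹ * w * h, by simpa using D.H_conj (inv_mem h.2) w.2⟩
      map_one' := by
        rw [← map_one l]; congr 1; exact Subtype.ext (by simp)
      map_mul' := fun x y => by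
        rw [← map_mul]; congr 1; exact Subtype.ext (by simp [mul_assoc]) }
  have act_apply : ∀ h l (w : D.F), act h l w =
      l ⟨(h : G)⁻¹ * w * h, by simpa using D.H_conj (inv_mem h.2) w.2⟩ := fun _ _ _ => rfl
  letI instAct : MulAction D.H {l : D.F →* ℂˣ // l ≠ 1} :=
    { smul := fun h l => ⟨act h l.1, fun e => l.2 (MonoidHom.ext fun w => by
        have := DFunLike.congr_fun e ⟨(h : G) * w * (h : G)⁻¹, D.H_conj h.2 w.2⟩
        rw [act_apply, MonoidHom.one_apply] at this
        rw [MonoidHom.one_apply, ← this]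
        congr 1
        exact Subtype.ext (by simp [mul_assoc]))⟩
      one_smul := fun l => Subtype.ext (MonoidHom.ext fun w => by
        show act 1 l.1 w = l.1 w
        rw [act_apply]; congr 1; exact Subtype.ext (by simp))
      mul_smul := fun g h l => Subtype.ext (MonoidHom.ext fun w => by
        show act (g * h) l.1 w = act g (act h l.1) w
        rw [act_apply, act_apply, act_apply]; congr 1; exact Subtype.ext (by simp [mul_assoc])) }
  have smul_val : ∀ (h : D.H) (l : {l : D.F →* ℂˣ // l ≠ 1}), (h • l).1 = act h l.1 := fun _ _ => rfl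
  have hfree : ∀ (h : D.H) (l : {l : D.F →* ℂˣ // l ≠ 1}), h • l = l → h = 1 := by
    intro h l hl
    by_contra hh
    have hh' : ((h⁻¹ : D.H) : G) ≠ 1 := fun e => hh (inv_eq_one.mp (Subtype.ext e))
    let c : D.F → D.F := fun w => w⁻¹ * ⟨(h : G)⁻¹ * w * h, by simpa using D.H_conj (inv_mem h.2) w.2⟩
    have hinj : Function.Injective c := by
      intro x y e
      have e' : (x : G)⁻¹ * ((h : G)⁻¹ * x * h) = (y : G)⁻¹ * ((h : G)⁻¹ * y * h) :=
        congrArg Subtype.val e
      have e2 : ((h⁻¹ : D.H) : G) * ((x : G) * (y : G)⁻¹) * ((h⁻¹ : D.H) : G)⁻¹ = (x : G) * (y : G)⁻¹ := by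
        calc ((h⁻¹ : D.H) : G) * ((x : G) * (y : G)⁻¹) * ((h⁻¹ : D.H) : G)⁻¹
            = ((h : G)⁻¹ * x * h) * ((h : G)⁻¹ * y * h)⁻¹ := by rw [Subgroup.coe_inv]; group
          _ = x * ((x : G)⁻¹ * ((h : G)⁻¹ * x * h)) * ((h : G)⁻¹ * y * h)⁻¹ := by group
          _ = (x : G) * (y : G)⁻¹ := by rw [e']; group
      rcases D.fpf (h⁻¹).2 (mul_mem x.2 (inv_mem y.2)) e2 with e3 | e3
      · exact Subtype.ext (mul_inv_eq_one.mp e3)
      · exact absurd e3 hh'
    refine l.2 (MonoidHom.ext fun w => ?_)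
    obtain ⟨x, rfl⟩ := Finite.injective_iff_surjective.mp hinj w
    have := DFunLike.congr_fun (congrArg Subtype.val hl) x
    rw [smul_val, act_apply] at this
    rw [MonoidHom.one_apply, map_mul, map_inv, this, inv_mul_cancel]
  let ι := orbitRel.Quotient D.H {l : D.F →* ℂˣ // l ≠ 1}
  haveI : Fintype ι := Fintype.ofFinite _
  set k := Fintype.card ι with hkdef
  have hkd : n = k * d + 1 := by
    have h1 := card_of_free (H := D.H) (X := {l : D.F →* ℂˣ // l ≠ 1}) hfree
    have h2 : Nat.card {l : D.F →* ℂˣ // l ≠ 1} + 1 = n := by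
      rw [← Finite.card_option, Nat.card_congr (Equiv.optionSubtypeNe (1 : D.F →* ℂˣ)), hndef,
        CommGroup.card_monoidHom_of_hasEnoughRootsOfUnity D.F ℂ]
    rw [hkdef, ← Nat.card_eq_fintype_card, ← h2, h1]
  have hk3 : 3 ≤ k := by
    by_contra h
    have : k * d ≤ 2 * d := Nat.mul_le_mul_right _ (by omega)
    omega
  let rep : ι → {l : D.F →* ℂˣ // l ≠ 1} := fun i => i.out
  have hrep : ∀ (i j : ι) (h h' : D.H), h • rep i = h' • rep j → i = j ∧ h = h' := by
    intro i j h h' e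
    have hij : i = j := by
      rw [← Quotient.out_eq' i, ← Quotient.out_eq' j, Quotient.eq'', orbitRel_apply]
      exact ⟨h⁻¹ * h', by show (h⁻¹ * h') • rep j = rep i; rw [mul_smul, ← e, inv_smul_smul]⟩
    subst hij
    have e2 : (h'⁻¹ * h) • rep i = rep i := by rw [mul_smul, e, inv_smul_smul]
    exact ⟨rfl, (inv_mul_eq_one.mp (hfree _ _ e2)).symm⟩
  -- the induced characters
  let Φ : {l : D.F →* ℂˣ // l ≠ 1} → G → ℂ := fun l => indFun D.F fun w => (l.1 w : ℂ)
  let ψ : (D.H →* ℂˣ) → G → ℂ := fun t => indFun B fun g => (t (D.toH g) : ℂ)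
  have hΦc : ∀ l, IsCharacter G (Φ l) := fun l =>
    Char.isCharacter_indFun _ (Char.IsIrr.isCharacter (Char.isIrr_linear l.1))
  have hψc : ∀ t, IsCharacter G (ψ t) := fun t =>
    Char.isCharacter_indFun _ (Char.IsIrr.isCharacter (Char.isIrr_linear (t.comp D.toH)))
  -- values
  have hfixF : ∀ (w : D.F) (x : G), (w : G) ≠ 1 → x⁻¹ * w * x ∈ B → x ∈ B := by
    intro w x hw1 hx
    by_contra hxB
    have hne : x • D.a ≠ D.a := hxB
    refine hw1 (D.F_inj w.2 D.F.one_mem hne ?_)
    have e : (x⁻¹ * w * x) • D.a = D.a := hx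
    rw [mul_smul, mul_smul, inv_smul_eq_iff] at e
    rw [one_smul, e]
  have hψF : ∀ t (w : D.F), (w : G) ≠ 1 → ψ t w = 1 := by
    intro t w hw1
    show (Nat.card B : ℂ)⁻¹ * _ = 1
    rw [Finset.sum_congr rfl fun x (_ : x ∈ Finset.univ) => show _ = (if x ∈ B then (1 : ℂ) else 0) from ?_]
    · rw [Finset.sum_boole, ← Fintype.card_subtype, ← Nat.card_eq_fintype_card,
        inv_mul_cancel₀ (by rw [hcB]; exact hnd)]
    by_cases hx : x ∈ B
    · rw [if_pos hx]
      have hmem : x⁻¹ * (w : G) * x ∈ D.F := by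
        simpa using D.F_conj x⁻¹ (inv_smul_eq_iff.2 (hx : x • D.a = D.a).symm) w w.2
      have hB : x⁻¹ * (w : G) * x ∈ B := D.F_fix _ hmem
      rw [Char.extendByZero_of_mem _ hB, D.toH_spec hmem D.H.one_mem ⟨_, hB⟩ (by simp)]
      simp [show (⟨1, D.H.one_mem⟩ : D.H) = 1 from rfl]
    · rw [if_neg hx, Char.extendByZero_not_mem _ fun hm => hx (hfixF w x hw1 hm)]
  have hψH : ∀ t (h : D.H), (h : G) ≠ 1 → ψ t h = (t h : ℂ) + (t h⁻¹ : ℂ) := by
    intro t h hh1
    show (Nat.card B : ℂ)⁻¹ * _ = _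
    have hterm : ∀ x : G, extendByZero B (fun g => (t (D.toH g) : ℂ)) (x⁻¹ * h * x) =
        (if x ∈ B then (t h : ℂ) else 0) + (if x • D.a = D.b then (t h⁻¹ : ℂ) else 0) := by
      intro x
      have hlin : ∀ (y : B) (z : G) (hz : z ∈ D.H) (hm : (y : G)⁻¹ * z * y ∈ B),
          t (D.toH ⟨_, hm⟩) = t ⟨z, hz⟩ := by
        intro y z hz hm
        have hzB : z ∈ B := mem_stabilizer_iff.mpr (D.mem_H.mp hz).1
        let z' : B := ⟨z, hzB⟩
        have e : (⟨_, hm⟩ : B) = y⁻¹ * z' * y := Subtype.ext rfl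
        have e2 : D.toH z' = ⟨z, hz⟩ := D.toH_spec D.F.one_mem hz z' (one_mul _).symm
        have hcalc : ∀ a b : ℂˣ, a⁻¹ * b * a = b := fun a b => by
          rw [mul_comm a⁻¹, mul_assoc, inv_mul_cancel, mul_one]
        show (t.comp D.toH) (⟨_, hm⟩ : B) = t ⟨z, hz⟩
        rw [e, map_mul, map_mul, map_inv, hcalc, MonoidHom.comp_apply, e2]
      by_cases hxB : x ∈ B
      · have hxb : ¬ x • D.a = D.b := fun e => D.hab ((hxB : x • D.a = D.a).symm.trans e)
        rw [if_pos hxB, if_neg hxb, add_zero,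
          Char.extendByZero_of_mem _ (mul_mem (mul_mem (inv_mem hxB) h.2.1) hxB),
          hlin ⟨x, hxB⟩ h h.2]
      by_cases hxb : x • D.a = D.b
      · have hs' : s⁻¹ • D.a = D.b ∧ s⁻¹ • D.b = D.a :=
          ⟨by rw [inv_smul_eq_iff, hsb], by rw [inv_smul_eq_iff, hsa]⟩
        have hy : s⁻¹ * x ∈ B := by
          show (s⁻¹ * x) • D.a = D.a
          rw [mul_smul, hxb, hs'.2]
        have e : x⁻¹ * (h : G) * x = (s⁻¹ * x)⁻¹ * ((h⁻¹ : D.H) : G) * (s⁻¹ * x) := by
          rw [Subgroup.coe_inv, ← hinv s⁻¹ hs'.1 hs'.2 h h.2]; group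
        rw [if_neg hxB, if_pos hxb, zero_add, e,
          Char.extendByZero_of_mem _ (mul_mem (mul_mem (inv_mem hy) (h⁻¹).2.1) hy),
          hlin ⟨_, hy⟩ _ (h⁻¹).2]
      rw [if_neg hxB, if_neg hxb, add_zero, Char.extendByZero_not_mem]
      intro hm
      have e : (x⁻¹ * (h : G) * x) • D.a = D.a := hm
      rw [mul_smul, mul_smul, inv_smul_eq_iff] at e
      by_cases h1 : x • D.a = D.a
      · exact hxB h1
      · exact hh1 (D.free3 h D.a D.b (x • D.a) D.hab (Ne.symm hxb) (Ne.symm h1) h.2.1 h.2.2 e)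
    rw [Finset.sum_congr rfl fun x _ => hterm x, Finset.sum_add_distrib]
    have hc1 : (Finset.univ.filter fun x : G => x ∈ B).card = n * d := by
      rw [← Fintype.card_subtype, ← Nat.card_eq_fintype_card]; exact hcB
    have hc2 : (Finset.univ.filter fun x : G => x • D.a = D.b).card = n * d := by
      rw [← hc1]
      refine Finset.card_equiv (Equiv.mulLeft s⁻¹) fun x => ?_
      simp only [Finset.mem_filter, Finset.mem_univ, true_and, Equiv.coe_mulLeft, hBdef,
        mem_stabilizer_iff, mul_smul]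
      rw [inv_smul_eq_iff, hsa]
    rw [← Finset.sum_filter, ← Finset.sum_filter, Finset.sum_const, Finset.sum_const, hc1, hc2,
      nsmul_eq_mul, nsmul_eq_mul, hcB, ← mul_add, ← mul_assoc, inv_mul_cancel₀ hnd, one_mul]
  have hψ1 : ∀ t, ψ t 1 = (n : ℂ) + 1 := by
    intro t
    show indFun B _ 1 = _
    rw [Char.indFun_one_eq, D.index_stab]
    simp [hndef]
  have hΦ1 : ∀ l, Φ l 1 = ((n : ℂ) + 1) * d := by
    intro l
    show indFun D.F _ 1 = _
    rw [Char.indFun_one_eq, D.index_F]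
    simp [hndef, hddef]
  have hΦF : ∀ l (w : D.F), (w : G) ≠ 1 → Φ l w = ∑ h : D.H, ((h • l).1 w : ℂ) := by
    intro l w hw1
    show (Nat.card D.F : ℂ)⁻¹ * _ = _
    have hterm : ∀ x : G, x ∉ B → extendByZero D.F (fun z => (l.1 z : ℂ)) (x⁻¹ * w * x) = 0 :=
      fun x hx => Char.extendByZero_not_mem _ fun hm => hx (hfixF w x hw1 (D.F_fix _ hm))
    rw [← Finset.sum_filter_add_sum_filter_not Finset.univ (fun x : G => x ∈ B),
      Finset.sum_eq_zero (s := Finset.univ.filter fun x : G => ¬ x ∈ B)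
        (fun x hx => hterm x (Finset.mem_filter.mp hx).2), add_zero]
    have hmem : ∀ x : D.F × D.H, (x.1 : G) * x.2 ∈ B := fun x =>
      mem_stabilizer_iff.mpr (by rw [mul_smul, x.2.2.1, D.F_fix _ x.1.2])
    rw [Finset.sum_bij' (s := Finset.univ.filter fun x : G => x ∈ B)
      (t := (Finset.univ : Finset (D.F × D.H)))
      (g := fun x : D.F × D.H => ((x.2 • l).1 w : ℂ))
      (fun x hx => (D.fPart ⟨x, (Finset.mem_filter.mp hx).2⟩,
        ⟨_, D.fPart_inv_mul_mem ⟨x, (Finset.mem_filter.mp hx).2⟩⟩))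
      (fun x _ => (x.1 : G) * x.2) (fun _ _ => Finset.mem_univ _)
      (fun x _ => Finset.mem_filter.mpr ⟨Finset.mem_univ _, hmem x⟩)
      (fun x _ => mul_inv_cancel_left _ _) (fun x _ => by
        obtain ⟨e1, e2⟩ := D.decomp_unique (D.fPart ⟨_, hmem x⟩).2 x.1.2
          (D.fPart_inv_mul_mem ⟨_, hmem x⟩) x.2.2 (mul_inv_cancel_left _ _)
        exact Prod.ext (Subtype.ext e1) (Subtype.ext e2)) ?_]
    · rw [Fintype.sum_prod_type]
      dsimp only
      rw [Finset.sum_const, Finset.card_univ, nsmul_eq_mul,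
        ← Nat.card_eq_fintype_card, ← mul_assoc, inv_mul_cancel₀ hn0, one_mul]
    · intro x hx
      have hxB := (Finset.mem_filter.mp hx).2
      set v := D.fPart ⟨x, hxB⟩
      have hcomm : ((v : G))⁻¹ * w * v = w := by
        rw [mul_assoc, hF w w.2 v v.2]; group
      have hin : x⁻¹ * (w : G) * x = ((v : G)⁻¹ * x)⁻¹ * w * ((v : G)⁻¹ * x) := by
        calc x⁻¹ * (w : G) * x = ((v : G)⁻¹ * x)⁻¹ * ((v : G)⁻¹ * w * v) * ((v : G)⁻¹ * x) := by group
          _ = _ := by rw [hcomm]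
      rw [hin, Char.extendByZero_of_mem _ (by
        simpa using D.H_conj (inv_mem (D.fPart_inv_mul_mem ⟨x, hxB⟩)) w.2)]
      rfl
  -- inner products
  have hBinner : ∀ (t : D.H →* ℂˣ) (f : G → ℂ), IsClassFunction G f →
      classInner (ψ t) f = ((n * d : ℕ) : ℂ)⁻¹ * ((∑ w : D.F, conj (f w)) +
        (n : ℂ) * ((∑ h : D.H, (t h : ℂ) * conj (f h)) - conj (f 1))) := by
    intro t f hf
    rw [show ψ t = indFun B fun g => (t (D.toH g) : ℂ) from rfl, Char.classInner_indFun _ _ hf]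
    show (Nat.card B : ℂ)⁻¹ * _ = _
    rw [hcB]
    congr 1
    let F' : G → ℂ := fun g => if hg : g ∈ B then (t (D.toH ⟨g, hg⟩) : ℂ) * conj (f g) else 0
    have hF' : ∀ g : B, (t (D.toH g) : ℂ) * conj (f g) = F' g := fun g => by simp [F']
    rw [Finset.sum_congr rfl fun g _ => hF' g, D.sum_stab F' ?_]
    · congr 1
      · refine Finset.sum_congr rfl fun w _ => ?_
        have hw : (w : G) ∈ B := D.F_fix w w.2
        simp only [F', dif_pos hw, D.toH_spec w.2 D.H.one_mem ⟨w, hw⟩ (by simp)]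
        simp [show (⟨1, D.H.one_mem⟩ : D.H) = 1 from rfl]
      · congr 1
        congr 1
        · refine Finset.sum_congr rfl fun h _ => ?_
          have hh : (h : G) ∈ B := h.2.1
          simp only [F', dif_pos hh, D.toH_spec D.F.one_mem h.2 ⟨h, hh⟩ (by simp)]
        · have h1 : (1 : G) ∈ B := B.one_mem
          simp [F', show (⟨1, h1⟩ : B) = 1 from rfl]
    · intro g hg w hw
      have hw' : w ∈ B := D.F_fix w hw
      have hm : w * g * w⁻¹ ∈ B := mul_mem (mul_mem hw' hg) (inv_mem hw')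
      simp only [F', dif_pos hm, dif_pos hg]
      let w' : B := ⟨w, hw'⟩
      let g' : B := ⟨g, hg⟩
      have e1 : D.toH w' = 1 := (D.toH_spec hw D.H.one_mem w' (mul_one _).symm).trans rfl
      have e : D.toH (⟨_, hm⟩ : B) = D.toH g' := by
        rw [show (⟨_, hm⟩ : B) = w' * g' * w'⁻¹ from rfl, MonoidHom.map_mul, MonoidHom.map_mul,
          MonoidHom.map_inv, e1, inv_one, one_mul, mul_one]
      rw [e, hf g w, dif_pos hg]
  have hΦinner : ∀ l (f : G → ℂ), IsClassFunction G f →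
      classInner (Φ l) f = (n : ℂ)⁻¹ * ∑ w : D.F, (l.1 w : ℂ) * conj (f w) := by
    intro l f hf
    rw [show Φ l = indFun D.F fun w => (l.1 w : ℂ) from rfl, Char.classInner_indFun _ _ hf]
    rfl
  have hcardF : (Fintype.card D.F : ℂ) = n := by rw [hndef, Nat.card_eq_fintype_card]
  have hcardH : (Fintype.card D.H : ℂ) = d := by rw [hddef, Nat.card_eq_fintype_card]
  have hone : IsClassFunction G (fun _ : G => (1 : ℂ)) := fun _ _ => rfl
  have hsum0 : ∀ l : {l : D.F →* ℂˣ // l ≠ 1}, ∑ w : D.F, (l.1 w : ℂ) = 0 := by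
    intro l
    have := linear_sum l.1 (1 : D.F →* ℂˣ)
    simpa [l.2] using this
  have hΦone : ∀ l, classInner (Φ l) (fun _ : G => (1 : ℂ)) = 0 := by
    intro l
    rw [hΦinner l _ hone]
    simp [hsum0 l]
  have hΦψ : ∀ l t, classInner (Φ l) (ψ t) = 1 := by
    intro l t
    rw [hΦinner l _ (Char.IsChar.classFun (hψc t))]
    have e : ∀ w : D.F, (l.1 w : ℂ) * conj (ψ t w) =
        (l.1 w : ℂ) + (if w = 1 then (n : ℂ) else 0) := by
      intro w
      by_cases hw : w = 1
      · subst hw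
        simp [hψ1, add_comm]
      · rw [if_neg hw, hψF t w (fun e => hw (Subtype.ext e))]
        simp
    rw [Finset.sum_congr rfl fun w _ => e w, Finset.sum_add_distrib, hsum0, zero_add,
      Finset.sum_ite_eq', if_pos (Finset.mem_univ _), inv_mul_cancel₀ hn0]
  have hΦΦ : ∀ i j, classInner (Φ (rep i)) (Φ (rep j)) = ((d + if i = j then 1 else 0 : ℕ) : ℂ) := by
    intro i j
    rw [hΦinner _ _ (Char.IsChar.classFun (hΦc _))]
    have e : ∀ w : D.F, ((rep i).1 w : ℂ) * conj (Φ (rep j) w) =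
        (∑ h : D.H, ((rep i).1 w : ℂ) * conj (((h • rep j).1 w : ℂ))) +
          (if w = 1 then (n : ℂ) * d else 0) := by
      intro w
      by_cases hw : w = 1
      · subst hw
        simp [hΦ1, hcardH]
        ring
      · rw [if_neg hw, add_zero, hΦF _ w (fun e => hw (Subtype.ext e)), map_sum, Finset.mul_sum]
    rw [Finset.sum_congr rfl fun w _ => e w, Finset.sum_add_distrib, Finset.sum_comm,
      Finset.sum_ite_eq', if_pos (Finset.mem_univ _), Finset.sum_congr rfl fun h _ => linear_sum _ _]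
    have e2 : ∀ h : D.H, (if (rep i).1 = (h • rep j).1 then (Nat.card D.F : ℂ) else 0) =
        (if i = j ∧ h = 1 then (n : ℂ) else 0) := by
      intro h
      have hiff : (rep i).1 = (h • rep j).1 ↔ i = j ∧ h = 1 := by
        constructor
        · intro e
          obtain ⟨e1, e2⟩ := hrep i j 1 h (by rw [one_smul]; exact Subtype.ext e)
          exact ⟨e1, e2.symm⟩
        · rintro ⟨rfl, rfl⟩; rw [one_smul]
      simp only [hiff]
      rfl
    rw [Finset.sum_congr rfl fun h _ => e2 h]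
    by_cases hij : i = j
    · simp [hij]
      field_simp
      ring
    · simp [hij, ← mul_assoc, inv_mul_cancel₀ hn0]
  have hψψ : ∀ t t', classInner (ψ t) (ψ t') =
      (((if t = t' then 1 else 0) + if t = t'⁻¹ then 1 else 0 : ℕ) : ℂ) := by
    intro t t'
    rw [hBinner t _ (Char.IsChar.classFun (hψc t'))]
    have eF : ∑ w : D.F, conj (ψ t' w) = 2 * (n : ℂ) := by
      have e : ∀ w : D.F, conj (ψ t' w) = 1 + (if w = 1 then (n : ℂ) else 0) := by
        intro w
        by_cases hw : w = 1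
        · subst hw; simp [hψ1, add_comm]
        · rw [if_neg hw, hψF _ w (fun e => hw (Subtype.ext e))]; simp
      rw [Finset.sum_congr rfl fun w _ => e w, Finset.sum_add_distrib, Finset.sum_ite_eq',
        if_pos (Finset.mem_univ _), Finset.sum_const, Finset.card_univ, ← Nat.card_eq_fintype_card,
        nsmul_eq_mul, mul_one, ← hndef]
      ring
    have eH : ∑ h : D.H, (t h : ℂ) * conj (ψ t' h) = (if t = t' then (d : ℂ) else 0) +
        (if t = t'⁻¹ then (d : ℂ) else 0) + ((n : ℂ) - 1) := by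
      have e : ∀ h : D.H, (t h : ℂ) * conj (ψ t' h) = (t h : ℂ) * conj (t' h : ℂ) +
          (t h : ℂ) * conj ((t'⁻¹ : D.H →* ℂˣ) h : ℂ) + (if h = 1 then (n : ℂ) - 1 else 0) := by
        intro h
        by_cases hh : h = 1
        · subst hh; simp [hψ1]; ring
        · rw [if_neg hh, hψH _ h (fun e => hh (Subtype.ext e)), map_add, mul_add, add_zero,
            MonoidHom.inv_apply, map_inv]
      rw [Finset.sum_congr rfl fun h _ => e h, Finset.sum_add_distrib, Finset.sum_add_distrib,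
        linear_sum, linear_sum, Finset.sum_ite_eq', if_pos (Finset.mem_univ _)]
    rw [eF, eH, hψ1, inv_mul_eq_iff_eq_mul₀ hnd, map_add, map_natCast, map_one]
    split_ifs <;> push_cast <;> ring
  have hψone : ∀ t, classInner (ψ t) (fun _ : G => (1 : ℂ)) = ((if t = 1 then 1 else 0 : ℕ) : ℂ) := by
    intro t
    rw [hBinner t _ hone]
    have eH : ∑ h : D.H, (t h : ℂ) * conj (1 : ℂ) = if t = 1 then (d : ℂ) else 0 := by
      have := linear_sum t (1 : D.H →* ℂˣ)
      simpa [hcardH] using this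
    rw [eH]
    rw [inv_mul_eq_iff_eq_mul₀ hnd]
    simp only [map_one, Finset.sum_const, Finset.card_univ, hcardF, nsmul_eq_mul, mul_one]
    split_ifs <;> push_cast <;> ring
  -- multiplicities
  have hmex : ∀ t (χ : IrrCharacter G), ∃ m : ℕ, classInner (ψ t) χ = m := fun t χ =>
    Char.IsChar.classInner_nat (hψc t) (Char.IsIrr.isCharacter χ.2)
  choose m hm using hmex
  have hVex : ∀ i (χ : IrrCharacter G), ∃ v : ℕ, classInner (Φ (rep i)) χ = v := fun i χ =>
    Char.IsChar.classInner_nat (hΦc _) (Char.IsIrr.isCharacter χ.2)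
  choose V hV using hVex
  have hmV : ∀ i t, ∑ χ, m t χ * V i χ = 1 := by
    intro i t
    have h := sum_char_decomp (Char.IsChar.classFun (hΦc (rep i))) (Char.IsChar.classFun (hψc t))
    rw [hΦψ, Finset.sum_congr rfl fun χ _ => by rw [hV i χ, hm t χ, Complex.conj_natCast]] at h
    rw [Finset.sum_congr rfl fun χ _ => mul_comm (m t χ) (V i χ)]
    exact_mod_cast h.symm
  have hmm : ∀ t t', ∑ χ, m t χ * m t' χ =
      (if t = t' then 1 else 0) + if t = t'⁻¹ then 1 else 0 := by
    intro t t'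
    have h := sum_char_decomp (Char.IsChar.classFun (hψc t)) (Char.IsChar.classFun (hψc t'))
    rw [hψψ, Finset.sum_congr rfl fun χ _ => by rw [hm t χ, hm t' χ, Complex.conj_natCast]] at h
    exact_mod_cast h.symm
  have hVV : ∀ i j, ∑ χ, V i χ * V j χ = d + if i = j then 1 else 0 := by
    intro i j
    have h := sum_char_decomp (Char.IsChar.classFun (hΦc (rep i))) (Char.IsChar.classFun (hΦc (rep j)))
    rw [hΦΦ, Finset.sum_congr rfl fun χ _ => by rw [hV i χ, hV j χ, Complex.conj_natCast]] at h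
    exact_mod_cast h.symm
  let one : IrrCharacter G := ⟨fun _ => 1, Char.isIrr_one⟩
  have hm_one : ∀ t, m t one = if t = 1 then 1 else 0 := fun t => by
    have h := hm t one
    rw [show ((one : IrrCharacter G) : G → ℂ) = fun _ => (1 : ℂ) from rfl, hψone] at h
    exact_mod_cast h.symm
  have hV_one : ∀ i, V i one = 0 := fun i => by
    have h := hV i one
    rw [show ((one : IrrCharacter G) : G → ℂ) = fun _ => (1 : ℂ) from rfl, hΦone] at h
    exact_mod_cast h.symm
  have hnat2 : ∀ (R : Finset (IrrCharacter G)) (f : IrrCharacter G → ℕ), ∑ χ ∈ R, f χ * f χ = 1 →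
      ∃ χ₀ ∈ R, f χ₀ = 1 ∧ ∀ χ ∈ R, χ ≠ χ₀ → f χ = 0 := by
    intro R f h
    obtain ⟨χ₀, hR, hne⟩ := Finset.exists_ne_zero_of_sum_ne_zero
      (show ∑ χ ∈ R, f χ * f χ ≠ 0 by omega)
    have h1 := Finset.single_le_sum (f := fun χ => f χ * f χ) (fun _ _ => Nat.zero_le _) hR
    rw [h] at h1
    have h0 : f χ₀ ≠ 0 := fun e => hne (by simp [e])
    have hone' : f χ₀ = 1 := by have := Nat.pos_of_ne_zero h0; nlinarith
    refine ⟨χ₀, hR, hone', fun χ hχ hne' => ?_⟩
    have h2 := Finset.sum_le_sum_of_subset (f := fun χ => f χ * f χ)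
      (show {χ₀, χ} ⊆ R from Finset.insert_subset hR (Finset.singleton_subset_iff.mpr hχ))
    rw [Finset.sum_pair hne'.symm, h, hone'] at h2
    nlinarith
  have hone_inv : (1 : D.H →* ℂˣ)⁻¹ = 1 := MonoidHom.ext fun x => inv_one
  have hinv_ne : ∀ t : D.H →* ℂˣ, t ≠ 1 → t ≠ t⁻¹ := by
    intro t ht e
    suffices ho : orderOf t = 1 from ht (by exact orderOf_eq_one_iff.mp ho)
    have h2 : t ^ 2 = 1 := by rw [sq]; nth_rewrite 2 [e]; exact mul_inv_cancel t
    have h3 := Nat.dvd_gcd (orderOf_dvd_of_pow_eq_one h2) (orderOf_dvd_natCard t)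
    rw [CommGroup.card_monoidHom_of_hasEnoughRootsOfUnity D.H ℂ,
      (Nat.coprime_two_left.mpr hodd : Nat.gcd 2 (Nat.card D.H) = 1), Nat.dvd_one] at h3
    exact h3
  have hirr : ∀ t : D.H →* ℂˣ, ∃ χ₀, t ≠ 1 → m t χ₀ = 1 ∧ ∀ χ, χ ≠ χ₀ → m t χ = 0 := by
    intro t
    by_cases ht : t = 1
    · exact ⟨one, fun h => absurd ht h⟩
    obtain ⟨χ₀, -, h1, h2⟩ := hnat2 Finset.univ (m t) (by rw [hmm]; simp [hinv_ne t ht])
    exact ⟨χ₀, fun _ => ⟨h1, fun χ => h2 χ (Finset.mem_univ _)⟩⟩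
  choose P hP using hirr
  obtain ⟨St, hStm, hSt1, hSt0⟩ := hnat2 (Finset.univ.erase one) (m 1) (by
    have h := hmm 1 1
    simp only [hone_inv, if_true] at h
    rw [← Finset.add_sum_erase _ _ (Finset.mem_univ one), hm_one, if_pos rfl] at h
    norm_num at h
    omega)
  have hStne : St ≠ one := (Finset.mem_erase.mp hStm).1
  have hSt_t : ∀ t, t ≠ 1 → m t St = 0 := by
    intro t ht
    have h := hmm t 1
    have ht' : ¬ t = (1 : D.H →* ℂˣ)⁻¹ := by rwa [hone_inv]
    rw [if_neg ht, if_neg ht', add_zero] at h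
    have h2 := (Finset.sum_eq_zero_iff).mp h St (Finset.mem_univ _)
    rw [hSt1, mul_one] at h2
    exact h2
  set f : IrrCharacter G → ℕ := fun χ => ∑ t, m t χ with hf
  have hfone : f one = 1 := by
    rw [hf]; simp only [hm_one, Finset.sum_ite_eq', Finset.mem_univ, if_true]
  have hfSt : f St = 1 := by
    rw [hf]
    simp only
    rw [Finset.sum_eq_single 1 (fun t _ ht => hSt_t t ht) (by simp), hSt1]
  have hf2 : ∀ χ, χ ≠ one → χ ≠ St → f χ ≠ 0 → f χ = 2 := by
    intro χ h1 h2 h0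
    obtain ⟨t, -, ht⟩ := Finset.exists_ne_zero_of_sum_ne_zero h0
    have ht1 : t ≠ 1 := fun e => by
      subst e
      exact ht (hSt0 χ (Finset.mem_erase.mpr ⟨h1, Finset.mem_univ _⟩) h2)
    have hχ : χ = P t := by
      by_contra e; exact ht ((hP t ht1).2 χ e)
    have : ∀ t', m t' χ = (if t = t' then 1 else 0) + if t = t'⁻¹ then 1 else 0 := by
      intro t'
      rw [← hmm t t', Finset.sum_eq_single χ (fun χ' _ hne => by
        rw [(hP t ht1).2 χ' (hχ ▸ hne), zero_mul]) (by simp), hχ, (hP t ht1).1, one_mul]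
    show ∑ t', m t' χ = 2
    rw [Finset.sum_congr rfl fun t' _ => this t', Finset.sum_add_distrib, Finset.sum_ite_eq,
      if_pos (Finset.mem_univ _),
      Finset.sum_congr rfl fun t' _ => show (if t = t'⁻¹ then 1 else 0) = (if t⁻¹ = t' then 1 else 0) from
        if_congr ⟨fun e => by rw [e]; exact MonoidHom.ext fun x => inv_inv _, fun e => by rw [← e]; exact MonoidHom.ext fun x => (inv_inv _).symm⟩ rfl rfl,
      Finset.sum_ite_eq, if_pos (Finset.mem_univ _)]
  have hfVV : ∀ i j, ∑ χ, f χ * (V i χ * V j χ) = d := by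
    intro i j
    simp only [hf, Finset.sum_mul]
    rw [Finset.sum_comm, Finset.sum_congr rfl (g := fun _ => 1), Finset.sum_const, Finset.card_univ,
      smul_eq_mul, mul_one, ← Nat.card_eq_fintype_card,
      CommGroup.card_monoidHom_of_hasEnoughRootsOfUnity D.H ℂ]
    intro t _
    by_cases ht : t = 1
    · subst ht
      have hSV : ∀ i, V i St = 1 := by
        intro i
        have h := hmV i 1
        rw [← Finset.add_sum_erase _ _ (Finset.mem_univ one), hV_one, mul_zero, zero_add,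
          Finset.sum_eq_single St (fun χ hχ hne => by rw [hSt0 χ hχ hne, zero_mul])
          (fun h => absurd hStm h), hSt1, one_mul] at h
        exact h
      rw [← Finset.add_sum_erase _ _ (Finset.mem_univ one), hV_one, zero_mul, mul_zero, zero_add,
        Finset.sum_eq_single St (fun χ hχ hne => by rw [hSt0 χ hχ hne, zero_mul])
        (fun h => absurd hStm h), hSt1, hSV, hSV, one_mul, mul_one]
    · have hPV : ∀ i, V i (P t) = 1 := by
        intro i
        have h := hmV i t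
        rw [Finset.sum_eq_single (P t) (fun χ _ hne => by rw [(hP t ht).2 χ hne, zero_mul])
          (by simp), (hP t ht).1, one_mul] at h
        exact h
      rw [Finset.sum_eq_single (P t) (fun χ _ hne => by rw [(hP t ht).2 χ hne, zero_mul]) (by simp),
        (hP t ht).1, hPV, hPV, one_mul, mul_one]
  have hSV : ∀ i, V i St = 1 := by
    intro i
    have h := hmV i 1
    rw [← Finset.add_sum_erase _ _ (Finset.mem_univ one), hV_one, mul_zero, zero_add,
      Finset.sum_eq_single St (fun χ hχ hne => by rw [hSt0 χ hχ hne, zero_mul])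
      (fun h => absurd hStm h), hSt1, one_mul] at h
    exact h
  obtain ⟨e, he⟩ := hodd
  have hd1 : 1 < d := Finite.one_lt_card_iff_nontrivial.mpr ((Subgroup.nontrivial_iff_ne_bot _).mpr hH)
  let R := {χ : IrrCharacter G // f χ = 0}
  have hgram : ∀ i j : ι, ∑ χ : R, V i χ.1 * V j χ.1 = (if i = j then 1 else 0) + e := by
    intro i j
    have hsub : ∑ χ ∈ Finset.univ.filter (fun χ : IrrCharacter G => f χ = 0), V i χ * V j χ =
        ∑ χ : R, V i χ.1 * V j χ.1 :=
      Finset.sum_subtype (Finset.univ.filter fun χ : IrrCharacter G => f χ = 0)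
        (p := fun χ => f χ = 0) (fun χ => by simp) (fun χ => V i χ * V j χ)
    rw [← hsub]
    have hpt : ∀ χ, f χ * (V i χ * V j χ) + (if χ = St then 1 else 0) +
        2 * (if f χ = 0 then V i χ * V j χ else 0) = 2 * (V i χ * V j χ) := by
      intro χ
      by_cases h1 : χ = one
      · subst h1; simp [hV_one, hStne.symm]
      by_cases h2 : χ = St
      · subst h2; simp [hfSt, hSV]
      by_cases h0 : f χ = 0
      · simp [h0, h2]
      · simp [hf2 χ h1 h2 h0, h2]
    have hs := Finset.sum_congr rfl (s₁ := (Finset.univ : Finset (IrrCharacter G))) fun χ _ => hpt χ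
    rw [Finset.sum_add_distrib, Finset.sum_add_distrib, hfVV, Finset.sum_ite_eq',
      if_pos (Finset.mem_univ _), ← Finset.mul_sum, ← Finset.mul_sum, hVV, ← Finset.sum_filter] at hs
    omega
  -- degrees
  have hdeg : ∀ χ : IrrCharacter G, (χ : G → ℂ) 1 =
      ((f χ + d * ∑ i, V i χ : ℕ) : ℂ) := by
    intro χ
    have hχf := Char.IsIrr.classFun χ.2
    have hc0 : conj ((χ : G → ℂ) 1) = (χ : G → ℂ) 1 := by
      obtain ⟨N, -, hN⟩ := Char.IsIrr.one_eq_pos χ.2
      rw [hN, Complex.conj_natCast]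
    have h1 : ∑ l : D.F →* ℂˣ, ∑ w : D.F, (l w : ℂ) * conj ((χ : G → ℂ) w) =
        (n : ℂ) * (χ : G → ℂ) 1 := by
      rw [Finset.sum_comm, Finset.sum_congr rfl fun w _ => by rw [← Finset.sum_mul, dual_sum w],
        Finset.sum_congr rfl fun w _ => ite_mul (w = 1) (Nat.card D.F : ℂ) 0 _]
      simp [hc0, hcardF]
    have hfsum : ∑ w : D.F, conj ((χ : G → ℂ) w) = (n : ℂ) * f χ := by
      have h2 : ∑ t : D.H →* ℂˣ, classInner (ψ t) χ = (f χ : ℂ) := by
        simp only [hm, hf, Nat.cast_sum]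
      have hswap : ∑ t : D.H →* ℂˣ, ∑ h : D.H, (t h : ℂ) * conj ((χ : G → ℂ) h) =
          (d : ℂ) * conj ((χ : G → ℂ) 1) := by
        rw [Finset.sum_comm, Finset.sum_congr rfl fun h _ => by rw [← Finset.sum_mul, dual_sum h],
          Finset.sum_congr rfl fun h _ => ite_mul (h = 1) (Nat.card D.H : ℂ) 0 _]
        simp [hcardH]
      have hcd : (Fintype.card (D.H →* ℂˣ) : ℂ) = d := by
        rw [← Nat.card_eq_fintype_card, CommGroup.card_monoidHom_of_hasEnoughRootsOfUnity D.H ℂ]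
      rw [Finset.sum_congr rfl fun t _ => hBinner t _ hχf, ← Finset.mul_sum, Finset.sum_add_distrib,
        ← Finset.mul_sum, Finset.sum_sub_distrib, hswap] at h2
      simp only [Finset.sum_const, Finset.card_univ, nsmul_eq_mul, hcd] at h2
      rw [sub_self, mul_zero, add_zero] at h2
      rw [← h2]
      push_cast
      field_simp
    have hΦsum : ∀ (i : ι) (h : D.H), ∑ w : D.F, ((h • rep i).1 w : ℂ) * conj ((χ : G → ℂ) w) =
        (n : ℂ) * V i χ := by
      intro i h
      have e0 : ∑ w : D.F, ((rep i).1 w : ℂ) * conj ((χ : G → ℂ) w) = (n : ℂ) * V i χ := by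
        rw [← hV i χ, hΦinner _ _ hχf, ← mul_assoc, mul_inv_cancel₀ hn0, one_mul]
      rw [← e0]
      refine Fintype.sum_equiv
        { toFun := fun w : D.F => (⟨(h : G)⁻¹ * w * h, by simpa using D.H_conj (inv_mem h.2) w.2⟩ : D.F)
          invFun := fun w : D.F => ⟨(h : G) * w * (h : G)⁻¹, D.H_conj h.2 w.2⟩
          left_inv := fun w => Subtype.ext (by simp [mul_assoc])
          right_inv := fun w => Subtype.ext (by simp [mul_assoc]) } _ _ fun w => ?_
      rw [smul_val, act_apply]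
      show (((rep i).1 ⟨(h : G)⁻¹ * w * h, _⟩ : ℂˣ) : ℂ) * _ = _ * conj ((χ : G → ℂ) ((h : G)⁻¹ * w * h))
      rw [show (χ : G → ℂ) ((h : G)⁻¹ * w * h) = (χ : G → ℂ) w by simpa using hχf (w : G) (h : G)⁻¹]
      rfl
    let e' : ι × D.H ≃ {l : D.F →* ℂˣ // l ≠ 1} := Equiv.ofBijective (fun x => x.2 • rep x.1) ⟨
      fun x y e => Prod.ext (hrep _ _ _ _ e).1 (hrep _ _ _ _ e).2, fun l => by
        have : l ∈ MulAction.orbit D.H (rep (Quotient.mk'' l)) := by
          rw [← orbitRel_apply, ← Quotient.eq'']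
          exact (Quotient.out_eq' (Quotient.mk'' l : ι)).symm
        obtain ⟨h, hh⟩ := this
        exact ⟨(_, h), hh⟩⟩
    rw [← Finset.add_sum_erase _ _ (Finset.mem_univ (1 : D.F →* ℂˣ))] at h1
    simp only [MonoidHom.one_apply, Units.val_one, one_mul, hfsum] at h1
    rw [Finset.sum_subtype (Finset.univ.erase (1 : D.F →* ℂˣ)) (p := fun l => l ≠ 1)
        (fun l => by simp) (fun l => ∑ w : D.F, (l w : ℂ) * conj ((χ : G → ℂ) w)),
      ← Fintype.sum_equiv e' (fun x => (n : ℂ) * V x.1 χ) _ (fun x => (hΦsum x.1 x.2).symm),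
      Fintype.sum_prod_type] at h1
    simp only [Finset.sum_const, Finset.card_univ, nsmul_eq_mul, ← Nat.card_eq_fintype_card,
      ← hddef] at h1
    refine mul_left_cancel₀ hn0 (h1.symm.trans ?_)
    push_cast
    rw [mul_add, ← Finset.mul_sum, ← Finset.mul_sum]
    ring
  refine gram_contradiction (fun i (χ : R) => V i χ.1) hkdef.symm hk3 hkd he (by omega) hgram ?_ ?_
    fun a b hab hcop => D.coprime_part hF hab hcop
  · rintro ⟨χ, hχ⟩
    by_contra h
    have h0 : ∑ i, V i χ = 0 := by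
      have : ¬ 0 < ∑ i, V i χ := h
      omega
    obtain ⟨N, hN, hNe⟩ := Char.IsIrr.one_eq_pos χ.2
    have := hdeg χ
    rw [hNe, hχ, h0] at this
    have h' : N = 0 + d * 0 := by exact_mod_cast this
    omega
  · rintro ⟨χ, hχ⟩
    have h := Char.IsIrr.degree_dvd_card χ.2 (hdeg χ)
    rw [hχ, zero_add, D.card_group, ← hndef, ← hddef, show (n + 1) * (n * d) = d * (n * (n + 1)) by ring] at h
    exact Nat.dvd_of_mul_dvd_mul_left (Nat.card_pos (α := D.H)) h

end Cfsg.Agent.Block.Zas
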