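import Mathlib

/-!
# A family of vectors with constant inner products
-/

set_option autoImplicit false

namespace Cfsg.Agent.Block.Zas

theorem sq_le_two {a : ℤ} (h : a ^ 2 ≤ 2) : a = -1 ∨ a = 0 ∨ a = 1 := by
  rcases lt_trichotomy a 0 with h1 | h1 | h1
  · left
    nlinarith
  · exact Or.inr (Or.inl h1)
  · right; right
    nlinarith

theorem two_support {R : Type*} [Fintype R] [DecidableEq R] (A B : R → ℕ)
    (h2 : ∑ χ, ((A χ : ℤ) - B χ) ^ 2 = 2) (h0 : ∑ χ, ((A χ : ℤ) - B χ) * (A χ + B χ) = 0) :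
    ∃ p q, p ≠ q ∧ ∀ χ, (A χ : ℤ) - B χ = (if χ = p then 1 else 0) - (if χ = q then 1 else 0) := by
  classical
  set D : R → ℤ := fun χ => (A χ : ℤ) - B χ with hD
  have hle : ∀ χ, D χ = -1 ∨ D χ = 0 ∨ D χ = 1 := fun χ => sq_le_two (h2 ▸
    Finset.single_le_sum (f := fun χ => D χ ^ 2) (fun _ _ => sq_nonneg _) (Finset.mem_univ χ))
  set S := Finset.univ.filter fun χ => D χ ≠ 0 with hS
  have hcard : S.card = 2 := by
    have h3 : (S.card : ℤ) = ∑ χ, D χ ^ 2 := by
      rw [hS, Finset.card_filter, Nat.cast_sum]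
      refine Finset.sum_congr rfl fun χ _ => ?_
      rcases hle χ with e | e | e <;> simp [e]
    rw [h2] at h3
    exact_mod_cast h3
  obtain ⟨x, y, hxy, hSe⟩ := Finset.card_eq_two.mp hcard
  have hx : D x ≠ 0 := (Finset.mem_filter.mp (hSe ▸ Finset.mem_insert_self x {y} : x ∈ S)).2
  have hy : D y ≠ 0 := (Finset.mem_filter.mp
    (hSe ▸ Finset.mem_insert_of_mem (Finset.mem_singleton_self y) : y ∈ S)).2
  have hz : ∀ χ, χ ≠ x → χ ≠ y → D χ = 0 := fun χ h3 h4 => by
    by_contra h
    have : χ ∈ S := Finset.mem_filter.mpr ⟨Finset.mem_univ _, h⟩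
    rw [hSe] at this
    simp [h3, h4] at this
  rw [Finset.sum_eq_add x y hxy (fun χ _ hχ => by
    show D χ * _ = 0
    rw [hz χ hχ.1 hχ.2, zero_mul]) (by simp) (by simp)] at h0
  change D x * _ + D y * _ = 0 at h0
  have hxs : (1 : ℤ) ≤ A x + B x := by
    rcases hle x with e | e | e <;> simp only [hD] at e hx <;> omega
  have hys : (1 : ℤ) ≤ A y + B y := by
    rcases hle y with e | e | e <;> simp only [hD] at e hy <;> omega
  rcases hle x with ex | ex | ex <;> rcases hle y with ey | ey | ey <;>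
    first | exact absurd ex hx | exact absurd ey hy | skip
  · rw [ex, ey] at h0; omega
  · refine ⟨y, x, hxy.symm, fun χ => ?_⟩
    show D χ = _
    by_cases e1 : χ = x
    · subst e1; simp [ex, hxy]
    by_cases e2 : χ = y
    · subst e2; simp [ey, hxy.symm]
    simp [hz χ e1 e2, e1, e2]
  · refine ⟨x, y, hxy, fun χ => ?_⟩
    show D χ = _
    by_cases e1 : χ = x
    · subst e1; simp [ex, hxy]
    by_cases e2 : χ = y
    · subst e2; simp [ey, hxy.symm]
    simp [hz χ e1 e2, e1, e2]
  · rw [ex, ey] at h0; omega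

theorem dvd_pred_of_dvd_mul {X k n : ℕ} (hX : X ∣ n * (n + 1)) (hcop : X.Coprime k)
    (hn : ∃ t, n = X * t + (k - 1)) (hk : 1 ≤ k) : X ∣ k - 1 := by
  obtain ⟨t, rfl⟩ := hn
  refine hcop.dvd_of_dvd_mul_right ?_
  have h1 : (X * t + (k - 1)) * (X * t + (k - 1) + 1) = X * (t * (X * t + k + (k - 1))) + (k - 1) * k := by
    obtain ⟨k', rfl⟩ : ∃ k', k = k' + 1 := ⟨k - 1, by omega⟩
    simp only [Nat.add_sub_cancel]
    ring
  rw [h1] at hX
  exact (Nat.dvd_add_right ⟨_, rfl⟩).mp hX

/-- No family of at least three such vectors exists. -/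
theorem gram_contradiction {ι R : Type*} [Fintype ι] [DecidableEq ι] [Fintype R] [DecidableEq R]
    (V : ι → R → ℕ) {n d e k : ℕ} (hk : Fintype.card ι = k) (hk3 : 3 ≤ k) (hn : n = k * d + 1)
    (hd : d = 2 * e + 1) (he : 1 ≤ e)
    (hgram : ∀ i j, ∑ χ, V i χ * V j χ = (if i = j then 1 else 0) + e)
    (hpos : ∀ χ, 0 < ∑ i, V i χ) (hA : ∀ χ, ∑ i, V i χ ∣ n * (n + 1))
    (hdiv : ∀ a b, a * b = n → a.Coprime b → d ∣ a - 1) : False := by
  classical
  have hG : ∀ i j, ∑ χ, (V i χ : ℤ) * (V j χ : ℤ) = (if i = j then 1 else 0) + (e : ℤ) := fun i j => by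
    have := congrArg (fun x : ℕ => (x : ℤ)) (hgram i j)
    push_cast at this
    exact this
  have hstep : ∀ i j, i ≠ j → ∃ p q, p ≠ q ∧
      ∀ χ, (V i χ : ℤ) - V j χ = (if χ = p then 1 else 0) - (if χ = q then 1 else 0) := by
    intro i j hij
    refine two_support (V i) (V j) ?_ ?_
    · have : ∀ χ, ((V i χ : ℤ) - V j χ) ^ 2 =
          (V i χ : ℤ) * V i χ - 2 * ((V i χ : ℤ) * V j χ) + (V j χ : ℤ) * V j χ := fun χ => by ring
      simp only [this, Finset.sum_add_distrib, Finset.sum_sub_distrib, ← Finset.mul_sum, hG, if_true,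
        if_neg hij]
      ring
    · have : ∀ χ, ((V i χ : ℤ) - V j χ) * (V i χ + V j χ) =
          (V i χ : ℤ) * V i χ - (V j χ : ℤ) * V j χ := fun χ => by ring
      simp only [this, Finset.sum_sub_distrib, hG, if_true, sub_self]
  obtain ⟨i₀⟩ : Nonempty ι := Fintype.card_pos_iff.mp (by omega)
  haveI : Nonempty R := by
    obtain ⟨j, hj⟩ := Fintype.exists_ne_of_one_lt_card (by omega) i₀
    obtain ⟨p, -⟩ := hstep j i₀ hj
    exact ⟨p⟩
  have hex : ∀ j, ∃ pq : R × R, j ≠ i₀ → pq.1 ≠ pq.2 ∧ ∀ χ, (V i₀ χ : ℤ) - V j χ =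
      (if χ = pq.1 then 1 else 0) - (if χ = pq.2 then 1 else 0) := by
    intro j
    by_cases hj : j = i₀
    · exact ⟨(Classical.arbitrary R, Classical.arbitrary R), fun h => absurd hj h⟩
    · obtain ⟨p, q, hpq, h⟩ := hstep i₀ j (Ne.symm hj)
      exact ⟨(p, q), fun _ => ⟨hpq, h⟩⟩
  choose pq hpq using hex
  set p := fun j => (pq j).1
  set q := fun j => (pq j).2
  have hrel : ∀ j l, j ≠ i₀ → l ≠ i₀ → j ≠ l → (p j = p l ↔ q j ≠ q l) := by
    intro j l hj hl hjl
    have h1 : ∑ χ, ((V i₀ χ : ℤ) - V j χ) * ((V i₀ χ : ℤ) - V l χ) = 1 := by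
      simp only [sub_mul, mul_sub, Finset.sum_sub_distrib, hG, if_neg hj, if_neg (Ne.symm hl),
        if_neg hjl, if_true]
      ring
    simp only [(hpq j hj).2, (hpq l hl).2, sub_mul, ite_mul, one_mul, zero_mul,
      Finset.sum_sub_distrib, Finset.sum_ite_eq', Finset.mem_univ, if_true] at h1
    have a1 := (hpq j hj).1
    have a2 := (hpq l hl).1
    simp only [p, q] at *
    split_ifs at h1 <;> simp_all
  have hrest : 1 < (Finset.univ.erase i₀).card := by
    rw [Finset.card_erase_of_mem (Finset.mem_univ _), Finset.card_univ]; omega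
  obtain ⟨j₁, hj₁m, l₁, hl₁m, hjl₁⟩ := Finset.one_lt_card.mp hrest
  have hj₁ : j₁ ≠ i₀ := (Finset.mem_erase.mp hj₁m).1
  have hl₁ : l₁ ≠ i₀ := (Finset.mem_erase.mp hl₁m).1
  have hwlog : (∀ j, j ≠ i₀ → p j = p j₁) ∨ (∀ j, j ≠ i₀ → q j = q j₁) := by
    by_contra h
    push Not at h
    obtain ⟨⟨l, hl, hlp⟩, ⟨m, hm, hmq⟩⟩ := h
    have hlj : l ≠ j₁ := fun e => hlp (by rw [e])
    have hmj : m ≠ j₁ := fun e => hmq (by rw [e])
    have a : q l = q j₁ := by
      by_contra h'; exact hlp ((hrel l j₁ hl hj₁ hlj).mpr h')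
    have b : p m = p j₁ := (hrel m j₁ hm hj₁ hmj).mpr hmq
    have hlm : l ≠ m := fun e => hlp (e ▸ b)
    by_cases h' : q l = q m
    · exact hmq (h'.symm.trans a)
    · exact hlp (((hrel l m hl hm hlm).mpr h').trans b)
  have hsame : ∀ χ, (∀ j, j ≠ i₀ → (V i₀ χ : ℤ) - V j χ = 0) → False := by
    intro χ hχ
    have hconst : ∀ i, V i χ = V i₀ χ := fun i => by
      by_cases hi : i = i₀
      · rw [hi]
      · have := hχ i hi; omega
    have h1 := hA χ
    rw [Finset.sum_congr rfl fun i _ => hconst i, Finset.sum_const, Finset.card_univ, hk,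
      smul_eq_mul] at h1
    have h2 : k ∣ n * (n + 1) := (dvd_mul_right _ _).trans h1
    rw [hn, show (k * d + 1) * (k * d + 1 + 1) = k * (d * (k * d + 3)) + 2 by ring,
      Nat.dvd_add_right ⟨_, rfl⟩] at h2
    have := Nat.le_of_dvd (by norm_num) h2
    omega
  have hnorm : ∑ χ, (V i₀ χ : ℤ) * V i₀ χ = 1 + (e : ℤ) := by rw [hG]; simp
  have hnormj : ∀ j, j ≠ i₀ → ((V i₀ (q j) : ℤ) + 1 = V i₀ (p j)) := by
    intro j hj
    have h1 : ∑ χ, ((V i₀ χ : ℤ) - V j χ) * (2 * (V i₀ χ : ℤ) - ((V i₀ χ : ℤ) - V j χ)) = 0 := by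
      have : ∀ χ, ((V i₀ χ : ℤ) - V j χ) * (2 * (V i₀ χ : ℤ) - ((V i₀ χ : ℤ) - V j χ)) =
          (V i₀ χ : ℤ) * V i₀ χ - (V j χ : ℤ) * V j χ := fun χ => by ring
      simp only [this, Finset.sum_sub_distrib, hG, if_true, sub_self]
    simp only [(hpq j hj).2, sub_mul, ite_mul, one_mul, zero_mul, Finset.sum_sub_distrib,
      Finset.sum_ite_eq', Finset.mem_univ, if_true] at h1
    have a1 := (hpq j hj).1
    simp only [p, q] at *
    rw [if_neg a1, if_neg a1.symm] at h1
    linarith
  rcases hwlog with hP | hQ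
  · have hqinj : ∀ j l, j ≠ i₀ → l ≠ i₀ → j ≠ l → q j ≠ q l := fun j l hj hl hjl =>
      (hrel j l hj hl hjl).mp ((hP j hj).trans (hP l hl).symm)
    set P := p j₁ with hPdef
    set x := V i₀ (q j₁) with hx
    have hP0 : (V i₀ P : ℤ) = x + 1 := (hnormj j₁ hj₁).symm
    have hqv : ∀ j, j ≠ i₀ → V i₀ (q j) = x := fun j hj => by
      have := hnormj j hj
      rw [hP j hj] at this
      omega
    have hne : ∀ j, j ≠ i₀ → q j ≠ P := fun j hj e => (hpq j hj).1 ((hP j hj).trans e.symm)
    have huniv : (Finset.univ : Finset R) = insert P ((Finset.univ.erase i₀).image q) := by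
      refine (Finset.eq_univ_of_forall fun χ => ?_).symm
      by_contra h
      simp only [Finset.mem_insert, Finset.mem_image, Finset.mem_erase, Finset.mem_univ, and_true,
        not_or, not_exists, not_and] at h
      refine hsame χ fun j hj => ?_
      rw [(hpq j hj).2, if_neg (fun e => h.1 (e.trans (hP j hj))), if_neg (fun e => h.2 j hj e.symm),
        sub_zero]
    have he2 : (1 : ℤ) + e = ((x : ℤ) + 1) * (x + 1) + ((k : ℤ) - 1) * ((x : ℤ) * x) := by
      rw [← hnorm, huniv, Finset.sum_insert (by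
        simp only [Finset.mem_image, Finset.mem_erase, Finset.mem_univ, and_true, not_exists, not_and]
        exact fun j hj => hne j hj), Finset.sum_image (fun a ha b hb => by
          intro e'
          by_contra h'
          exact hqinj a b (Finset.mem_erase.mp ha).1 (Finset.mem_erase.mp hb).1 h' e'), hP0,
        Finset.sum_congr rfl fun j hj => by rw [hqv j (Finset.mem_erase.mp hj).1],
        Finset.sum_const, Finset.card_erase_of_mem (Finset.mem_univ _), Finset.card_univ, hk,
        nsmul_eq_mul, Nat.cast_sub (by omega)]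
      simp
    have hAP : (∑ i, V i P : ℕ) = k * x + 1 := by
      have h1 : ((∑ i, V i P : ℕ) : ℤ) = k * x + 1 := by
        rw [Nat.cast_sum, ← Finset.add_sum_erase _ _ (Finset.mem_univ i₀), hP0,
          Finset.sum_congr rfl fun j hj => show (V j P : ℤ) = x by
            have hj' := (Finset.mem_erase.mp hj).1
            have h2 := (hpq j hj').2 P
            rw [if_pos (hP j hj').symm, if_neg (hne j hj').symm, hP0] at h2
            linarith,
          Finset.sum_const, Finset.card_erase_of_mem (Finset.mem_univ _), Finset.card_univ, hk,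
          nsmul_eq_mul, Nat.cast_sub (by omega)]
        push_cast
        ring
      exact_mod_cast h1
    have hx1 : 1 ≤ x := by
      by_contra h
      have hx0 : (x : ℤ) = 0 := by omega
      rw [hx0] at he2
      simp at he2
      omega
    have hdvd := hA P
    rw [hAP] at hdvd
    have hnX : n = (k * x + 1) * (2 * (k * x + 1)) + (k - 1) := by
      have : (n : ℤ) = ((k * x + 1) * (2 * (k * x + 1)) + (k - 1) : ℤ) := by
        rw [hn, hd]; push_cast
        linear_combination (2 * (k : ℤ)) * he2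
      have h' : ((k - 1 : ℕ) : ℤ) = (k : ℤ) - 1 := by omega
      rw [← h'] at this
      exact_mod_cast this
    have h3 := Nat.le_of_dvd (by omega) (dvd_pred_of_dvd_mul (k := k) hdvd (by simp) ⟨_, hnX⟩ (by omega))
    have : k ≤ k * x := Nat.le_mul_of_pos_right _ hx1
    omega
  · have hpinj : ∀ j l, j ≠ i₀ → l ≠ i₀ → j ≠ l → p j ≠ p l := fun j l hj hl hjl e =>
      (hrel j l hj hl hjl).mp e ((hQ j hj).trans (hQ l hl).symm)
    set Q := q j₁ with hQdef
    set c := V i₀ (p j₁) with hc
    have hQ0 : (V i₀ Q : ℤ) = c - 1 := by have := hnormj j₁ hj₁; linarith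
    have hpv : ∀ j, j ≠ i₀ → V i₀ (p j) = c := fun j hj => by
      have := hnormj j hj
      rw [hQ j hj] at this
      omega
    have hne : ∀ j, j ≠ i₀ → p j ≠ Q := fun j hj e => (hpq j hj).1 (e.trans (hQ j hj).symm)
    have huniv : (Finset.univ : Finset R) = insert Q ((Finset.univ.erase i₀).image p) := by
      refine (Finset.eq_univ_of_forall fun χ => ?_).symm
      by_contra h
      simp only [Finset.mem_insert, Finset.mem_image, Finset.mem_erase, Finset.mem_univ, and_true,
        not_or, not_exists, not_and] at h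
      refine hsame χ fun j hj => ?_
      rw [(hpq j hj).2, if_neg (fun e => h.2 j hj e.symm), if_neg (fun e => h.1 (e.trans (hQ j hj))),
        sub_zero]
    have he2 : (1 : ℤ) + e = ((c : ℤ) - 1) * (c - 1) + ((k : ℤ) - 1) * ((c : ℤ) * c) := by
      rw [← hnorm, huniv, Finset.sum_insert (by
        simp only [Finset.mem_image, Finset.mem_erase, Finset.mem_univ, and_true, not_exists, not_and]
        exact fun j hj => hne j hj), Finset.sum_image (fun a ha b hb => by
          intro e'
          by_contra h'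
          exact hpinj a b (Finset.mem_erase.mp ha).1 (Finset.mem_erase.mp hb).1 h' e'), hQ0,
        Finset.sum_congr rfl fun j hj => by rw [hpv j (Finset.mem_erase.mp hj).1],
        Finset.sum_const, Finset.card_erase_of_mem (Finset.mem_univ _), Finset.card_univ, hk,
        nsmul_eq_mul, Nat.cast_sub (by omega)]
      simp
    have hc1 : 1 ≤ c := by omega
    have hAQ : (∑ i, V i Q : ℕ) = k * c - 1 := by
      have h1 : ((∑ i, V i Q : ℕ) : ℤ) = k * c - 1 := by
        rw [Nat.cast_sum, ← Finset.add_sum_erase _ _ (Finset.mem_univ i₀), hQ0,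
          Finset.sum_congr rfl fun j hj => show (V j Q : ℤ) = c by
            have hj' := (Finset.mem_erase.mp hj).1
            have h2 := (hpq j hj').2 Q
            rw [if_pos (hQ j hj').symm, if_neg (hne j hj').symm, hQ0] at h2
            linarith,
          Finset.sum_const, Finset.card_erase_of_mem (Finset.mem_univ _), Finset.card_univ, hk,
          nsmul_eq_mul, Nat.cast_sub (by omega)]
        push_cast
        ring
      have hkc : 1 ≤ k * c := Nat.mul_pos (by omega) hc1
      have h2 : ((k * c - 1 : ℕ) : ℤ) = (k : ℤ) * c - 1 := by push_cast [Nat.cast_sub hkc]; ring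
      rw [← h2] at h1
      exact_mod_cast h1
    have hdvd := hA Q
    rw [hAQ] at hdvd
    set X := k * c - 1 with hXdef
    have hkc : 1 ≤ k * c := Nat.mul_pos (by omega) hc1
    have hXZ : (X : ℤ) = (k : ℤ) * c - 1 := by rw [hXdef]; push_cast [Nat.cast_sub hkc]; ring
    have hnX : n = X * (2 * X) + (k - 1) := by
      have : (n : ℤ) = ((X : ℤ) * (2 * X) + (k - 1) : ℤ) := by
        rw [hn, hd, hXZ]; push_cast
        linear_combination (2 * (k : ℤ)) * he2
      have h' : ((k - 1 : ℕ) : ℤ) = (k : ℤ) - 1 := by omega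
      rw [← h'] at this
      exact_mod_cast this
    have hcop : X.Coprime k := by
      have h1 : X.Coprime (X + 1) := by simp
      refine h1.coprime_dvd_right ⟨c, ?_⟩
      omega
    have h3 := Nat.le_of_dvd (by omega) (dvd_pred_of_dvd_mul (k := k) hdvd hcop ⟨_, hnX⟩ (by omega))
    have hc_one : c = 1 := by
      by_contra h
      have : k * 2 ≤ k * c := Nat.mul_le_mul_left _ (by omega)
      omega
    have hX1 : X = k - 1 := by rw [hXdef, hc_one, mul_one]
    rw [hc_one] at he2
    push_cast at he2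
    have hek : e + 2 = k := by
      have : (e : ℤ) + 2 = k := by linarith
      exact_mod_cast this
    have hfac : (k - 1) * (2 * (k - 1) + 1) = n := by rw [hnX, hX1]; ring
    have hcop2 : (k - 1).Coprime (2 * (k - 1) + 1) := by simp
    have hdd := Nat.le_of_dvd (by omega) (hdiv _ _ hfac hcop2)
    omega

end Cfsg.Agent.Block.Zas
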