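import Cfsg.Agent.Lib.Block.Zas.Involution
import Cfsg.Agent.Lib.Block.Zas.Gram
import Cfsg.Agent.Lib.Char.Integral
import Cfsg.Agent.Lib.Char.Induce

/-!
# Zassenhaus groups with abelian kernel and inverted odd two-point stabilizer: characters
-/

set_option autoImplicit false

namespace Cfsg.Agent.Block.Zas

open MulAction Cfsg
open scoped ComplexConjugate

universe u v

variable {G : Type u} {Ω : Type v} [Group G] [MulAction G Ω]

theorem Frame.decomp_unique (D : Frame G Ω) {u u' h h' : G} (hu : u ∈ D.F) (hu' : u' ∈ D.F)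
    (hh : h ∈ D.H) (hh' : h' ∈ D.H) (e : u * h = u' * h') : u = u' ∧ h = h' := by
  have e2 : u = u' := D.F_inj hu hu' D.b_ne (by
    have e1 : (u * h) • D.b = (u' * h') • D.b := by rw [e]
    rwa [mul_smul, mul_smul, (D.mem_H.mp hh).2, (D.mem_H.mp hh').2] at e1)
  subst e2
  exact ⟨rfl, mul_left_cancel e⟩

theorem Frame.smul_b_ne (D : Frame G Ω) (g : stabilizer G D.a) : (g : G) • D.b ≠ D.a := fun e =>
  D.b_ne (smul_left_cancel (g : G) (e.trans g.2.symm))

/-- The component in `F` of an element of the point stabilizer. -/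
noncomputable def Frame.fPart (D : Frame G Ω) (g : stabilizer G D.a) : D.F :=
  D.pointEquiv.symm ⟨(g : G) • D.b, D.smul_b_ne g⟩

theorem Frame.fPart_smul (D : Frame G Ω) (g : stabilizer G D.a) :
    (D.fPart g : G) • D.b = (g : G) • D.b :=
  congrArg Subtype.val (D.pointEquiv.apply_symm_apply ⟨(g : G) • D.b, D.smul_b_ne g⟩)

theorem Frame.fPart_inv_mul_mem (D : Frame G Ω) (g : stabilizer G D.a) :
    (D.fPart g : G)⁻¹ * g ∈ D.H := by
  refine ⟨?_, ?_⟩
  · show ((D.fPart g : G)⁻¹ * g) • D.a = D.a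
    rw [mul_smul, g.2, inv_smul_eq_iff, D.F_fix _ (D.fPart g).2]
  · show ((D.fPart g : G)⁻¹ * g) • D.b = D.b
    rw [mul_smul, inv_smul_eq_iff, D.fPart_smul g]

/-- The point stabilizer retracts onto the two-point stabilizer. -/
noncomputable def Frame.toH (D : Frame G Ω) : stabilizer G D.a →* D.H :=
  MonoidHom.mk' (fun g => ⟨(D.fPart g : G)⁻¹ * g, D.fPart_inv_mul_mem g⟩) fun g k => by
    refine Subtype.ext ?_
    have h1 := D.fPart_inv_mul_mem g
    have h2 := D.fPart_inv_mul_mem k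
    set u := (D.fPart g : G)
    set w := (D.fPart k : G)
    set h := u⁻¹ * (g : G) with hh
    have hw : u * (h * w * h⁻¹) ∈ D.F := mul_mem (D.fPart g).2 (D.H_conj h1 (D.fPart k).2)
    have e : (D.fPart (g * k) : G) * ((D.fPart (g * k) : G)⁻¹ * ((g * k : stabilizer G D.a) : G)) =
        (u * (h * w * h⁻¹)) * (h * (w⁻¹ * (k : G))) := by
      rw [hh, Subgroup.coe_mul]; group
    exact (D.decomp_unique (D.fPart _).2 hw (D.fPart_inv_mul_mem _) (mul_mem h1 h2) e).2

theorem Frame.toH_spec (D : Frame G Ω) {u h : G} (hu : u ∈ D.F) (hh : h ∈ D.H)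
    (g : stabilizer G D.a) (hg : (g : G) = u * h) : D.toH g = ⟨h, hh⟩ :=
  Subtype.ext (D.decomp_unique (D.fPart g).2 hu (D.fPart_inv_mul_mem g) hh
    (by rw [mul_inv_cancel_left, hg])).2

theorem linear_inner {X : Type u} [Group X] [Fintype X] (l l' : X →* ℂˣ) [Decidable (l = l')] :
    classInner (fun x => (l x : ℂ)) (fun x => (l' x : ℂ)) = if l = l' then 1 else 0 := by
  split_ifs with h
  · rw [h, Char.classInner_self_irr (Char.isIrr_linear l')]
  · refine Char.classInner_irr_ne (Char.isIrr_linear l) (Char.isIrr_linear l') fun e => h ?_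
    exact MonoidHom.ext fun x => Units.ext (congrFun e x)

theorem linear_sum {X : Type u} [Group X] [Fintype X] (l l' : X →* ℂˣ) [Decidable (l = l')] :
    ∑ x : X, (l x : ℂ) * conj ((l' x : ℂ)) = if l = l' then (Nat.card X : ℂ) else 0 := by
  have h := linear_inner l l'
  rw [classInner] at h
  have hc : (Nat.card X : ℂ) ≠ 0 := Nat.cast_ne_zero.mpr Nat.card_pos.ne'
  rw [inv_mul_eq_iff_eq_mul₀ hc] at h
  rw [h]
  split_ifs <;> simp

theorem dual_sum {X : Type u} [CommGroup X] [Finite X] [Fintype (X →* ℂˣ)] (x : X) [Decidable (x = 1)] :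
    ∑ l : X →* ℂˣ, (l x : ℂ) = if x = 1 then (Nat.card X : ℂ) else 0 := by
  haveI : NeZero (Monoid.exponent X) := ⟨Monoid.exponent_ne_zero_of_finite⟩
  split_ifs with h
  · subst h
    simp only [map_one, Units.val_one, Finset.sum_const, Finset.card_univ, nsmul_eq_mul, mul_one]
    rw [← Nat.card_eq_fintype_card, CommGroup.card_monoidHom_of_hasEnoughRootsOfUnity X ℂ]
  · obtain ⟨m, hm⟩ := CommGroup.exists_apply_ne_one_of_hasEnoughRootsOfUnity X ℂ h
    have e : ∑ l : X →* ℂˣ, (l x : ℂ) = (m x : ℂ) * ∑ l : X →* ℂˣ, (l x : ℂ) := by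
      rw [Finset.mul_sum]
      exact (Fintype.sum_equiv (Equiv.mulLeft m) _ _ fun l => by simp).symm
    have hm' : (m x : ℂ) ≠ 1 := fun e' => hm (Units.ext e')
    have h0 : ((m x : ℂ) - 1) * ∑ l : X →* ℂˣ, (l x : ℂ) = 0 := by rw [sub_mul, one_mul, ← e, sub_self]
    exact (mul_eq_zero.mp h0).resolve_left (sub_ne_zero.mpr hm')

theorem sum_char_decomp [Fintype G] {f g : G → ℂ} (hf : IsClassFunction G f) (hg : IsClassFunction G g) :
    classInner f g = ∑ χ : IrrCharacter G, classInner f χ * conj (classInner g χ) := by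
  conv_lhs => rw [Char.classFunction_expansion hf, Char.classFunction_expansion hg]
  exact Char.classInner_sum_sum _ _

variable [Finite G]

/-- Summation of a class function over the point stabilizer. -/
theorem Frame.sum_stab (D : Frame G Ω) [Fintype (stabilizer G D.a)] [Fintype D.F] [Fintype D.H]
    (f : G → ℂ) (hf : ∀ g ∈ stabilizer G D.a, ∀ v ∈ D.F, f (v * g * v⁻¹) = f g) :
    ∑ g : stabilizer G D.a, f g =
      (∑ u : D.F, f u) + (Nat.card D.F : ℂ) * ((∑ h : D.H, f h) - f 1) := by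
  classical
  have hmem : ∀ x : D.F × D.H, (x.1 : G) * x.2 ∈ stabilizer G D.a := fun x =>
    mem_stabilizer_iff.mpr (by rw [mul_smul, x.2.2.1, D.F_fix _ x.1.2])
  rw [← Fintype.sum_equiv (Equiv.ofBijective (fun x : D.F × D.H =>
      (⟨(x.1 : G) * x.2, hmem x⟩ : stabilizer G D.a)) ⟨fun x y e => by
        obtain ⟨e1, e2⟩ := D.decomp_unique x.1.2 y.1.2 x.2.2 y.2.2 (congrArg Subtype.val e)
        exact Prod.ext (Subtype.ext e1) (Subtype.ext e2), fun g =>
        ⟨(D.fPart g, ⟨_, D.fPart_inv_mul_mem g⟩), Subtype.ext (mul_inv_cancel_left _ _)⟩⟩)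
      (fun x : D.F × D.H => f ((x.1 : G) * x.2)) _ (fun x => rfl),
    Fintype.sum_prod_type, Finset.sum_comm, ← Finset.add_sum_erase _ _ (Finset.mem_univ (1 : D.H))]
  congr 1
  · simp
  · have hconj : ∀ h ∈ Finset.univ.erase (1 : D.H), ∑ u : D.F, f ((u : G) * h) =
        (Nat.card D.F : ℂ) * f h := by
      intro h hh
      have hh1 : (h : G) ≠ 1 := fun e => (Finset.mem_erase.mp hh).1 (Subtype.ext e)
      let c : D.F → D.F := fun v => v * ⟨(h : G) * (v : G)⁻¹ * (h : G)⁻¹, D.H_conj h.2 (inv_mem v.2)⟩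
      have hinj : Function.Injective c := by
        intro v w e
        have e' : (v : G) * ((h : G) * (v : G)⁻¹ * (h : G)⁻¹) =
            w * ((h : G) * (w : G)⁻¹ * (h : G)⁻¹) := congrArg Subtype.val e
        have e2 : (h : G) * ((w : G)⁻¹ * v) * (h : G)⁻¹ = (w : G)⁻¹ * v := by
          calc (h : G) * ((w : G)⁻¹ * v) * (h : G)⁻¹
              = (w : G)⁻¹ * (w * ((h : G) * (w : G)⁻¹ * (h : G)⁻¹)) *
                ((h : G) * (v : G) * (h : G)⁻¹) := by group
            _ = (w : G)⁻¹ * v := by rw [← e']; group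
        rcases D.fpf h.2 (mul_mem (inv_mem w.2) v.2) e2 with e3 | e3
        · exact Subtype.ext (inv_mul_eq_one.mp e3).symm
        · exact absurd e3 hh1
      rw [← Fintype.sum_equiv (Equiv.ofBijective c ⟨hinj, Finite.injective_iff_surjective.mp hinj⟩)
        (fun _ => f h) _ (fun v => ?_), Finset.sum_const, Finset.card_univ, nsmul_eq_mul,
        Nat.card_eq_fintype_card]
      rw [← hf (h : G) h.2.1 v v.2]
      congr 1
      show (v : G) * h * (v : G)⁻¹ = (v : G) * ((h : G) * (v : G)⁻¹ * (h : G)⁻¹) * h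
      group
    rw [Finset.sum_congr rfl hconj, ← Finset.mul_sum]
    congr 1
    rw [Finset.sum_erase_eq_sub (Finset.mem_univ _), Subgroup.coe_one]

theorem Frame.index_stab (D : Frame G Ω) : (stabilizer G D.a).index = Nat.card D.F + 1 := by
  haveI : IsPretransitive G Ω := ⟨D.transitive⟩
  rw [index_stabilizer_of_transitive G D.a, D.card_points]

theorem Frame.index_F (D : Frame G Ω) : D.F.index = (Nat.card D.F + 1) * Nat.card D.H := by
  refine Nat.eq_of_mul_eq_mul_right (Nat.card_pos (α := D.F)) ?_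
  rw [D.F.index_mul_card, D.card_group]
  ring

/-- Dividing the kernel into coprime parts. -/
theorem Frame.coprime_part (D : Frame G Ω) (hF : ∀ u ∈ D.F, ∀ w ∈ D.F, u * w = w * u) {a b : ℕ}
    (hab : a * b = Nat.card D.F) (hcop : a.Coprime b) : Nat.card D.H ∣ a - 1 := by
  classical
  letI : CommGroup D.F := { (inferInstance : Group D.F) with
    mul_comm := fun x y => Subtype.ext (hF _ x.2 _ y.2) }
  set f : D.F →* D.F := powMonoidHom a with hf
  have h1 : Nat.card f.ker * Nat.card f.range = a * b := by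
    rw [hab, ← Subgroup.index_ker f, f.ker.card_mul_index]
  have hpr : ∀ (K : Subgroup D.F) (m m' : ℕ), m.Coprime m' → (∀ x ∈ K, x ^ m = 1) →
      (Nat.card K).Coprime m' := by
    intro K m m' hmm hK
    refine Nat.coprime_of_dvd fun p hp hpK hpm' => ?_
    haveI := Fact.mk hp
    obtain ⟨⟨x, hx⟩, hxo⟩ := exists_prime_orderOf_dvd_card' (G := K) p hpK
    rw [Subgroup.orderOf_mk] at hxo
    have hpm : p ∣ m := hxo ▸ orderOf_dvd_of_pow_eq_one (hK x hx)
    exact hp.one_lt.ne' (Nat.eq_one_of_dvd_coprimes hmm hpm hpm')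
  have hker : (Nat.card f.ker).Coprime b := hpr _ a b hcop fun x hx => hx
  have hran : (Nat.card f.range).Coprime a := hpr _ b a hcop.symm fun x ⟨y, hy⟩ => by
    rw [← hy, hf, powMonoidHom_apply, ← pow_mul, hab, pow_card_eq_one']
  have hka : Nat.card f.ker ∣ a := hker.dvd_of_dvd_mul_right (h1 ▸ dvd_mul_right _ _)
  have hrb : Nat.card f.range ∣ b := hran.dvd_of_dvd_mul_left (h1 ▸ dvd_mul_left _ _)
  have hab0 : 0 < a * b := hab ▸ Nat.card_pos
  have ha : 0 < a := Nat.pos_of_mul_pos_right hab0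
  have hcard : Nat.card f.ker = a := by
    obtain ⟨x, hx⟩ := hka
    obtain ⟨y, hy⟩ := hrb
    have hk0 : 0 < Nat.card f.ker * Nat.card f.range := h1 ▸ hab0
    have h2 : x * y = 1 := by
      have : Nat.card f.ker * Nat.card f.range * (x * y) = Nat.card f.ker * Nat.card f.range * 1 := by
        rw [mul_one]
        conv_rhs => rw [h1, hx, hy]
        ring
      exact Nat.eq_of_mul_eq_mul_left hk0 this
    rw [hx, (Nat.eq_one_of_mul_eq_one_right h2), mul_one]
  letI : MulAction D.H {x : f.ker // x ≠ 1} :=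
    { smul := fun h x => ⟨⟨⟨(h : G) * ((x.1 : D.F) : G) * (h : G)⁻¹, D.H_conj h.2 (x.1 : D.F).2⟩, by
        have hx : (x.1 : D.F) ^ a = 1 := x.1.2
        show (⟨_, _⟩ : D.F) ^ a = 1
        refine Subtype.ext ?_
        have := congrArg Subtype.val hx
        simp only [SubgroupClass.coe_pow] at this ⊢
        rw [conj_pow, this, Subgroup.coe_one, mul_one, mul_inv_cancel]⟩, fun e =>
          x.2 (Subtype.ext (Subtype.ext (conj_eq_one_iff.mp
            (congrArg (fun y : f.ker => ((y : D.F) : G)) e))))⟩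
      one_smul := fun x => Subtype.ext (Subtype.ext (Subtype.ext (by
        show (1 : G) * _ * (1 : G)⁻¹ = _
        simp)))
      mul_smul := fun g h x => Subtype.ext (Subtype.ext (Subtype.ext (by
        show ((g : G) * h) * _ * ((g : G) * h)⁻¹ = (g : G) * ((h : G) * _ * (h : G)⁻¹) * (g : G)⁻¹
        group))) }
  have h := card_of_free (H := D.H) (X := {x : f.ker // x ≠ 1}) fun h x hx => by
    rcases D.fpf h.2 (x.1 : D.F).2
        (congrArg (fun y : {x : f.ker // x ≠ 1} => ((y.1 : D.F) : G)) hx) with e | e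
    · exact absurd (Subtype.ext (Subtype.ext e)) x.2
    · exact Subtype.ext e
  have h2 : Nat.card {x : f.ker // x ≠ 1} + 1 = a := by
    rw [← hcard, ← Finite.card_option, Nat.card_congr (Equiv.optionSubtypeNe (1 : f.ker))]
  exact ⟨Nat.card (orbitRel.Quotient D.H {x : f.ker // x ≠ 1}), by rw [mul_comm, ← h]; omega⟩

end Cfsg.Agent.Block.Zas
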