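import Cfsg.Agent.Lib.Block.Zas.Involution

/-!
# Zassenhaus groups: coordinates on the projective line
-/

set_option autoImplicit false

namespace Cfsg.Agent.Block.Zas

open MulAction OnePoint

universe u v

variable {G : Type u} {Ω : Type v} [Group G] [MulAction G Ω] [Finite G]

/-- Coordinates in a finite field: `F` acts by translations and the two-point stabilizer by homotheties. -/
theorem Frame.exists_coord (D : Frame G Ω) (hn : 2 ≤ Nat.card D.F) (hH : D.H ≠ ⊥)
    (hd : Nat.card D.F - 1 ≤ 2 * Nat.card D.H) (hHc : ∀ x ∈ D.H, ∀ y ∈ D.H, x * y = y * x)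
    {pc : Ω} (hpa : pc ≠ D.a) (hpb : pc ≠ D.b) :
    ∃ (K : Type) (_ : Field K) (_ : Fintype K) (e : OnePoint K ≃ Ω) (χ : D.H →* Kˣ),
      Fintype.card K = Nat.card D.F ∧ e ∞ = D.a ∧ e ((0 : K) : OnePoint K) = D.b ∧
      e ((1 : K) : OnePoint K) = pc ∧ Function.Injective χ ∧
      (∀ x : K, ∃ t ∈ D.F, ∀ y : OnePoint K, t • e y = e (y.map (· + x))) ∧
      ∀ (h : D.H) (y : OnePoint K), (h : G) • e y = e (y.map ((χ h : K) * ·)) := by
  classical
  obtain ⟨hFc, p, f, hp, hpow, hcard⟩ := D.kernel_elementary hn hH hd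
  haveI := Fact.mk hp
  letI : CommGroup D.F := { (inferInstance : Group D.F) with
    mul_comm := fun x y => hFc.is_comm.comm x y }
  let ρ : D.H →* AddMonoid.End (Additive D.F) :=
    { toFun := fun h =>
        { toFun := fun x => Additive.ofMul ⟨(h : G) * (Additive.toMul x : D.F) * (h : G)⁻¹,
            D.H_conj h.2 (Additive.toMul x : D.F).2⟩
          map_zero' := by
            refine congrArg Additive.ofMul (Subtype.ext ?_)
            show (h : G) * 1 * (h : G)⁻¹ = 1
            group
          map_add' := fun x y => by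
            refine congrArg Additive.ofMul (Subtype.ext ?_)
            show (h : G) * (((Additive.toMul x : D.F) : G) * (Additive.toMul y : D.F)) * (h : G)⁻¹ =
              ((h : G) * ((Additive.toMul x : D.F) : G) * (h : G)⁻¹) *
                ((h : G) * ((Additive.toMul y : D.F) : G) * (h : G)⁻¹)
            group }
      map_one' := by
        refine AddMonoidHom.ext fun x => congrArg Additive.ofMul (Subtype.ext ?_)
        show (1 : G) * ((Additive.toMul x : D.F) : G) * (1 : G)⁻¹ = ((Additive.toMul x : D.F) : G)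
        simp
      map_mul' := fun g h => by
        refine AddMonoidHom.ext fun x => congrArg Additive.ofMul (Subtype.ext ?_)
        show ((g : G) * h) * ((Additive.toMul x : D.F) : G) * ((g : G) * h)⁻¹ =
          (g : G) * ((h : G) * ((Additive.toMul x : D.F) : G) * (h : G)⁻¹) * (g : G)⁻¹
        group }
  have ρ_apply : ∀ (h : D.H) (x : Additive D.F),
      ((Additive.toMul (ρ h x) : D.F) : G) = (h : G) * (Additive.toMul x : D.F) * (h : G)⁻¹ :=
    fun _ _ => rfl
  set S : Set (AddMonoid.End (Additive D.F)) := Set.range ρ with hS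
  have hScomm : ∀ x ∈ S, ∀ y ∈ S, x * y = y * x := by
    rintro _ ⟨g, rfl⟩ _ ⟨h, rfl⟩
    rw [← map_mul, ← map_mul, Subtype.ext (hHc _ g.2 _ h.2) (a1 := g * h) (a2 := h * g)]
  letI : CommRing (Subring.closure S) := Subring.closureCommRingOfComm hScomm
  have hcommS : ∀ (ψ : Subring.closure S) (h : D.H) (x : Additive D.F),
      (ψ : AddMonoid.End (Additive D.F)) (ρ h x) = ρ h ((ψ : AddMonoid.End (Additive D.F)) x) := by
    intro ψ h x
    have e := mul_comm ψ (⟨ρ h, Subring.subset_closure ⟨h, rfl⟩⟩ : Subring.closure S)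
    have e' := congrArg (fun z : Subring.closure S => (z : AddMonoid.End (Additive D.F)) x) e
    exact e'
  have hinjψ : ∀ ψ : Subring.closure S, ψ ≠ 0 →
      ∀ x, (ψ : AddMonoid.End (Additive D.F)) x = 0 → x = 0 := by
    intro ψ hψ x hx
    set Kr : Subgroup G :=
      { carrier := {u | ∃ hu : u ∈ D.F,
          (ψ : AddMonoid.End (Additive D.F)) (Additive.ofMul (⟨u, hu⟩ : D.F)) = 0}
        one_mem' := ⟨D.F.one_mem, map_zero (ψ : AddMonoid.End (Additive D.F))⟩
        mul_mem' := fun {u w} hu hw => by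
          obtain ⟨hu, hu'⟩ := hu
          obtain ⟨hw, hw'⟩ := hw
          refine ⟨mul_mem hu hw, ?_⟩
          rw [show (⟨u * w, mul_mem hu hw⟩ : D.F) = ⟨u, hu⟩ * ⟨w, hw⟩ from rfl, ofMul_mul, map_add,
            hu', hw', add_zero]
        inv_mem' := fun {u} hu => by
          obtain ⟨hu, hu'⟩ := hu
          refine ⟨inv_mem hu, ?_⟩
          rw [show (⟨u⁻¹, inv_mem hu⟩ : D.F) = (⟨u, hu⟩ : D.F)⁻¹ from rfl, ofMul_inv, map_neg, hu',
            neg_zero] } with hKr
    by_contra hx0
    have hxm : ((Additive.toMul x : D.F) : G) ∈ Kr := ⟨(Additive.toMul x : D.F).2, hx⟩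
    have hne : Kr ≠ ⊥ := fun e => hx0 (by
      rw [e, Subgroup.mem_bot] at hxm
      exact Subtype.ext hxm)
    have hKe := D.invariant_eq hd (K := Kr) (fun u hu => by obtain ⟨h, -⟩ := hu; exact h) hne fun h hh u hu => by
      obtain ⟨hu, hu'⟩ := hu
      refine ⟨D.H_conj hh hu, ?_⟩
      rw [show Additive.ofMul (⟨h * u * h⁻¹, D.H_conj hh hu⟩ : D.F) =
        ρ ⟨h, hh⟩ (Additive.ofMul ⟨u, hu⟩) from rfl, hcommS, hu', map_zero]
    refine hψ (Subtype.ext (AddMonoidHom.ext fun y => ?_))
    have hy : ((Additive.toMul y : D.F) : G) ∈ Kr := by rw [hKe]; exact (Additive.toMul y : D.F).2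
    obtain ⟨_, hy'⟩ := hy
    exact hy'
  haveI : Finite (AddMonoid.End (Additive D.F)) :=
    Finite.of_injective (fun ψ => (ψ : Additive D.F → Additive D.F)) DFunLike.coe_injective
  haveI : Fintype (Subring.closure S) := Fintype.ofFinite _
  obtain ⟨u0, hu0, hu0b⟩ := D.exists_F hpa
  have hu01 : (Additive.ofMul (⟨u0, hu0⟩ : D.F)) ≠ 0 := fun e => hpb (by
    have : u0 = 1 := congrArg (fun z : Additive D.F => ((Additive.toMul z : D.F) : G)) e
    rw [← hu0b, this, one_smul])
  haveI : Nontrivial (Subring.closure S) := ⟨⟨1, 0, fun e => hu01 (by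
    have := congrArg (fun z : Subring.closure S =>
      (z : AddMonoid.End (Additive D.F)) (Additive.ofMul (⟨u0, hu0⟩ : D.F))) e
    exact this)⟩⟩
  haveI : IsDomain (Subring.closure S) := by
    haveI : NoZeroDivisors (Subring.closure S) := ⟨fun {ψ φ} h => by
      by_contra hne
      push Not at hne
      refine hne.2 (Subtype.ext (AddMonoidHom.ext fun x => hinjψ ψ hne.1 _ ?_))
      exact congrArg (fun z : Subring.closure S => (z : AddMonoid.End (Additive D.F)) x) h⟩
    exact NoZeroDivisors.to_isDomain _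
  letI : Field (Subring.closure S) := Fintype.fieldOfDomain _
  let ev : Subring.closure S →+ Additive D.F :=
    { toFun := fun ψ => (ψ : AddMonoid.End (Additive D.F)) (Additive.ofMul (⟨u0, hu0⟩ : D.F))
      map_zero' := rfl
      map_add' := fun _ _ => rfl }
  have hev_inj : Function.Injective ev := (injective_iff_map_eq_zero ev).mpr fun ψ hψ => by
    by_contra hne
    exact hu01 (hinjψ ψ hne _ hψ)
  have hev_surj : Function.Surjective ev := by
    set R : Subgroup G :=
      { carrier := {u | ∃ hu : u ∈ D.F, ∃ ψ, ev ψ = Additive.ofMul (⟨u, hu⟩ : D.F)}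
        one_mem' := ⟨D.F.one_mem, 0, map_zero ev⟩
        mul_mem' := fun {u w} hu hw => by
          obtain ⟨hu, ψ, hψ⟩ := hu
          obtain ⟨hw, φ, hφ⟩ := hw
          exact ⟨mul_mem hu hw, ψ + φ, by rw [map_add, hψ, hφ]; rfl⟩
        inv_mem' := fun {u} hu => by
          obtain ⟨hu, ψ, hψ⟩ := hu
          exact ⟨inv_mem hu, -ψ, by rw [map_neg, hψ]; rfl⟩ } with hR
    have hne : R ≠ ⊥ := fun e => hu01 (by
      have : u0 ∈ R := ⟨hu0, 1, rfl⟩
      rw [e, Subgroup.mem_bot] at this
      exact Subtype.ext this)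
    have hRe := D.invariant_eq hd (K := R) (fun u hu => by obtain ⟨h, -⟩ := hu; exact h) hne fun h hh u hu => by
      obtain ⟨hu, ψ, hψ⟩ := hu
      refine ⟨D.H_conj hh hu, ⟨ρ ⟨h, hh⟩, Subring.subset_closure ⟨_, rfl⟩⟩ * ψ, ?_⟩
      show ρ ⟨h, hh⟩ (ev ψ) = _
      rw [hψ]
      rfl
    intro y
    have hy : ((Additive.toMul y : D.F) : G) ∈ R := by rw [hRe]; exact (Additive.toMul y : D.F).2
    obtain ⟨_, ψ, hψ'⟩ := hy
    exact ⟨ψ, hψ'⟩
  have hcardE : Fintype.card (Subring.closure S) = Nat.card D.F := by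
    rw [← Nat.card_eq_fintype_card, Nat.card_congr (Equiv.ofBijective ev ⟨hev_inj, hev_surj⟩)]
    exact Nat.card_congr Additive.toMul
  have hf0 : f ≠ 0 := by rintro rfl; rw [pow_zero] at hcard; omega
  haveI : Fintype (GaloisField p f) := Fintype.ofFinite _
  let ι : GaloisField p f ≃+* Subring.closure S := FiniteField.ringEquivOfCardEq (by
    rw [hcardE, hcard, ← Nat.card_eq_fintype_card, GaloisField.card p f hf0])
  let pt : GaloisField p f → Ω := fun x => ((Additive.toMul (ev (ι x)) : D.F) : G) • D.b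
  have hpt_ne : ∀ x, pt x ≠ D.a := fun x => D.F_ne (Additive.toMul (ev (ι x)) : D.F).2 D.b_ne
  let e' : OnePoint (GaloisField p f) → Ω := fun y => y.elim D.a pt
  have hbij : Function.Bijective e' := by
    refine ⟨fun y z h => ?_, fun w => ?_⟩
    · cases y with
      | infty =>
        cases z with
        | infty => rfl
        | coe z => exact absurd h.symm (hpt_ne z)
      | coe y =>
        cases z with
        | infty => exact absurd h (hpt_ne y)
        | coe z =>
          have e2 : (Additive.toMul (ev (ι y)) : D.F) = Additive.toMul (ev (ι z)) :=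
            Subtype.ext (D.F_inj (Additive.toMul (ev (ι y)) : D.F).2 (Additive.toMul (ev (ι z)) : D.F).2
              D.b_ne h)
          rw [ι.injective (hev_inj (Additive.toMul.injective e2))]
    · by_cases hw : w = D.a
      · exact ⟨∞, hw.symm⟩
      · obtain ⟨u, hu, hub⟩ := D.exists_F hw
        obtain ⟨ψ, hψ⟩ := hev_surj (Additive.ofMul (⟨u, hu⟩ : D.F))
        refine ⟨((ι.symm ψ : GaloisField p f) : OnePoint (GaloisField p f)), ?_⟩
        show pt (ι.symm ψ) = w
        simp only [pt, RingEquiv.apply_symm_apply, hψ]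
        exact hub
  let toE : D.H →* Subring.closure S :=
    { toFun := fun h => ⟨ρ h, Subring.subset_closure ⟨h, rfl⟩⟩
      map_one' := Subtype.ext (map_one ρ)
      map_mul' := fun g h => Subtype.ext (map_mul ρ g h) }
  let χ : D.H →* (GaloisField p f)ˣ := ((ι.symm.toMonoidHom).comp toE).toHomUnits
  have hχ : ∀ h, ι (χ h : GaloisField p f) = toE h := fun h => ι.apply_symm_apply _
  refine ⟨GaloisField p f, inferInstance, inferInstance, Equiv.ofBijective e' hbij, χ, ?_, rfl, ?_,
    ?_, ?_, ?_, ?_⟩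
  · rw [← Nat.card_eq_fintype_card, GaloisField.card p f hf0, hcard]
  · show pt 0 = D.b
    simp only [pt, map_zero]
    exact one_smul G D.b
  · show pt 1 = pc
    simp only [pt, map_one]
    exact hu0b
  · intro g h e
    have e1 : ρ g = ρ h := by
      have h2 := congrArg (fun z : (GaloisField p f)ˣ => ι (z : GaloisField p f)) e
      simp only [hχ] at h2
      exact congrArg Subtype.val h2
    have e2 : ((h⁻¹ * g : D.H) : G) * u0 * ((h⁻¹ * g : D.H) : G)⁻¹ = u0 := by
      have : ρ (h⁻¹ * g) (Additive.ofMul ⟨u0, hu0⟩) = Additive.ofMul (⟨u0, hu0⟩ : D.F) := by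
        rw [map_mul, e1, ← map_mul, inv_mul_cancel, map_one]; rfl
      exact congrArg (fun z : Additive D.F => ((Additive.toMul z : D.F) : G)) this
    rcases D.fpf (h⁻¹ * g).2 hu0 e2 with e3 | e3
    · exact absurd (Subtype.ext e3) hu01
    · exact (inv_mul_eq_one.mp (Subtype.ext e3)).symm
  · intro x
    refine ⟨(Additive.toMul (ev (ι x)) : D.F), (Additive.toMul (ev (ι x)) : D.F).2, fun y => ?_⟩
    cases y with
    | infty => exact D.F_fix _ (Additive.toMul (ev (ι x)) : D.F).2
    | coe y =>
      show ((Additive.toMul (ev (ι x)) : D.F) : G) • pt y = pt (y + x)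
      simp only [pt, map_add, toMul_add, Subgroup.coe_mul, ← mul_smul]
      exact congrArg (fun z : G => z • D.b)
        (congrArg Subtype.val (hFc.is_comm.comm (Additive.toMul (ev (ι x))) (Additive.toMul (ev (ι y)))))
  · intro h y
    cases y with
    | infty => exact h.2.1
    | coe y =>
      show (h : G) • pt y = pt ((χ h : GaloisField p f) * y)
      simp only [pt, map_mul, hχ]
      show _ = ((h : G) * ((Additive.toMul (ev (ι y)) : D.F) : G) * (h : G)⁻¹) • D.b
      rw [mul_smul _ (h : G)⁻¹, mul_smul, inv_smul_eq_iff.2 (show D.b = (h : G) • D.b from h.2.2.symm)]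

end Cfsg.Agent.Block.Zas
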