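import Cfsg.Agent.Lib.Block.Zas.Coord
import Cfsg.Agent.Lib.Classical.SLGroup

/-!
# Recognition of two-dimensional projective linear groups from coordinates
-/

set_option autoImplicit false

namespace Cfsg.Agent.Block.Zas

open MulAction OnePoint Matrix

universe u v

variable {G : Type u} {Ω : Type v} [Group G] [MulAction G Ω]
variable {K : Type} [Field K] [DecidableEq K]

/-- The inversion `y ↦ C / y` of the projective line. -/
def invMap (C : K) : OnePoint K → OnePoint K :=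
  fun y => y.elim ((0 : K) : OnePoint K) fun x => if x = 0 then ∞ else ((C / x : K) : OnePoint K)

/-- Translations, some homotheties and an inversion realised by group elements realise Moebius maps. -/
theorem exists_mob (e : OnePoint K ≃ Ω) (A : K → Prop) {C : K} (hC : C ≠ 0)
    (htr : ∀ x : K, ∃ g : G, ∀ y : OnePoint K, g • e y = e (y.map (· + x)))
    (hmul : ∀ c : K, c ≠ 0 → A c → ∃ g : G, ∀ y : OnePoint K, g • e y = e (y.map (c * ·)))
    (hinv : ∃ g : G, ∀ y : OnePoint K, g • e y = e (invMap C y)) (M : GL (Fin 2) K)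
    (h0 : M 1 0 = 0 → A (M 0 0 / M 1 1))
    (h1 : M 1 0 ≠ 0 → A (-(M 0 0 * M 1 1 - M 0 1 * M 1 0) / (M 1 0 ^ 2 * C))) :
    ∃ g : G, ∀ y : OnePoint K, g • e y = e (M • y) := by
  have hdet : M 0 0 * M 1 1 - M 0 1 * M 1 0 ≠ 0 := by
    have := M.det_ne_zero
    rwa [det_fin_two] at this
  by_cases hc : M 1 0 = 0
  · have ha : M 0 0 ≠ 0 := fun e' => hdet (by rw [e', hc]; ring)
    have hd : M 1 1 ≠ 0 := fun e' => hdet (by rw [e', hc]; ring)
    obtain ⟨g, hg⟩ := hmul (M 0 0 / M 1 1) (div_ne_zero ha hd) (h0 hc)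
    obtain ⟨t, ht⟩ := htr (M 0 1 / M 1 1)
    refine ⟨t * g, fun y => ?_⟩
    rw [mul_smul, hg, ht]
    congr 1
    cases y with
    | infty => rw [smul_infty_eq_ite, if_pos hc]; rfl
    | coe x =>
      rw [smul_some_eq_ite, if_neg (by simp [hc, hd]), OnePoint.map_some, OnePoint.map_some, coe_eq_coe,
        hc, zero_mul, zero_add]
      field_simp
  · obtain ⟨t1, ht1⟩ := htr (M 1 1 / M 1 0)
    obtain ⟨s, hs⟩ := hinv
    obtain ⟨g, hg⟩ := hmul (-(M 0 0 * M 1 1 - M 0 1 * M 1 0) / (M 1 0 ^ 2 * C))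
      (div_ne_zero (neg_ne_zero.mpr hdet) (mul_ne_zero (pow_ne_zero _ hc) hC)) (h1 hc)
    obtain ⟨t2, ht2⟩ := htr (M 0 0 / M 1 0)
    refine ⟨t2 * (g * (s * t1)), fun y => ?_⟩
    rw [mul_smul, mul_smul, mul_smul, ht1, hs, hg, ht2]
    congr 1
    cases y with
    | infty =>
      rw [smul_infty_eq_ite, if_neg hc]
      simp [invMap]
    | coe x =>
      rw [smul_some_eq_ite]
      by_cases hx : M 1 0 * x + M 1 1 = 0
      · have hx' : x + M 1 1 / M 1 0 = 0 := by
          field_simp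
          linear_combination hx
        rw [if_pos hx]
        simp [invMap, hx']
      · have hx' : x + M 1 1 / M 1 0 ≠ 0 := fun h => hx (by
          field_simp at h
          linear_combination h)
        rw [if_neg hx]
        simp only [OnePoint.map_some, invMap, OnePoint.elim_some, if_neg hx']
        rw [coe_eq_coe]
        field_simp
        ring

theorem scalar_of_fix (M : GL (Fin 2) K) (h : ∀ y : OnePoint K, M • y = y) :
    M 0 1 = 0 ∧ M 1 0 = 0 ∧ M 0 0 = M 1 1 := by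
  have hc : M 1 0 = 0 := smul_infty_eq_self_iff.mp (h ∞)
  have h0 := h ((0 : K) : OnePoint K)
  have h1 := h ((1 : K) : OnePoint K)
  rw [smul_some_eq_ite] at h0 h1
  by_cases a : M 1 0 * 0 + M 1 1 = 0
  · rw [if_pos a] at h0
    exact absurd h0 (infty_ne_coe _)
  by_cases b : M 1 0 * 1 + M 1 1 = 0
  · rw [if_pos b] at h1
    exact absurd h1 (infty_ne_coe _)
  rw [if_neg a, coe_eq_coe, div_eq_iff a] at h0
  rw [if_neg b, coe_eq_coe, div_eq_iff b] at h1
  simp only [mul_zero, zero_add, zero_mul, mul_one, one_mul, hc] at h0 h1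
  exact ⟨h0, hc, by rw [h0, add_zero] at h1; exact h1⟩

theorem fix_of_scalar (M : GL (Fin 2) K) (hb : M 0 1 = 0) (hc : M 1 0 = 0) (had : M 0 0 = M 1 1)
    (y : OnePoint K) : M • y = y := by
  cases y with
  | infty => rw [smul_infty_eq_ite, if_pos hc]
  | coe x =>
    have hdet := M.det_ne_zero
    rw [det_fin_two, hb, hc, zero_mul, sub_zero] at hdet
    have hd : M 1 1 ≠ 0 := right_ne_zero_of_mul hdet
    rw [smul_some_eq_ite, if_neg (by simp [hc, hd]), coe_eq_coe, hb, hc, had]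
    rw [zero_mul, zero_add, add_zero, mul_div_assoc]
    exact mul_div_cancel₀ x hd

/-- A group containing all realised maps of a matrix group and of equal order is isomorphic to its quotient. -/
theorem nonempty_iso [Finite G] [Fintype K] (e : OnePoint K ≃ Ω)
    (hfaith : ∀ g : G, (∀ x : Ω, g • x = x) → g = 1) {L : Type} [Group L] (Z : Subgroup L) [Z.Normal]
    (ι : L →* GL (Fin 2) K) (hZ : ∀ M : L, M ∈ Z ↔ ∀ y : OnePoint K, ι M • y = y)
    (hreal : ∀ M : L, ∃ g : G, ∀ y : OnePoint K, g • e y = e (ι M • y))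
    (hcard : Nat.card (L ⧸ Z) = Nat.card G) : Nonempty (G ≃* L ⧸ Z) := by
  choose r hr using hreal
  have huniq : ∀ g g' : G, (∀ y, g • e y = g' • e y) → g = g' := by
    intro g g' h
    refine (inv_mul_eq_one.mp (hfaith _ fun x => ?_)).symm
    obtain ⟨y, rfl⟩ := e.surjective x
    rw [mul_smul, h, inv_smul_smul]
  let Φ : L →* G := MonoidHom.mk' r fun a b => huniq _ _ fun y => by
    rw [hr, mul_smul, hr, hr, map_mul, mul_smul]
  have hker : Φ.ker = Z := by
    ext M
    rw [MonoidHom.mem_ker, hZ]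
    constructor
    · intro h y
      have := hr M y
      rw [show r M = 1 from h, one_smul] at this
      exact e.injective this.symm
    · intro h
      exact huniq _ _ fun y => by
        show r M • e y = (1 : G) • e y
        rw [hr, h, one_smul]
  have f : (L ⧸ Z) ≃* Φ.range :=
    (QuotientGroup.quotientMulEquivOfEq hker.symm).trans (QuotientGroup.quotientKerEquivRange Φ)
  have htop : Φ.range = ⊤ := Subgroup.eq_top_of_card_eq _ (by rw [← Nat.card_congr f.toEquiv, hcard])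
  exact ⟨((f.trans (MulEquiv.subgroupCongr htop)).trans Subgroup.topEquiv).symm⟩

theorem center_SL_iff (M : SpecialLinearGroup (Fin 2) K) :
    M ∈ Subgroup.center (SpecialLinearGroup (Fin 2) K) ↔
      ∀ y : OnePoint K, SpecialLinearGroup.toGL M • y = y := by
  rw [Matrix.SpecialLinearGroup.mem_center_iff]
  constructor
  · rintro ⟨r, -, hr⟩
    refine fix_of_scalar _ ?_ ?_ ?_ <;>
      simp [← hr, Matrix.SpecialLinearGroup.toGL] <;> rfl
  · intro h
    obtain ⟨hb, hc, had⟩ := scalar_of_fix _ h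
    have hb' : (M : Matrix (Fin 2) (Fin 2) K) 0 1 = 0 := hb
    have hc' : (M : Matrix (Fin 2) (Fin 2) K) 1 0 = 0 := hc
    have had' : (M : Matrix (Fin 2) (Fin 2) K) 0 0 = (M : Matrix (Fin 2) (Fin 2) K) 1 1 := had
    refine ⟨(M : Matrix (Fin 2) (Fin 2) K) 0 0, ?_, ?_⟩
    · have := M.2
      rw [det_fin_two, hb', zero_mul, sub_zero, ← had'] at this
      simpa [sq] using this
    · ext i j
      fin_cases i <;> fin_cases j <;> simp [hb', hc', had', Matrix.scalar]

theorem center_GL_iff (M : GL (Fin 2) K) :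
    M ∈ Subgroup.center (GL (Fin 2) K) ↔ ∀ y : OnePoint K, M • y = y := by
  rw [GeneralLinearGroup.mem_center_iff_val_mem_range_scalar]
  constructor
  · rintro ⟨r, hr⟩
    refine fix_of_scalar _ ?_ ?_ ?_ <;> simp [← hr]
  · intro h
    obtain ⟨hb, hc, had⟩ := scalar_of_fix _ h
    refine ⟨M 0 0, ?_⟩
    ext i j
    fin_cases i <;> fin_cases j <;> simp [hb, hc, had, Matrix.scalar]

/-- Recognition of `PSL(2, K)`. -/
theorem iso_psl [Finite G] [Fintype K] (e : OnePoint K ≃ Ω)
    (hfaith : ∀ g : G, (∀ x : Ω, g • x = x) → g = 1) {C : K} (hC : C ≠ 0) (hC2 : IsSquare (-C))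
    (htr : ∀ x : K, ∃ g : G, ∀ y : OnePoint K, g • e y = e (y.map (· + x)))
    (hmul : ∀ c : K, c ≠ 0 → IsSquare c → ∃ g : G, ∀ y : OnePoint K, g • e y = e (y.map (c * ·)))
    (hinv : ∃ g : G, ∀ y : OnePoint K, g • e y = e (invMap C y))
    (hcard : Nat.card (ProjectiveSpecialLinearGroup (Fin 2) K) = Nat.card G) :
    Nonempty (G ≃* ProjectiveSpecialLinearGroup (Fin 2) K) := by
  refine nonempty_iso e hfaith _ SpecialLinearGroup.toGL center_SL_iff (fun M => ?_) hcard
  have hM := M.2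
  rw [det_fin_two] at hM
  refine exists_mob e IsSquare hC htr hmul hinv _ (fun hc => ?_) (fun hc => ?_)
  · change IsSquare ((M : Matrix (Fin 2) (Fin 2) K) 0 0 / (M : Matrix (Fin 2) (Fin 2) K) 1 1)
    have hc' : (M : Matrix (Fin 2) (Fin 2) K) 1 0 = 0 := hc
    rw [hc', mul_zero, sub_zero] at hM
    refine ⟨(M : Matrix (Fin 2) (Fin 2) K) 0 0, ?_⟩
    rw [div_eq_iff (right_ne_zero_of_mul_eq_one hM)]
    linear_combination -(M : Matrix (Fin 2) (Fin 2) K) 0 0 * hM
  · change IsSquare (-((M : Matrix (Fin 2) (Fin 2) K) 0 0 * (M : Matrix (Fin 2) (Fin 2) K) 1 1 -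
      (M : Matrix (Fin 2) (Fin 2) K) 0 1 * (M : Matrix (Fin 2) (Fin 2) K) 1 0) /
        ((M : Matrix (Fin 2) (Fin 2) K) 1 0 ^ 2 * C))
    rw [hM, show -(1 : K) / ((M : Matrix (Fin 2) (Fin 2) K) 1 0 ^ 2 * C) =
      ((M : Matrix (Fin 2) (Fin 2) K) 1 0 ^ 2 * (-C))⁻¹ by
        rw [mul_neg, inv_neg, neg_div, one_div]]
    exact ((IsSquare.sq _).mul hC2).inv

/-- Recognition of `PGL(2, K)`. -/
theorem iso_pgl [Finite G] [Fintype K] (e : OnePoint K ≃ Ω)
    (hfaith : ∀ g : G, (∀ x : Ω, g • x = x) → g = 1) {C : K} (hC : C ≠ 0)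
    (htr : ∀ x : K, ∃ g : G, ∀ y : OnePoint K, g • e y = e (y.map (· + x)))
    (hmul : ∀ c : K, c ≠ 0 → ∃ g : G, ∀ y : OnePoint K, g • e y = e (y.map (c * ·)))
    (hinv : ∃ g : G, ∀ y : OnePoint K, g • e y = e (invMap C y))
    (hcard : Nat.card (ProjGenLinGroup (Fin 2) K) = Nat.card G) :
    Nonempty (G ≃* ProjGenLinGroup (Fin 2) K) := by
  obtain ⟨f⟩ := nonempty_iso e hfaith _ (MonoidHom.id (GL (Fin 2) K)) center_GL_iff
    (fun M => exists_mob e (fun _ => True) hC htr (fun c hc _ => hmul c hc) hinv M (fun _ => trivial)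
      fun _ => trivial) hcard
  exact ⟨f⟩

end Cfsg.Agent.Block.Zas
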