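import Mathlib
import Cfsg.Prelude.Def_Perm

/-!
# A regular normal elementary abelian 2-subgroup with a Singer cycle gives semiaffine maps
-/

set_option autoImplicit false

namespace Cfsg.Agent.Block.Zas

open MulAction

universe u v

variable {G : Type u} {Ω : Type v} [Group G] [MulAction G Ω]

set_option maxHeartbeats 1000000 in
/-- Semiaffine coordinates from a regular normal subgroup and a cycle transitive on it. -/
theorem semiaffine_of_regular [Finite G] (hfaith : ∀ g : G, (∀ x : Ω, g • x = x) → g = 1) (a0 : Ω)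
    (R : Subgroup G) (hRn : R.Normal) (hreg : ∀ x : Ω, ∃! r : R, (r : G) • a0 = x)
    (h2 : ∀ r ∈ R, r * r = 1) {q : ℕ} (hq : q.Prime) (hRc : Nat.card R = 2 ^ q) (w : G)
    (hw : w • a0 = a0)
    (htrans : ∀ r ∈ R, r ≠ 1 → ∀ r' ∈ R, r' ≠ 1 → ∃ i : ℕ, w ^ i * r * (w ^ i)⁻¹ = r')
    (hnorm : ∀ g : G, g • a0 = a0 → ∃ k : ℕ, g * w * g⁻¹ = w ^ k) :
    (∃ e : Ω ≃ GaloisField 2 q, ∀ g : G,
      e.symm.trans ((MulAction.toPerm g).trans e) ∈ Cfsg.semiaffineGroup (GaloisField 2 q)) ∧
    ∃ Φ : stabilizer G a0 →* (GaloisField 2 q ≃ₐ[ZMod 2] GaloisField 2 q),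
      ∀ g : stabilizer G a0, Φ g = 1 → ∃ i : ℕ, (g : G) = w ^ i := by
  classical
  have hcomm : ∀ x ∈ R, ∀ y ∈ R, x * y = y * x := fun x hx y hy => by
    have ix := inv_eq_of_mul_eq_one_right (h2 x hx)
    have iy := inv_eq_of_mul_eq_one_right (h2 y hy)
    have h := inv_eq_of_mul_eq_one_right (h2 _ (mul_mem hx hy))
    rw [mul_inv_rev, ix, iy] at h
    exact h.symm
  letI : CommGroup R := { (inferInstance : Group R) with
    mul_comm := fun x y => Subtype.ext (hcomm _ x.2 _ y.2) }
  let cj : G → (Additive R →+ Additive R) := fun g =>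
    { toFun := fun x => Additive.ofMul ⟨g * (Additive.toMul x : R) * g⁻¹,
        hRn.conj_mem _ (Additive.toMul x : R).2 g⟩
      map_zero' := by
        refine congrArg Additive.ofMul (Subtype.ext ?_)
        show g * 1 * g⁻¹ = 1
        group
      map_add' := fun x y => by
        refine congrArg Additive.ofMul (Subtype.ext ?_)
        show g * (((Additive.toMul x : R) : G) * (Additive.toMul y : R)) * g⁻¹ =
          (g * ((Additive.toMul x : R) : G) * g⁻¹) * (g * ((Additive.toMul y : R) : G) * g⁻¹)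
        group }
  let ρ : G →* AddMonoid.End (Additive R) :=
    { toFun := cj
      map_one' := by
        refine AddMonoidHom.ext fun x => congrArg Additive.ofMul (a₂ := Additive.toMul x) (Subtype.ext ?_)
        show (1 : G) * ((Additive.toMul x : R) : G) * (1 : G)⁻¹ = ((Additive.toMul x : R) : G)
        simp
      map_mul' := fun g h => by
        refine AddMonoidHom.ext fun x => congrArg Additive.ofMul (Subtype.ext ?_)
        show (g * h) * ((Additive.toMul x : R) : G) * (g * h)⁻¹ =
          g * (h * ((Additive.toMul x : R) : G) * h⁻¹) * g⁻¹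
        group }
  have ρ_apply : ∀ (g : G) (x : Additive R),
      ((Additive.toMul (ρ g x) : R) : G) = g * ((Additive.toMul x : R) : G) * g⁻¹ := fun _ _ => rfl
  have htr : ∀ x y : Additive R, x ≠ 0 → y ≠ 0 → ∃ i : ℕ, (ρ w ^ i) x = y := by
    intro x y hx hy
    obtain ⟨i, hi⟩ := htrans _ (Additive.toMul x : R).2 (fun e => hx (Subtype.ext e :
      (Additive.toMul x : R) = 1)) _ (Additive.toMul y : R).2
      (fun e => hy (Subtype.ext e : (Additive.toMul y : R) = 1))
    exact ⟨i, by rw [← map_pow]; exact congrArg Additive.ofMul (Subtype.ext hi :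
      (⟨_, hRn.conj_mem _ (Additive.toMul x : R).2 (w ^ i)⟩ : R) = (Additive.toMul y : R))⟩
  set S : Set (AddMonoid.End (Additive R)) := {ρ w} with hS
  letI : CommRing (Subring.closure S) := Subring.closureCommRingOfComm (by
    intro x hx y hy
    rw [Set.mem_singleton_iff.mp hx, Set.mem_singleton_iff.mp hy])
  let T : Subring.closure S := ⟨ρ w, Subring.subset_closure rfl⟩
  have hTi : ∀ (ψ : Subring.closure S) (i : ℕ) (x : Additive R),
      (ψ : AddMonoid.End (Additive R)) ((ρ w ^ i) x) =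
        (ρ w ^ i) ((ψ : AddMonoid.End (Additive R)) x) := by
    intro ψ i x
    have e := congrArg (fun z : Subring.closure S => (z : AddMonoid.End (Additive R)) x)
      (mul_comm ψ (T ^ i))
    simpa [T] using e
  have hinjψ : ∀ ψ : Subring.closure S, ψ ≠ 0 →
      ∀ x, (ψ : AddMonoid.End (Additive R)) x = 0 → x = 0 := by
    intro ψ hψ x hx
    by_contra hx0
    refine hψ (Subtype.ext (AddMonoidHom.ext fun y => ?_))
    by_cases hy : y = 0
    · rw [hy]; exact map_zero _
    obtain ⟨i, rfl⟩ := htr x y hx0 hy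
    show (ψ : AddMonoid.End (Additive R)) ((ρ w ^ i) x) = 0
    exact (hTi ψ i x).trans ((congrArg _ hx).trans (map_zero _))
  haveI : Finite (AddMonoid.End (Additive R)) :=
    Finite.of_injective (fun ψ => (ψ : Additive R → Additive R)) DFunLike.coe_injective
  haveI : Fintype (Subring.closure S) := Fintype.ofFinite _
  haveI : Nontrivial R := Finite.one_lt_card_iff_nontrivial.mp (by
    rw [hRc]; exact Nat.one_lt_two_pow hq.ne_zero)
  obtain ⟨x0, hx0⟩ := exists_ne (0 : Additive R)
  haveI : Nontrivial (Subring.closure S) := ⟨⟨1, 0, fun e => hx0 (by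
    exact congrArg (fun z : Subring.closure S => (z : AddMonoid.End (Additive R)) x0) e)⟩⟩
  haveI : IsDomain (Subring.closure S) := by
    haveI : NoZeroDivisors (Subring.closure S) := ⟨fun {ψ φ} h => by
      by_contra hne
      push Not at hne
      refine hne.2 (Subtype.ext (AddMonoidHom.ext fun x => hinjψ ψ hne.1 _ ?_))
      exact congrArg (fun z : Subring.closure S => (z : AddMonoid.End (Additive R)) x) h⟩
    exact NoZeroDivisors.to_isDomain _
  letI : Field (Subring.closure S) := Fintype.fieldOfDomain _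
  let ev : Subring.closure S →+ Additive R :=
    { toFun := fun ψ => (ψ : AddMonoid.End (Additive R)) x0
      map_zero' := rfl
      map_add' := fun _ _ => rfl }
  have hev : Function.Bijective ev := by
    refine ⟨(injective_iff_map_eq_zero ev).mpr fun ψ hψ => ?_, fun y => ?_⟩
    · by_contra hne
      exact hx0 (hinjψ ψ hne _ hψ)
    · by_cases hy : y = 0
      · exact ⟨0, by rw [map_zero, hy]⟩
      obtain ⟨i, hi⟩ := htr x0 y hx0 hy
      refine ⟨T ^ i, ?_⟩
      show ((T ^ i : Subring.closure S) : AddMonoid.End (Additive R)) x0 = y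
      rw [SubmonoidClass.coe_pow]
      exact hi
  have hcardE : Fintype.card (Subring.closure S) = 2 ^ q := by
    rw [← Nat.card_eq_fintype_card, Nat.card_congr (Equiv.ofBijective ev hev),
      Nat.card_congr Additive.toMul, hRc]
  haveI : Fintype (GaloisField 2 q) := Fintype.ofFinite _
  let ι : GaloisField 2 q ≃+* Subring.closure S := FiniteField.ringEquivOfCardEq (by
    rw [hcardE, ← Nat.card_eq_fintype_card, GaloisField.card 2 q hq.ne_zero])
  let η : GaloisField 2 q ≃+ Additive R := ι.toAddEquiv.trans (AddEquiv.ofBijective ev hev)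
  let ζ : GaloisField 2 q := ι.symm T
  have hη : ∀ (i : ℕ) (y : GaloisField 2 q), η (ζ ^ i * y) = (ρ w ^ i) (η y) := by
    intro i y
    show ((ι (ζ ^ i * y) : Subring.closure S) : AddMonoid.End (Additive R)) x0 = _
    rw [map_mul, map_pow, RingEquiv.apply_symm_apply, Subring.coe_mul, SubmonoidClass.coe_pow]
    rfl
  have hη1 : η 1 = x0 := by
    show ((ι 1 : Subring.closure S) : AddMonoid.End (Additive R)) x0 = _
    rw [map_one]
    rfl
  have hgen : ∀ c : GaloisField 2 q, c ≠ 0 → ∃ i : ℕ, c = ζ ^ i := by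
    intro c hc
    obtain ⟨i, hi⟩ := htr x0 (η c) hx0 fun h => hc (η.injective (h.trans (map_zero η).symm))
    refine ⟨i, η.injective ?_⟩
    rw [← mul_one (ζ ^ i), hη, hη1, hi]
  -- the map on coordinates of an element fixing the origin
  let ψ : G → (GaloisField 2 q →+ GaloisField 2 q) := fun g =>
    (η.symm.toAddMonoidHom.comp (ρ g : Additive R →+ Additive R)).comp η.toAddMonoidHom
  have hψ : ∀ g y, η (ψ g y) = ρ g (η y) := fun g y => η.apply_symm_apply _
  have hψinj : ∀ g, Function.Injective (ψ g) := by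
    intro g y y' h
    have h1 := congrArg η h
    rw [hψ, hψ] at h1
    have h2 := congrArg (ρ g⁻¹) h1
    refine η.injective ?_
    calc η y = (ρ g⁻¹ * ρ g) (η y) := by rw [← map_mul, inv_mul_cancel, map_one]; rfl
      _ = (ρ g⁻¹ * ρ g) (η y') := h2
      _ = η y' := by rw [← map_mul, inv_mul_cancel, map_one]; rfl
  have hψmul : ∀ g h y, ψ (g * h) y = ψ g (ψ h y) := fun g h y => η.injective (by
    rw [hψ, hψ, hψ, map_mul]
    rfl)
  have hψw : ∀ i y, ψ (w ^ i) y = ζ ^ i * y := fun i y => η.injective (by rw [hψ, hη, map_pow])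
  have hsemi : ∀ g : G, g • a0 = a0 → ∀ c y, ψ g (c * y) * ψ g 1 = ψ g c * ψ g y := by
    intro g hg c y
    by_cases hc : c = 0
    · simp [hc]
    obtain ⟨i, rfl⟩ := hgen c hc
    obtain ⟨k, hk⟩ := hnorm g hg
    have key : ∀ z, ψ g (ζ ^ i * z) = ζ ^ (k * i) * ψ g z := by
      intro z
      rw [← hψw i, ← hψmul, ← hψw (k * i), ← hψmul, pow_mul, ← hk, conj_pow, inv_mul_cancel_right]
    have h1 := key 1
    rw [mul_one] at h1
    rw [key, h1]
    ring
  have hβ : ∀ g, ψ g 1 ≠ 0 := fun g h => one_ne_zero (hψinj g (h.trans (map_zero _).symm))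
  have hex : ∀ g : stabilizer G a0, ∃ φ : GaloisField 2 q ≃ₐ[ZMod 2] GaloisField 2 q,
      ∀ y, ψ g y = ψ g 1 * φ y := by
    intro g
    let φ0 : GaloisField 2 q ≃+* GaloisField 2 q :=
      { Equiv.ofBijective (fun y => ψ g y / ψ g 1) (Finite.injective_iff_bijective.mp fun x y h =>
          hψinj g ((div_left_inj' (hβ g)).mp h)) with
        map_mul' := fun c y => by
          show ψ g (c * y) / ψ g 1 = ψ g c / ψ g 1 * (ψ g y / ψ g 1)
          rw [div_mul_div_comm, ← hsemi g g.2, mul_div_mul_right _ _ (hβ g)]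
        map_add' := fun c y => by
          show ψ g (c + y) / ψ g 1 = ψ g c / ψ g 1 + ψ g y / ψ g 1
          rw [map_add, add_div] }
    exact ⟨AlgEquiv.ofRingEquiv (f := φ0) fun r =>
      RingHom.congr_fun (Subsingleton.elim ((φ0.toRingHom).comp
        (algebraMap (ZMod 2) (GaloisField 2 q))) (algebraMap (ZMod 2) (GaloisField 2 q))) r,
      fun y => (mul_div_cancel₀ _ (hβ g)).symm⟩
  choose Φ hΦ using hex
  have hΦmul : ∀ g h : stabilizer G a0, Φ (g * h) = Φ g * Φ h := by
    intro g h
    refine AlgEquiv.ext fun y => ?_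
    have key : ∀ z, ψ ((g * h : stabilizer G a0) : G) z =
        ψ g 1 * Φ g (ψ h 1) * Φ g (Φ h z) := fun z => by
      rw [Subgroup.coe_mul, hψmul, hΦ h, hΦ g, map_mul, mul_assoc]
    have h1 := key 1
    rw [map_one (Φ h), map_one (Φ g), mul_one] at h1
    have h2 := key y
    rw [hΦ (g * h), h1] at h2
    exact mul_left_cancel₀ (h1 ▸ hβ _) h2
  refine ⟨?_, MonoidHom.mk' Φ hΦmul, fun g hg => ?_⟩
  · choose r hr hru using hreg
    let pos : GaloisField 2 q ≃ Ω :=
      (η.toEquiv.trans Additive.toMul).trans (Equiv.ofBijective (fun r : R => (r : G) • a0)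
        ⟨fun x y h => (hru _ x rfl).trans (hru _ y h.symm).symm, fun x => ⟨r x, hr x⟩⟩)
    have hpos : ∀ y, pos y = ((Additive.toMul (η y) : R) : G) • a0 := fun _ => rfl
    refine ⟨pos.symm, fun g => ?_⟩
    set b0 : R := r (g • a0) with hb0
    have hgs : (b0 : G)⁻¹ * g ∈ stabilizer G a0 := by
      rw [mem_stabilizer_iff, mul_smul, inv_smul_eq_iff]
      exact (hr _).symm
    set h : stabilizer G a0 := ⟨(b0 : G)⁻¹ * g, hgs⟩ with hh
    refine ⟨Units.mk0 _ (hβ h), η.symm (Additive.ofMul b0), (Φ h).toRingEquiv, fun y => ?_⟩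
    show pos.symm (g • pos y) = ψ h 1 * Φ h y + η.symm (Additive.ofMul b0)
    rw [Equiv.symm_apply_eq, hpos, hpos, ← hΦ, map_add, hψ, η.apply_symm_apply]
    have e1 : ((h : G) * ((Additive.toMul (η y) : R) : G) * (h : G)⁻¹) • a0 =
        (h : G) • ((Additive.toMul (η y) : R) : G) • a0 := by
      rw [mul_smul, mul_smul, inv_smul_eq_iff.2 (mem_stabilizer_iff.mp h.2).symm]
    rw [toMul_add, mul_comm, Subgroup.coe_mul, mul_smul, ρ_apply]
    rw [show ((Additive.toMul (Additive.ofMul b0) : R) : G) = (b0 : G) from rfl, e1, ← mul_smul (b0 : G),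
      show (b0 : G) * (h : G) = g from mul_inv_cancel_left _ _]
  · have hg' : Φ g = 1 := hg
    obtain ⟨i, hi⟩ := hgen _ (hβ g)
    refine ⟨i, (mul_inv_eq_one.mp (hfaith _ fun x => ?_))⟩
    obtain ⟨r, rfl, -⟩ := hreg x
    have hgi : (g : G)⁻¹ • a0 = a0 := inv_smul_eq_iff.2 (mem_stabilizer_iff.mp g.2).symm
    have hwi : w ^ i • a0 = a0 := by
      clear hi hg
      induction i with
      | zero => simp
      | succ i ih => rw [pow_succ, mul_smul, hw, ih]
    have key : ∀ s : R, (g : G) • (s : G) • a0 = w ^ i • (s : G) • a0 := fun s => by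
      have e : ψ g (η.symm (Additive.ofMul s)) = ψ (w ^ i) (η.symm (Additive.ofMul s)) := by
        rw [hΦ g, hg', AlgEquiv.one_apply, hψw, hi]
      have e' := congrArg (fun z => ((Additive.toMul (η z) : R) : G) • a0) e
      simp only [hψ, η.apply_symm_apply, ρ_apply, mul_smul] at e'
      rw [hgi, inv_smul_eq_iff.2 hwi.symm] at e'
      exact e'
    obtain ⟨s, hs, -⟩ := hreg ((w ^ i)⁻¹ • (r : G) • a0)
    rw [mul_smul, ← hs, key, hs, smul_inv_smul]

end Cfsg.Agent.Block.Zas
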